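import Mathlib
import Cfsg.Agent.H65.BaerSuzuki
import Cfsg.Agent.H65.Dihedral
import Cfsg.Agent.H69.FpfOrderThree
import Cfsg.Agent.H1.Cores

/-!
Groups in which centralisers of involutions are 2-groups: fixed-point-free action of odd elements on
2-subgroups, the 2-core of a subgroup, involutions inverting odd elements.
-/

set_option autoImplicit false
set_option linter.style.haveILetI false
set_option linter.unusedSectionVars false

namespace H11.CIT

open Subgroup

universe u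

variable {G : Type u} [Group G]

/-- The centraliser of every involution is a 2-group. -/
def IsCIT (G : Type u) [Group G] : Prop :=
  ∀ t : G, orderOf t = 2 → IsPGroup 2 (centralizer ({t} : Set G))

theorem mem_cent {x g : G} : g ∈ centralizer ({x} : Set G) ↔ g * x = x * g :=
  mem_centralizer_singleton_iff

theorem sq_eq_one {x : G} (hx : orderOf x = 2) : x * x = 1 := H65.mul_self_of_two hx

theorem orderOf_two {x : G} (h1 : x * x = 1) (h2 : x ≠ 1) : orderOf x = 2 :=
  H65.two_iff.2 ⟨h1, h2⟩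

/-- A non-trivial 2-subgroup contains an involution. -/
theorem exists_invol [Finite G] {P : Subgroup G} (hP : IsPGroup 2 P) (hne : P ≠ ⊥) :
    ∃ t ∈ P, orderOf t = 2 := by
  haveI : Nontrivial P := (nontrivial_iff_ne_bot P).2 hne
  haveI : Fact (Nat.Prime 2) := ⟨Nat.prime_two⟩
  obtain ⟨n, hn, hc⟩ := hP.nontrivial_iff_card.1 inferInstance
  obtain ⟨⟨t, ht⟩, h2⟩ := exists_prime_orderOf_dvd_card' (G := P) 2
    (hc ▸ dvd_pow_self 2 (Nat.pos_iff_ne_zero.1 hn))
  exact ⟨t, ht, by rwa [orderOf_mk] at h2⟩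

theorem orderOf_eq_two_pow [Finite G] {P : Subgroup G} (hP : IsPGroup 2 P) {x : G} (hx : x ∈ P) :
    ∃ k, orderOf x = 2 ^ k := by
  haveI : Fact (Nat.Prime 2) := ⟨Nat.prime_two⟩
  obtain ⟨k, hk⟩ := IsPGroup.iff_orderOf.1 hP ⟨x, hx⟩
  exact ⟨k, by rwa [orderOf_mk] at hk⟩

theorem eq_one_of_odd_mem [Finite G] {P : Subgroup G} (hP : IsPGroup 2 P) {x : G} (hx : x ∈ P)
    (ho : Odd (orderOf x)) : x = 1 := by
  obtain ⟨k, hk⟩ := orderOf_eq_two_pow hP hx
  rcases Nat.eq_zero_or_pos k with rfl | hk0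
  · exact orderOf_eq_one_iff.1 (by simpa using hk)
  · exact absurd (hk ▸ ho) (Nat.not_odd_iff_even.2 (by simp [Nat.even_pow, hk0.ne']))

variable [Finite G]

namespace IsCIT

variable (hG : IsCIT G)
include hG

/-- Non-trivial odd elements act fixed-point-freely on 2-subgroups. -/
theorem fpf {w x : G} (hw : Odd (orderOf w)) (hw1 : w ≠ 1) {k : ℕ} (hx : orderOf x = 2 ^ k)
    (hc : w * x = x * w) : x = 1 := by
  rcases Nat.eq_zero_or_pos k with rfl | hk
  · exact orderOf_eq_one_iff.1 (by simpa using hx)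
  exfalso
  set t := x ^ (2 ^ (k - 1)) with ht
  have ht2 : orderOf t = 2 := by
    rw [ht, orderOf_pow' _ (by positivity), hx,
      Nat.gcd_eq_right (Nat.pow_dvd_pow 2 (Nat.sub_le k 1)), Nat.pow_div (Nat.sub_le k 1) two_pos,
      show k - (k - 1) = 1 by omega, pow_one]
  exact hw1 (eq_one_of_odd_mem (hG t ht2)
    (mem_cent.2 ((show Commute w x from hc).pow_right _).eq) hw)

theorem fpf' {w x : G} {D : Subgroup G} (hD : IsPGroup 2 D) (hw : Odd (orderOf w)) (hw1 : w ≠ 1)
    (hx : x ∈ D) (hc : w * x = x * w) : x = 1 := by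
  obtain ⟨k, hk⟩ := orderOf_eq_two_pow hD hx
  exact hG.fpf hw hw1 hk hc

theorem subgroup (H : Subgroup G) : IsCIT H := by
  intro t ht x
  have ht' : orderOf (t : G) = 2 := by rwa [orderOf_coe]
  obtain ⟨k, hk⟩ := hG t ht' ⟨((x : H) : G),
    mem_cent.2 (congrArg Subtype.val (mem_cent.1 x.2))⟩
  exact ⟨k, Subtype.ext (Subtype.ext (congrArg Subtype.val hk :))⟩

/-- An element of odd order inverted by an involution `a` moves the fixed points of `a`. -/
theorem card_fix_sq {V : Subgroup G} (hV : IsPGroup 2 V) {a w : G} (ha : a * w * a⁻¹ = w⁻¹)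
    (hw : Odd (orderOf w)) (hw1 : w ≠ 1) {U : Subgroup G}
    (hU : U ≤ V ⊓ centralizer ({a} : Set G)) (hwU : ∀ q ∈ U, w * q * w⁻¹ ∈ V) :
    Nat.card U * Nat.card U ≤ Nat.card V := by
  rw [← Nat.card_prod]
  refine Nat.card_le_card_of_injective (fun p : U × U => (⟨(p.1 : G) * (w * p.2 * w⁻¹),
    V.mul_mem (hU p.1.2).1 (hwU _ p.2.2)⟩ : V)) ?_
  rintro ⟨p, q⟩ ⟨p', q'⟩ e
  have e' : (p : G) * (w * q * w⁻¹) = p' * (w * q' * w⁻¹) := congrArg Subtype.val e
  have h1 : (p' : G)⁻¹ * p = w * ((q' : G) * (q : G)⁻¹) * w⁻¹ := by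
    calc (p' : G)⁻¹ * p = (p' : G)⁻¹ * ((p : G) * (w * q * w⁻¹)) * (w * q * w⁻¹)⁻¹ := by group
      _ = (p' : G)⁻¹ * ((p' : G) * (w * q' * w⁻¹)) * (w * q * w⁻¹)⁻¹ := by rw [e']
      _ = w * ((q' : G) * (q : G)⁻¹) * w⁻¹ := by group
  set r : G := (q' : G) * (q : G)⁻¹ with hr
  have hrU : r ∈ U := mul_mem q'.2 (inv_mem q.2)
  have hra : a * r = r * a := (mem_cent.1 (hU hrU).2).symm
  have hwr : w * r * w⁻¹ ∈ centralizer ({a} : Set G) :=
    h1 ▸ (hU (mul_mem (inv_mem p'.2) p.2)).2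
  have h2 : a * (w * r * w⁻¹) = w * r * w⁻¹ * a := (mem_cent.1 hwr).symm
  have h3 : w⁻¹ * r * w = w * r * w⁻¹ := by
    calc w⁻¹ * r * w = (a * w * a⁻¹) * r * (a * w * a⁻¹)⁻¹ := by rw [ha, inv_inv]
      _ = a * w * (a⁻¹ * (r * a)) * w⁻¹ * a⁻¹ := by group
      _ = a * w * (a⁻¹ * (a * r)) * w⁻¹ * a⁻¹ := by rw [hra]
      _ = (a * (w * r * w⁻¹)) * a⁻¹ := by group
      _ = w * r * w⁻¹ := by rw [h2]; group
  have h4 : (w * w) * r = r * (w * w) := by
    calc (w * w) * r = w * (w * r * w⁻¹) * w := by group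
      _ = w * (w⁻¹ * r * w) * w := by rw [h3]
      _ = r * (w * w) := by group
  have hww : Odd (orderOf (w * w)) :=
    hw.of_dvd_nat (by rw [← sq]; exact orderOf_pow_dvd 2)
  have hww1 : w * w ≠ 1 := fun e1 => by
    have h2' := orderOf_dvd_of_pow_eq_one (n := 2) (show w ^ 2 = 1 by rw [sq]; exact e1)
    rcases (Nat.dvd_prime Nat.prime_two).1 h2' with h5 | h5
    · exact hw1 (orderOf_eq_one_iff.1 h5)
    · rw [h5] at hw; exact absurd hw (by decide)
  have hr1 : r = 1 := hG.fpf' hV hww hww1 (hU hrU).1 h4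
  have hq : q' = q := Subtype.ext (mul_inv_eq_one.1 hr1)
  subst hq
  exact Prod.ext (Subtype.ext (mul_right_cancel e')) rfl

/-- An element of order three acting fixed-point-freely turns commuting involutions into commuting
involutions. -/
theorem commute_conj {D : Subgroup G} (hD : IsPGroup 2 D) {w : G} (hw : orderOf w = 3)
    (hwD : w ∈ normalizer (D : Set G))
    {b c : G} (hb : b ∈ D) (hc : c ∈ D) (hb2 : b * b = 1) (hc2 : c * c = 1)
    (hbc : b * c = c * b) :
    b * (w * c * w⁻¹) = w * c * w⁻¹ * b := by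
  have hw1 : w ≠ 1 := fun e => by rw [e, orderOf_one] at hw; norm_num at hw
  have hw3 : w * w * w = 1 := by
    have := pow_orderOf_eq_one w
    rw [hw, pow_succ, pow_two] at this
    exact this
  let ρ : MulAut D :=
    { toFun := fun d => ⟨w * d * w⁻¹, (mem_normalizer_iff.1 hwD _).1 d.2⟩
      invFun := fun d => ⟨w⁻¹ * d * w, (mem_normalizer_iff''.1 hwD _).1 d.2⟩
      left_inv := fun d => Subtype.ext (by simp [mul_assoc])
      right_inv := fun d => Subtype.ext (by simp [mul_assoc])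
      map_mul' := fun d e => Subtype.ext (by simp [mul_assoc]) }
  have hρ : H69.Fpf.IsFpf ρ := by
    refine ⟨fun d => Subtype.ext ?_, fun d hd => Subtype.ext ?_⟩
    · show w * (w * (w * (d : G) * w⁻¹) * w⁻¹) * w⁻¹ = d
      calc w * (w * (w * (d : G) * w⁻¹) * w⁻¹) * w⁻¹
          = (w * w * w) * d * (w * w * w)⁻¹ := by group
        _ = d := by rw [hw3]; group
    · exact hG.fpf' hD (hw ▸ by decide) hw1 d.2
        (mul_inv_eq_iff_eq_mul.1 (congrArg Subtype.val hd))
  -- conjugation by `w`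
  set β := w * b * w⁻¹ with hβ
  set γ := w * c * w⁻¹ with hγ
  have hcomm : ∀ d ∈ D, d * (w * d * w⁻¹) = w * d * w⁻¹ * d := fun d hd =>
    congrArg Subtype.val (H69.Fpf.commute_rho hρ ⟨d, hd⟩)
  have hbβ : b * β = β * b := hcomm b hb
  have hcγ : c * γ = γ * c := hcomm c hc
  have hβ2 : β * β = 1 := by
    calc w * b * w⁻¹ * (w * b * w⁻¹) = w * (b * b) * w⁻¹ := by group
      _ = 1 := by rw [hb2]; group
  have hγ2 : γ * γ = 1 := by
    calc w * c * w⁻¹ * (w * c * w⁻¹) = w * (c * c) * w⁻¹ := by group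
      _ = 1 := by rw [hc2]; group
  have hβγ : β * γ = γ * β := by
    rw [hβ, hγ]
    calc w * b * w⁻¹ * (w * c * w⁻¹) = w * (b * c) * w⁻¹ := by group
      _ = w * (c * b) * w⁻¹ := by rw [hbc]
      _ = _ := by group
  -- `γ ↦ c γ` under `w`
  have hγw : w * γ * w⁻¹ = c * γ := by
    have h1 : w * γ * w⁻¹ = (c * γ)⁻¹ := congrArg Subtype.val (H69.Fpf.rho_sq hρ ⟨c, hc⟩)
    rw [h1, mul_inv_rev, inv_eq_of_mul_eq_one_right hγ2, inv_eq_of_mul_eq_one_right hc2, hcγ]
  -- the product `b c` commutes with its conjugate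
  have hE : b * c * (β * γ) = β * γ * (b * c) := by
    have := hcomm (b * c) (mul_mem hb hc)
    rw [show w * (b * c) * w⁻¹ = β * γ by rw [hβ, hγ]; group] at this
    exact this
  set X := b * γ * b * γ with hX
  have hcβ : c * β = β * X * c := by
    calc c * β = (b * b) * (c * β) * (γ * γ) := by rw [hb2, hγ2, one_mul, mul_one]
      _ = b * (b * c * (β * γ)) * γ := by group
      _ = b * (β * γ * (b * c)) * γ := by rw [hE]
      _ = (b * β) * γ * b * (c * γ) := by group
      _ = (β * b) * γ * b * (γ * c) := by rw [hbβ, hcγ]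
      _ = β * X * c := by rw [hX]; group
  have hXY : β * c * β * c = X := by
    calc β * c * β * c = β * (c * β) * c := by group
      _ = (β * β) * X * (c * c) := by rw [hcβ]; group
      _ = X := by rw [hβ2, hc2, one_mul, mul_one]
  have hwX : w * X = X * w := by
    have h1 : w * X * w⁻¹ = X := by
      calc w * X * w⁻¹ = β * (w * γ * w⁻¹) * β * (w * γ * w⁻¹) := by rw [hX, hβ]; group
        _ = β * (c * γ) * β * (c * γ) := by rw [hγw]
        _ = β * c * (γ * β) * (c * γ) := by group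
        _ = β * c * (β * γ) * (γ * c) := by rw [hβγ, hcγ]
        _ = β * c * β * (γ * γ) * c := by group
        _ = β * c * β * c := by rw [hγ2, mul_one]
        _ = X := hXY
    exact mul_inv_eq_iff_eq_mul.1 h1
  have hγD : γ ∈ D := (mem_normalizer_iff.1 hwD _).1 hc
  have hX1 : X = 1 := hG.fpf' hD (hw ▸ by decide) hw1
    (mul_mem (mul_mem (mul_mem hb hγD) hb) hγD) hwX
  calc b * γ = b * γ * (b * b) * (γ * γ) := by rw [hb2, hγ2, mul_one, mul_one]
    _ = b * γ * b * (b * γ) * γ := by group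
    _ = (b * γ * b * γ) * (γ * b * γ) * γ := by
        rw [show (b * γ * b * γ) * (γ * b * γ) * γ = b * γ * b * (γ * γ) * (b * γ) * γ by group,
          hγ2, mul_one]
    _ = γ * b := by rw [← hX, hX1, one_mul, mul_assoc, hγ2, mul_one]

end IsCIT

end H11.CIT
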