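import Cfsg.Agent.H11.CIT.Basic
import Cfsg.Agent.H94.Plane
import Cfsg.Prelude.Def_Sz

/-!
Interfaces for the classification of simple groups with 2-group involution centralisers.
-/

set_option autoImplicit false

namespace H11.CIT

universe u

/-- `PSL₂(q)` with `q = 9`, a power of two, or a Fermat or Mersenne prime; `PSL₃(4)`; or a Suzuki
group. -/
def CITList (G : Type u) [Group G] : Prop :=
  (∃ (F : Type) (_ : Field F) (_ : Fintype F),
      (Fintype.card F = 9 ∨ (∃ n : ℕ, Fintype.card F = 2 ^ n) ∨
        ((Fintype.card F).Prime ∧ ∃ k : ℕ, Fintype.card F = 2 ^ k + 1 ∨ Fintype.card F + 1 = 2 ^ k)) ∧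
      Nonempty (G ≃* Matrix.ProjectiveSpecialLinearGroup (Fin 2) F)) ∨
  (∃ (F : Type) (_ : Field F) (_ : Fintype F), Fintype.card F = 4 ∧
      Nonempty (G ≃* Matrix.ProjectiveSpecialLinearGroup (Fin 3) F)) ∨
  Cfsg.Lie.IsoSuzuki G

/-- The classification of the simple groups with 2-group involution centralisers. -/
def CITClass : Prop :=
  ∀ (G : Type u) [Group G] [Finite G] [IsSimpleGroup G], ¬ IsMulCommutative G → IsCIT G → CITList G

/-- A simple group of order 20160 acting faithfully on a projective plane of order four is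
`PSL₃(4)`. -/
def PlaneRecognition : Prop :=
  ∀ (G : Type u) [Group G] [Finite G] [IsSimpleGroup G] (P : Type u) [Fintype P] [DecidableEq P]
    [MulAction G P] [FaithfulSMul G P] (L : Set (Finset P)),
    H94.Plane4.IsPlane L → (∀ g : G, ∀ l ∈ L, l.image (fun p => g • p) ∈ L) →
    Nat.card G = 20160 →
    ∃ (F : Type) (_ : Field F) (_ : Fintype F), Fintype.card F = 4 ∧
      Nonempty (G ≃* Matrix.ProjectiveSpecialLinearGroup (Fin 3) F)

end H11.CIT
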