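import Cfsg.Agent.H11.CIT.Rank
import Cfsg.Agent.H11.CIT.Interface
import Cfsg.Agent.S3224
import Cfsg.Agent.H67.Transfer2
import Cfsg.Agent.H65.DihedralFinal
import Cfsg.Agent.H33.HalfTransitive

/-!
A simple group with 2-group involution centralisers and a self-centralising four-group is
`PSL₂(q)` with `q = 9` or a Fermat or Mersenne prime.
-/

set_option autoImplicit false
set_option linter.style.haveILetI false
set_option linter.unusedSectionVars false

namespace H11.CIT

open Subgroup

universe u

variable {G : Type u} [Group G] [Finite G]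

/-- A self-centralising four-group forces `PSL₂(q)`, `q` odd. -/
theorem exc_psl [IsSimpleGroup G] (hG : IsCIT G) (hexc : Exc G) :
    ∃ (F : Type) (_ : Field F) (_ : Fintype F), Odd (Fintype.card F) ∧
      Nonempty (G ≃* Matrix.ProjectiveSpecialLinearGroup (Fin 2) F) := by
  classical
  haveI : Fact (Nat.Prime 2) := ⟨Nat.prime_two⟩
  obtain ⟨V, R, hVe, hV4, hCV, hVR, hRV, hR2, hR8⟩ := hexc
  obtain ⟨S, hS⟩ := hR2.exists_le_sylow
  have hS8 : 8 ≤ Nat.card (S : Subgroup G) := hR8 ▸ Subgroup.card_le_of_le hS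
  haveI : Nontrivial (S : Subgroup G) := Finite.one_lt_card_iff_nontrivial.1 (by omega)
  haveI := S.isPGroup'.center_nontrivial
  obtain ⟨z₀, hz₀, hz₀2⟩ := exists_invol (P := (center (S : Subgroup G)).map (S : Subgroup G).subtype)
    ((S.isPGroup'.to_subgroup _).map _) (by
      rw [Ne, map_eq_bot_iff_of_injective _ (S : Subgroup G).subtype_injective]
      exact (nontrivial_iff_ne_bot _).1 inferInstance)
  obtain ⟨z, hz, rfl⟩ := hz₀
  replace hz₀2 : orderOf (z : G) = 2 := hz₀2
  have hzS : ∀ s ∈ (S : Subgroup G), s * (z : G) = z * s := fun s hs =>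
    congrArg Subtype.val (mem_center_iff.1 hz ⟨s, hs⟩)
  have hzV : (z : G) ∈ V := by
    rw [← hCV]
    exact mem_centralizer_iff.2 fun v hv => hzS v (hS (hVR hv))
  letI := Fintype.ofFinite V
  obtain ⟨a, haV, ha1, haz⟩ : ∃ a ∈ V, a ≠ 1 ∧ a ≠ (z : G) := by
    by_contra hall
    push Not at hall
    have h4 : 2 < Fintype.card V := by rw [← Nat.card_eq_fintype_card, hV4]; norm_num
    obtain ⟨p, q, r, hpq, hpr, hqr⟩ := Fintype.two_lt_card_iff.1 h4
    have key : ∀ x : V, (x : G) = 1 ∨ (x : G) = z := fun x => or_iff_not_imp_left.2 (hall x x.2)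
    rcases key p with h1 | h1 <;> rcases key q with h2 | h2 <;> rcases key r with h3 | h3 <;>
      first
        | exact hpq (Subtype.ext (h1.trans h2.symm))
        | exact hpr (Subtype.ext (h1.trans h3.symm))
        | exact hqr (Subtype.ext (h2.trans h3.symm))
  set a' : (S : Subgroup G) := ⟨a, hS (hVR haV)⟩ with ha'
  have ha'2 : orderOf a' = 2 := by rw [ha', orderOf_mk]; exact orderOf_two (hVe a haV) ha1
  have hC4 : Nat.card (centralizer ({a'} : Set (S : Subgroup G))) = 4 := by
    rw [← hV4]
    refine le_antisymm ?_ (Nat.card_le_card_of_injective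
      (fun v : V => (⟨⟨v, hS (hVR v.2)⟩, mem_cent.2 (Subtype.ext (hVe.comm v.2 haV))⟩ :
        centralizer ({a'} : Set (S : Subgroup G))))
      fun u v e => Subtype.ext (congrArg (fun x : centralizer ({a'} : Set (S : Subgroup G)) =>
        ((x : (S : Subgroup G)) : G)) e))
    refine Nat.card_le_card_of_injective (fun x => (⟨((x : (S : Subgroup G)) : G), ?_⟩ : V)) ?_
    · rw [← hCV]
      refine mem_centralizer_iff.2 fun v hv => ?_
      have hxa : ((x : (S : Subgroup G)) : G) * a = a * (x : (S : Subgroup G)) :=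
        congrArg Subtype.val (mem_cent.1 x.2)
      have hxz := hzS _ (x : (S : Subgroup G)).2
      have hW : closure ({a, (z : G)} : Set G) = V := by
        refine eq_of_le_of_card_ge ((closure_le _).2 (by rintro y (rfl | rfl) <;> assumption)) ?_
        set W := closure ({a, (z : G)} : Set G)
        letI := Fintype.ofFinite W
        have haW : a ∈ W := subset_closure (by simp)
        have hzW : (z : G) ∈ W := subset_closure (by simp)
        have h4 : 2 < Fintype.card W := Fintype.two_lt_card_iff.2 ⟨1, ⟨a, haW⟩, ⟨z, hzW⟩,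
          fun e => ha1 (congrArg Subtype.val e).symm,
          fun e => H65.ne_one_of_two hz₀2 (congrArg Subtype.val e).symm,
          fun e => haz (congrArg Subtype.val e)⟩
        rw [← Nat.card_eq_fintype_card] at h4
        obtain ⟨k, hk⟩ := IsPGroup.iff_card.1 (hVe.isPGroup.to_le ((closure_le _).2 (by
          rintro y (rfl | rfl) <;> assumption) : W ≤ V))
        rw [hk] at h4
        rw [hV4, hk]
        have hk2 : 2 ≤ k := by
          by_contra hlt
          interval_cases k <;> simp at h4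
        exact (show 4 = 2 ^ 2 by norm_num).le.trans (Nat.pow_le_pow_right (by norm_num) hk2)
      rw [← hW] at hv
      induction hv using closure_induction with
      | mem y hy =>
        rcases hy with rfl | rfl
        exacts [hxa.symm, hxz.symm]
      | one => rw [one_mul, mul_one]
      | mul y y' _ _ hy hy' => exact ((show Commute y _ from hy).mul_left hy').eq
      | inv y _ hy => exact (show Commute y _ from hy).inv_left.eq
    · intro x y e
      exact Subtype.ext (Subtype.ext (congrArg Subtype.val e :))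
  have hCz : centralizer ({(z : G)} : Set G) = (S : Subgroup G) :=
    S.is_maximal' (hG _ hz₀2) fun s hs => mem_cent.2 (hzS s hs)
  rcases Cfsg.Agent.S3224.result S.isPGroup' a' ha'2 hC4 with ⟨n, ⟨e⟩⟩ | hQD | hfour
  · have hn : 2 ≤ n := by
      by_contra hlt
      have hc := Nat.card_congr e.toEquiv
      rcases Nat.eq_zero_or_pos n with rfl | hn0
      · haveI : Finite (DihedralGroup 0) := Finite.of_equiv _ e.toEquiv
        exact not_finite (DihedralGroup 0)
      · haveI : NeZero n := ⟨hn0.ne'⟩
        rw [DihedralGroup.nat_card] at hc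
        omega
    have hO : (Cfsg.oddCore (centralizer ({(z : G)} : Set G))).map
        (centralizer ({(z : G)} : Set G)).subtype = ⊥ := by
      rw [map_eq_bot_iff_of_injective _ (Subgroup.subtype_injective _)]
      refine Subgroup.card_eq_one.1 ?_
      obtain ⟨j, hj⟩ := IsPGroup.iff_card.1
        ((hG _ hz₀2).to_subgroup (Cfsg.oddCore (centralizer ({(z : G)} : Set G))))
      rw [hj]
      rcases Nat.eq_zero_or_pos j with rfl | hj0
      · rfl
      · exfalso
        exact Nat.prime_two.coprime_iff_not_dvd.1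
          (H1.card_pPrimeCore_coprime 2 (centralizer ({(z : G)} : Set G))).symm
          (hj ▸ dvd_pow_self 2 hj0.ne')
    obtain ⟨F, _, _, hodd, ⟨φ⟩⟩ := H65.dihedral_final S n hn e (z : G) hz₀2 z.2 hzS ⊥ hO.symm
      (by rw [Subgroup.card_bot]; exact odd_one) (fun hne => absurd rfl hne)
      (fun s _ hs y hy => by rw [mem_bot.1 hy, mul_one, mul_inv_cancel, inv_one])
      (fun Y hY hY1 => absurd (le_bot_iff.1 hY) hY1)
    exact ⟨F, inferInstance, inferInstance, hodd, ⟨φ⟩⟩
  · exfalso
    obtain ⟨n, hn, hcard, x, y, hx, hy, hyx⟩ := hQD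
    set N := 2 ^ (n - 1) with hN
    have hxN : ∀ i : ℕ, y * x ^ i * y⁻¹ = x ^ ((N - 1) * i) := fun i => by
      rw [← conj_pow, hyx, ← pow_mul]
    have hN1 : 1 ≤ N := Nat.one_le_two_pow
    have h2N : 2 * N = 2 ^ n := by rw [hN, ← pow_succ']; congr 1; omega
    have hNev : 2 ∣ N := dvd_pow_self 2 (by omega)
    have hyy : y * y = 1 := sq_eq_one hy
    -- the cyclic subgroup of index two
    have hidx : (zpowers x).index = 2 := by
      have h1 := Subgroup.card_mul_index (zpowers x)
      rw [Nat.card_zpowers, hx, hcard, pow_succ] at h1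
      exact Nat.eq_of_mul_eq_mul_left (by positivity) h1
    have hyX : y ∉ zpowers x := by
      intro hmem
      obtain ⟨i, hi⟩ := hmem
      have h1 : y * x * y⁻¹ = x := mul_inv_eq_iff_eq_mul.2
        (hi ▸ ((Commute.refl x).zpow_left i).eq)
      rw [hyx] at h1
      have h2 : x ^ (N - 1 - 1) = 1 := by
        rw [← mul_right_inj (x), ← pow_succ', mul_one, show N - 1 - 1 + 1 = N - 1 by omega]
        exact h1
      have h3 := orderOf_dvd_of_pow_eq_one h2
      rw [hx] at h3
      have h4 : N - 1 - 1 = 0 := Nat.eq_zero_of_dvd_of_lt h3 (by omega)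
      have : 4 ≤ N := by
        rw [hN, show 4 = 2 ^ 2 by norm_num]
        exact Nat.pow_le_pow_right (by norm_num) (by omega)
      omega
    have hform : ∀ s : (S : Subgroup G), ∃ i : ℕ, s = x ^ i ∨ s = x ^ i * y := by
      intro s
      have hmem : ∀ v ∈ zpowers x, ∃ i : ℕ, v = x ^ i := fun v hv => by
        rw [← mem_powers_iff_mem_zpowers, Submonoid.mem_powers_iff] at hv
        exact hv.imp fun i hi => hi.symm
      by_cases hs : s ∈ zpowers x
      · obtain ⟨i, hi⟩ := hmem s hs
        exact ⟨i, Or.inl hi⟩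
      · obtain ⟨i, hi⟩ := hmem (s * y) ((mul_mem_iff_of_index_two hidx).2 (iff_of_false hs hyX))
        exact ⟨i, Or.inr (by rw [← hi, mul_assoc, hyy, mul_one])⟩
    have hsq : ∀ i : ℕ, (x ^ i * y) * (x ^ i * y) = x ^ (N * i) := fun i => by
      calc (x ^ i * y) * (x ^ i * y) = x ^ i * (y * x ^ i * y⁻¹) * (y * y) := by group
        _ = x ^ i * x ^ ((N - 1) * i) := by rw [hxN, hyy, mul_one]
        _ = x ^ (N * i) := by
          rw [← pow_add]
          congr 1
          calc i + (N - 1) * i = (N - 1 + 1) * i := by ring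
            _ = N * i := by rw [Nat.sub_add_cancel hN1]
    -- the dihedral maximal subgroup
    let M₀ : Subgroup (S : Subgroup G) :=
      { carrier := {s | ∃ i : ℕ, 2 ∣ i ∧ (s = x ^ i ∨ s = x ^ i * y)}
        one_mem' := ⟨0, dvd_zero 2, Or.inl (pow_zero x).symm⟩
        mul_mem' := by
          rintro s t ⟨i, hi, rfl | rfl⟩ ⟨j, hj, rfl | rfl⟩
          · exact ⟨i + j, dvd_add hi hj, Or.inl (pow_add x i j).symm⟩
          · exact ⟨i + j, dvd_add hi hj, Or.inr (by rw [pow_add, mul_assoc])⟩
          · refine ⟨i + (N - 1) * j, dvd_add hi (hj.mul_left _), Or.inr ?_⟩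
            rw [pow_add, ← hxN]
            group
          · refine ⟨i + (N - 1) * j, dvd_add hi (hj.mul_left _), Or.inl ?_⟩
            rw [pow_add, ← hxN]
            calc x ^ i * y * (x ^ j * y) = x ^ i * (y * x ^ j * y⁻¹) * (y * y) := by group
              _ = _ := by rw [hyy, mul_one]
        inv_mem' := by
          rintro s ⟨i, hi, rfl | rfl⟩
          · refine ⟨(2 ^ n - 1) * i, hi.mul_left _, Or.inl ?_⟩
            refine inv_eq_of_mul_eq_one_right ?_
            rw [← pow_add, show i + (2 ^ n - 1) * i = (2 ^ n - 1 + 1) * i by ring,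
              Nat.sub_add_cancel Nat.one_le_two_pow, pow_mul, ← hx, pow_orderOf_eq_one, one_pow]
          · refine ⟨(2 ^ n - 1) * ((N - 1) * i), (hi.mul_left _).mul_left _, Or.inr ?_⟩
            refine inv_eq_of_mul_eq_one_right ?_
            have h1 : x ^ ((2 ^ n - 1) * ((N - 1) * i)) * x ^ ((N - 1) * i) = 1 := by
              rw [← pow_add, show (2 ^ n - 1) * ((N - 1) * i) + (N - 1) * i =
                (2 ^ n - 1 + 1) * ((N - 1) * i) by ring, Nat.sub_add_cancel Nat.one_le_two_pow,
                pow_mul, ← hx, pow_orderOf_eq_one, one_pow]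
            set c := x ^ ((2 ^ n - 1) * ((N - 1) * i))
            have h2 : c = y * (x ^ i)⁻¹ * y⁻¹ := by
              rw [eq_inv_of_mul_eq_one_left h1, ← hxN]
              group
            rw [h2]
            calc x ^ i * y * (y * (x ^ i)⁻¹ * y⁻¹ * y) = x ^ i * (y * y) * (x ^ i)⁻¹ := by group
              _ = 1 := by rw [hyy]; group }
    have hyM : y ∈ M₀ := ⟨0, dvd_zero 2, Or.inr (by rw [pow_zero, one_mul])⟩
    have hxyM : ∀ i : ℕ, x ^ i * y ∈ M₀ → 2 ∣ i := by
      rintro i ⟨j, hj, e' | e'⟩
      · exfalso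
        refine hyX ?_
        rw [show y = (x ^ i)⁻¹ * x ^ j by rw [← e']; group]
        exact mul_mem (inv_mem (pow_mem (mem_zpowers x) _)) (pow_mem (mem_zpowers x) _)
      · have h1 : i ≡ j [MOD 2 ^ n] := by rw [← hx]; exact pow_eq_pow_iff_modEq.1 (mul_right_cancel e')
        have h2 : i ≡ j [MOD 2] := h1.of_dvd (dvd_pow_self 2 (by omega))
        exact Nat.modEq_zero_iff_dvd.1 (h2.trans (Nat.modEq_zero_iff_dvd.2 hj))
    have hinvol : ∀ s : (S : Subgroup G), s * s = 1 → s ∈ M₀ := by
      intro s hs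
      obtain ⟨i, rfl | rfl⟩ := hform s
      · refine ⟨i, ?_, Or.inl rfl⟩
        rw [← pow_add] at hs
        have h1 := orderOf_dvd_of_pow_eq_one hs
        rw [hx, ← h2N] at h1
        exact hNev.trans ((Nat.mul_dvd_mul_iff_left two_pos).1 (two_mul i ▸ h1))
      · refine ⟨i, ?_, Or.inr rfl⟩
        rw [hsq] at hs
        have h1 := orderOf_dvd_of_pow_eq_one hs
        rw [hx, ← h2N, mul_comm N i] at h1
        exact (Nat.mul_dvd_mul_iff_right (by omega)).1 h1
    have hxN2 : orderOf (x ^ N) = 2 := by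
      rw [orderOf_pow, hx, Nat.gcd_eq_right ⟨2, by omega⟩, ← h2N,
        Nat.mul_div_cancel _ (by omega : 0 < N)]
    -- an involution which is a square is `x ^ N`
    have hsqinv : ∀ s : (S : Subgroup G), s * s ≠ 1 → (s * s) * (s * s) = 1 → s * s = x ^ N := by
      intro s h1 h2
      obtain ⟨i, hi⟩ : ∃ i, s * s = x ^ i := by
        obtain ⟨i, rfl | rfl⟩ := hform s
        · exact ⟨i + i, (pow_add x i i).symm⟩
        · exact ⟨N * i, hsq i⟩
      rw [hi] at h1 h2 ⊢
      rw [← pow_add] at h2
      have h3 := orderOf_dvd_of_pow_eq_one h2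
      rw [hx, ← h2N] at h3
      obtain ⟨c, rfl⟩ := (Nat.mul_dvd_mul_iff_left two_pos).1 (two_mul i ▸ h3)
      rw [pow_mul] at h1 ⊢
      rcases Nat.even_or_odd' c with ⟨d, rfl | rfl⟩
      · exfalso
        apply h1
        rw [← pow_mul, ← mul_assoc, mul_comm N 2, h2N, pow_mul, ← hx, pow_orderOf_eq_one, one_pow]
      · rw [pow_succ, pow_mul, sq, sq_eq_one hxN2, one_pow, one_mul]
    have hM₀i : M₀.index = 2 := by
      refine index_eq_two_iff.2 ⟨x, fun s => ?_⟩
      obtain ⟨i, hi⟩ := hform s
      have hxs : s * x ∈ M₀ ↔ ¬ (s ∈ M₀) := by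
        rcases hi with rfl | rfl
        · have hcase : ∀ i : ℕ, x ^ i ∈ M₀ ↔ 2 ∣ i := fun i => ⟨by
            rintro ⟨j, hj, e' | e'⟩
            · have h1 : i ≡ j [MOD 2 ^ n] := by rw [← hx]; exact pow_eq_pow_iff_modEq.1 e'
              have h2 : i ≡ j [MOD 2] := h1.of_dvd (dvd_pow_self 2 (by omega))
              exact Nat.modEq_zero_iff_dvd.1 (h2.trans (Nat.modEq_zero_iff_dvd.2 hj))
            · exfalso
              refine hyX ?_
              rw [show y = (x ^ j)⁻¹ * x ^ i by rw [e']; group]
              exact mul_mem (inv_mem (pow_mem (mem_zpowers x) _)) (pow_mem (mem_zpowers x) _),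
            fun hi => ⟨i, hi, Or.inl rfl⟩⟩
          rw [← pow_succ, hcase, hcase]
          omega
        · have h2 : x ^ i * y * x = x ^ (i + (N - 1)) * y := by
            rw [pow_add, ← hyx]
            group
          have hcase : ∀ i : ℕ, x ^ i * y ∈ M₀ ↔ 2 ∣ i := fun i =>
            ⟨hxyM i, fun hi => ⟨i, hi, Or.inr rfl⟩⟩
          rw [h2, hcase, hcase]
          omega
      by_cases hs : s ∈ M₀
      · exact Or.inr ⟨hs, fun h' => hxs.1 h' hs⟩
      · exact Or.inl ⟨hxs.2 hs, hs⟩
    haveI : M₀.Normal := normal_of_index_eq_two hM₀i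
    -- transfer of `x * y`
    set u := x * y with hu
    have huu : u * u = x ^ N := by simpa [hu] using hsq 1
    have hzN : (z : G) = ((x ^ N : (S : Subgroup G)) : G) := by
      have h1 : x ^ N ∈ center (S : Subgroup G) := by
        refine mem_center_iff.2 fun s => ?_
        have hy' : y * x ^ N = x ^ N * y := by
          refine mul_inv_eq_iff_eq_mul.1 ?_
          rw [hxN]
          obtain ⟨c, hc⟩ := hNev
          rw [show (N - 1) * N = 2 * N * (c - 1) + N by
            rw [hc]
            rcases c with _ | c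
            · omega
            · simp [Nat.sub_mul]; ring_nf; omega]
          rw [pow_add, pow_mul, h2N, ← hx, pow_orderOf_eq_one, one_pow, one_mul]
        obtain ⟨i, rfl | rfl⟩ := hform s
        · exact (pow_mul_comm x i N)
        · rw [mul_assoc, hy', ← mul_assoc, ← mul_assoc, pow_mul_comm]
      have h2 : ((x ^ N : (S : Subgroup G)) : G) ∈ V := by
        rw [← hCV]
        exact mem_centralizer_iff.2 fun v hv =>
          congrArg Subtype.val (mem_center_iff.1 h1 ⟨v, hS (hVR hv)⟩)
      by_contra hne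
      -- two central involutions would make `a` central
      have hzz : z * z = 1 := Subtype.ext (sq_eq_one hz₀2)
      obtain ⟨i, hi | hi⟩ := hform z
      · have h3 : x ^ i * x ^ i = 1 := by rw [← hi]; exact hzz
        rw [← pow_add] at h3
        have h4 := orderOf_dvd_of_pow_eq_one h3
        rw [hx, ← h2N] at h4
        obtain ⟨c, rfl⟩ := (Nat.mul_dvd_mul_iff_left two_pos).1 (two_mul i ▸ h4)
        rcases Nat.even_or_odd' c with ⟨d, rfl | rfl⟩
        · refine H65.ne_one_of_two hz₀2 ?_
          rw [hi, ← mul_assoc, mul_comm N 2, h2N, pow_mul, ← hx, pow_orderOf_eq_one, one_pow]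
          rfl
        · refine hne ?_
          rw [hi, mul_add, mul_one, ← mul_assoc, mul_comm N 2, h2N, pow_add, pow_mul, ← hx,
            pow_orderOf_eq_one, one_pow, one_mul]
      · -- `z` outside the cyclic subgroup would centralise `x`
        have h3 : y * x * y⁻¹ = x := by
          have h4 := mem_center_iff.1 hz x
          rw [hi] at h4
          refine mul_inv_eq_iff_eq_mul.2 (mul_left_cancel (a := x ^ i) ?_)
          rw [← mul_assoc, ← mul_assoc, ← pow_succ, pow_succ']
          rw [← h4]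
          group
        rw [hyx] at h3
        have h5 : x ^ (N - 1 - 1) = 1 := by
          rw [← mul_right_inj x, ← pow_succ', mul_one, show N - 1 - 1 + 1 = N - 1 by omega]
          exact h3
        have h6 := orderOf_dvd_of_pow_eq_one h5
        rw [hx] at h6
        have h7 : N - 1 - 1 = 0 := Nat.eq_zero_of_dvd_of_lt h6 (by omega)
        have : 4 ≤ N := by
          rw [hN, show 4 = 2 ^ 2 by norm_num]
          exact Nat.pow_le_pow_right (by norm_num) (by omega)
        omega
    have hxn : x ^ N ≠ 1 := H65.ne_one_of_two hxN2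
    obtain ⟨K, hK, hKi, -⟩ := H67.exists_index_two_of_fusion S
      (M₀.map (S : Subgroup G).subtype) (map_subtype_le _)
      (by rw [relIndex, subgroupOf, comap_map_eq_self_of_injective (Subgroup.subtype_injective _), hM₀i])
      (u : G) u.2
      (by
        intro g hg hgM
        obtain ⟨m, hm, hme⟩ := hgM
        have hme' : (m : G) = g * u * g⁻¹ := hme
        have h1 : ((m * m : (S : Subgroup G)) : G) = g * (z : G) * g⁻¹ := by
          rw [hzN, ← huu, Subgroup.coe_mul, Subgroup.coe_mul, hme']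
          group
        have h2 : m * m = x ^ N := by
          refine hsqinv m (fun e' => ?_) ?_
          · rw [e', Subgroup.coe_one] at h1
            exact H65.ne_one_of_two hz₀2 (conj_eq_one_iff.1 h1.symm)
          · refine Subtype.ext ?_
            rw [Subgroup.coe_mul, h1, show g * (z : G) * g⁻¹ * (g * (z : G) * g⁻¹) =
              g * ((z : G) * z) * g⁻¹ by group, sq_eq_one hz₀2, Subgroup.coe_one]
            group
        have hgS : g ∈ (S : Subgroup G) := by
          rw [← hCz]
          refine mem_cent.2 (mul_inv_eq_iff_eq_mul.1 ?_)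
          rw [← h1, h2, hzN]
        have h3 : (⟨g, hgS⟩ : (S : Subgroup G)) * u * ⟨g, hgS⟩⁻¹ ∈ M₀ := by
          rw [show (⟨g, hgS⟩ : (S : Subgroup G)) * u * ⟨g, hgS⟩⁻¹ = m from Subtype.ext hme'.symm]
          exact hm
        have h4 : u ∈ M₀ := by
          have h5 := (inferInstance : M₀.Normal).conj_mem _ h3 ⟨g, hgS⟩⁻¹
          rwa [show (⟨g, hgS⟩ : (S : Subgroup G))⁻¹ * (⟨g, hgS⟩ * u * ⟨g, hgS⟩⁻¹) * ⟨g, hgS⟩⁻¹⁻¹ = u
            by group] at h5
        have := hxyM 1 (by rw [pow_one]; exact h4)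
        omega)
      (by
        intro g k hk
        refine ⟨⟨_, hk⟩, hinvol _ (Subtype.ext ?_), rfl⟩
        show g * (u : G) ^ (2 * k) * g⁻¹ * (g * (u : G) ^ (2 * k) * g⁻¹) = 1
        have h1 : (u : G) ^ (2 * k) * (u : G) ^ (2 * k) = 1 := by
          have h2 : u ^ (2 * k) * u ^ (2 * k) = 1 := by
            rw [pow_mul, sq, huu, ← (Commute.refl _).mul_pow, sq_eq_one hxN2, one_pow]
          exact_mod_cast congrArg Subtype.val h2
        calc g * (u : G) ^ (2 * k) * g⁻¹ * (g * (u : G) ^ (2 * k) * g⁻¹)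
            = g * ((u : G) ^ (2 * k) * (u : G) ^ (2 * k)) * g⁻¹ := by group
          _ = 1 := by rw [h1]; group)
    rcases hK.eq_bot_or_eq_top with rfl | rfl
    · rw [index_bot] at hKi
      exact absurd (hKi ▸ Subgroup.card_le_card_group (S : Subgroup G)) (by omega)
    · rw [index_top] at hKi
      omega
  · omega

/-- The odd fields. -/
theorem psl_odd_cit (hG : IsCIT G) {F : Type} [Field F] [Fintype F] (hodd : Odd (Fintype.card F))
    (e : G ≃* Matrix.ProjectiveSpecialLinearGroup (Fin 2) F) :
    Fintype.card F = 3 ∨ Fintype.card F = 9 ∨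
      ((Fintype.card F).Prime ∧ ∃ k : ℕ, Fintype.card F = 2 ^ k + 1 ∨ Fintype.card F + 1 = 2 ^ k) := by
  classical
  obtain ⟨p, hp⟩ := CharP.exists F
  haveI := hp
  have hpp : p.Prime := CharP.char_is_prime F p
  haveI := Fact.mk hpp
  obtain ⟨f, -, hF⟩ := FiniteField.card F p
  set q := Fintype.card F with hq
  obtain ⟨j, hj⟩ := hodd
  have hp2 : p ≠ 2 := by
    rintro rfl
    have h1 : 2 ∣ q := hF ▸ dvd_pow_self 2 f.pos.ne'
    omega
  have hq1 : q ≠ 1 := (Fintype.one_lt_card (α := F)).ne'
  have h2 : Nat.gcd 2 (q - 1) = 2 := by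
    rw [hj]; exact Nat.gcd_eq_left ⟨j, by omega⟩
  have hpow : ∀ m, m ≠ 0 → Even m → (m ∣ (q - 1) / 2 ∨ m ∣ (q + 1) / 2) → ∃ k, m = 2 ^ k := by
    intro m hm0 hme hm
    by_contra hcon
    push Not at hcon
    obtain ⟨r, hr, hro, hrd⟩ := exists_odd_prime hm0 hcon
    have hr2 : r ≠ 2 := fun e2 => by rw [e2] at hro; exact absurd hro (by decide)
    have h3 : m ∈ Set.range (orderOf : Matrix.ProjectiveSpecialLinearGroup (Fin 2) F → ℕ) := by
      rw [H64.psl2_spectrum p, Set.mem_ofPred_eq, ← hq, h2]
      exact Or.inr hm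
    obtain ⟨x, hx⟩ := h3
    refine hG.no_two_mult hr hr2 (g := e.symm x) ?_
    rw [MulEquiv.orderOf_eq, hx]
    exact ((Nat.coprime_primes hr Nat.prime_two).2 hr2).mul_dvd_of_dvd_of_dvd hrd (even_iff_two_dvd.1 hme)
  have hp3 : 3 ≤ p := by have := hpp.two_le; omega
  have hpo : p % 2 = 1 := hpp.eq_two_or_odd.resolve_left hp2
  rcases Nat.eq_zero_or_pos j with rfl | hj0
  · omega
  rcases Nat.even_or_odd j with he | ho
  · obtain ⟨k, hk⟩ := hpow j hj0.ne' he (Or.inl (by rw [hj]; exact dvd_of_eq (by omega)))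
    have h4 : q = 2 ^ (k + 1) + 1 := by rw [pow_succ, ← hk]; omega
    rcases H33.HalfTrans.pow_sub_one_two_pow (q := p) (d := f) (k := k + 1) hpo hp3 hpp
      (hF ▸ h4) with h1 | h1
    · right; right
      refine ⟨?_, k + 1, Or.inl h4⟩
      rwa [hF, h1, pow_one]
    · exact Or.inr (Or.inl (hF.trans h1))
  · obtain ⟨k, hk⟩ := hpow (j + 1) (by omega) ho.add_one (Or.inr (by rw [hj]; exact dvd_of_eq (by omega)))
    have h4 : q + 1 = 2 ^ (k + 1) := by rw [pow_succ, ← hk]; omega
    rcases H33.HalfTrans.pow_add_one_two_pow (q := p) (d := f) (k := k + 1) hpo hp3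
      (hF ▸ h4) with h1 | h1
    · right; right
      refine ⟨?_, k + 1, Or.inr h4⟩
      rwa [hF, h1, pow_one]
    · exact absurd h1 f.pos.ne'

end H11.CIT
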