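import Cfsg.Agent.H11.CIT.Unique
import Cfsg.Agent.H6.Transfer

/-!
A 2-local subgroup of 2-rank one modulo its 2-core either has its Thompson subgroup in the core, or
can be enlarged, or gives a self-centralising four-group.
-/

set_option autoImplicit false
set_option linter.style.haveILetI false
set_option linter.unusedSectionVars false

namespace H11.CIT

open Subgroup

universe u

variable {G : Type u} [Group G]

/-- A self-centralising four-group inside a 2-group of order eight normalising it. -/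
def Exc (G : Type u) [Group G] : Prop :=
  ∃ V R : Subgroup G, Elem V ∧ Nat.card V = 4 ∧ centralizer (V : Set G) = V ∧ V ≤ R ∧
    R ≤ normalizer (V : Set G) ∧ IsPGroup 2 R ∧ Nat.card R = 8

/-- The central involutions of `D`, with the identity. -/
def omegaZ (D : Subgroup G) : Subgroup G where
  carrier := {x | x ∈ D ∧ x * x = 1 ∧ ∀ d ∈ D, x * d = d * x}
  one_mem' := ⟨one_mem _, mul_one 1, fun d _ => by rw [one_mul, mul_one]⟩
  mul_mem' := fun {a b} ha hb => ⟨mul_mem ha.1 hb.1, by
      calc a * b * (a * b) = a * (b * a) * b := by group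
        _ = (a * a) * (b * b) := by rw [← ha.2.2 b hb.1]; group
        _ = 1 := by rw [ha.2.1, hb.2.1, mul_one],
    fun d hd => ((show Commute a d from ha.2.2 d hd).mul_left (hb.2.2 d hd)).eq⟩
  inv_mem' := fun {a} ha => ⟨inv_mem ha.1, by rw [← mul_inv_rev, ha.2.1, inv_one],
    fun d hd => (show Commute a d from ha.2.2 d hd).inv_left.eq⟩

theorem card_eq_mul_relIndex {K W : Subgroup G} (h : K ≤ W) :
    Nat.card W = Nat.card K * K.relIndex W := by
  rw [← Nat.card_congr (subgroupOfEquivOfLe h).toEquiv, relIndex, Subgroup.card_mul_index]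

variable [Finite G]

/-- A 2-group normalising a four-group moves each involution to at most one other. -/
theorem relIndex_cent_le_two {R V : Subgroup G} (hR : IsPGroup 2 R)
    (hRV : R ≤ normalizer (V : Set G)) (hV : Nat.card V = 4) {v : G} (hv : v ∈ V) (hv1 : v ≠ 1) :
    (centralizer ({v} : Set G)).relIndex R ≤ 2 := by
  classical
  haveI : Fact (Nat.Prime 2) := ⟨Nat.prime_two⟩
  set K := (centralizer ({v} : Set G)).subgroupOf R with hK
  have h3 : K.index ≤ 3 := by
    let f : R ⧸ K → {x : V // x ≠ 1} := fun q =>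
      ⟨⟨(q.out : G) * v * (q.out : G)⁻¹, (mem_normalizer_iff.1 (hRV q.out.2) v).1 hv⟩,
        fun e => hv1 (conj_eq_one_iff.1 (congrArg Subtype.val e))⟩
    have hf : Function.Injective f := by
      intro q q' e
      have e' : (q.out : G) * v * (q.out : G)⁻¹ = q'.out * v * (q'.out : G)⁻¹ :=
        congrArg (fun z : {x : V // x ≠ 1} => ((z.1 : V) : G)) e
      rw [← QuotientGroup.out_eq' q, ← QuotientGroup.out_eq' q', QuotientGroup.eq]
      refine mem_subgroupOf.2 (mem_cent.2 ?_)
      push_cast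
      calc (q.out : G)⁻¹ * q'.out * v
          = (q.out : G)⁻¹ * (q'.out * v * (q'.out : G)⁻¹) * q'.out := by group
        _ = (q.out : G)⁻¹ * (q.out * v * (q.out : G)⁻¹) * q'.out := by rw [e']
        _ = v * ((q.out : G)⁻¹ * q'.out) := by group
    have h := Nat.card_le_card_of_injective f hf
    letI := Fintype.ofFinite V
    rw [Nat.card_eq_fintype_card (α := {x : V // x ≠ 1}), Fintype.card_subtype_compl,
      Fintype.card_subtype_eq, ← Nat.card_eq_fintype_card, hV] at h
    exact h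
  obtain ⟨k, hk⟩ := hR.index K
  show K.index ≤ 2
  rw [hk] at h3 ⊢
  rcases Nat.lt_or_ge k 2 with hk2 | hk2
  · interval_cases k <;> norm_num
  · have := Nat.pow_le_pow_right (n := 2) (by norm_num) hk2
    omega

/-- A 2-group normalising a non-trivial 2-subgroup centralises one of its involutions. -/
theorem exists_fixed {R V : Subgroup G} (hR : IsPGroup 2 R) (hV : IsPGroup 2 V) (hV1 : V ≠ ⊥)
    (hRV : R ≤ normalizer (V : Set G)) : ∃ z ∈ V, z ≠ 1 ∧ ∀ r ∈ R, r * z = z * r := by
  haveI : Fact (Nat.Prime 2) := ⟨Nat.prime_two⟩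
  letI : MulAction R V := MulAction.compHom V ((V.normalizerMonoidHom).comp (Subgroup.inclusion hRV))
  haveI : Nontrivial V := (nontrivial_iff_ne_bot V).2 hV1
  obtain ⟨n, hn, hc⟩ := hV.nontrivial_iff_card.1 inferInstance
  have h1 : (1 : V) ∈ MulAction.fixedPoints R V := fun r => Subtype.ext (by
    show (r : G) * 1 * (r : G)⁻¹ = 1
    group)
  obtain ⟨z, hz, hne⟩ := hR.exists_fixed_point_of_prime_dvd_card_of_fixed_point V
    (hc ▸ dvd_pow_self 2 (Nat.pos_iff_ne_zero.1 hn)) h1
  exact ⟨z, z.2, fun e => hne (Subtype.ext e.symm), fun r hr =>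
    mul_inv_eq_iff_eq_mul.1 (congrArg Subtype.val (hz ⟨r, hr⟩))⟩

variable (hG : IsCIT G) (hidx : ∀ K : Subgroup G, K.Normal → K.index ≠ 2)
include hG hidx

set_option maxHeartbeats 1000000 in
/-- The trichotomy for a 2-local subgroup of 2-rank one modulo its core. -/
theorem local_cases {M : Subgroup G} (hM : IsTwoLocal M)
    (hrk : ∀ A : Subgroup G, A ≤ M → Elem A →
      Nat.card A ≤ 2 * Nat.card (A ⊓ core2 M : Subgroup G)) :
    JClosed M ∨ Progress M ∨ Exc G := by
  classical
  haveI : Fact (Nat.Prime 2) := ⟨Nat.prime_two⟩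
  by_contra hcon
  push Not at hcon
  obtain ⟨hJ, hnp, hexc⟩ := hcon
  simp only [JClosed, not_forall] at hJ
  obtain ⟨R, hR, hJR⟩ := hJ
  set D := core2 M with hD
  have hD2 := isPGroup_core2 M
  obtain ⟨A, hA, hAD⟩ : ∃ A, MaxE R A ∧ ¬ A ≤ D := by
    by_contra hall
    push Not at hall
    exact hJR (iSup₂_le fun A hA => hall A hA)
  obtain ⟨a, haA, haD⟩ := SetLike.not_le_iff_exists.1 hAD
  have haR : a ∈ R := hA.1 haA
  have haM : a ∈ M := hR.1 haR
  have ha : orderOf a = 2 := orderOf_two (hA.2.1 a haA) (fun e => haD (e ▸ one_mem _))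
  obtain ⟨w, hwM, hwp, hwo, hwa⟩ := exists_inverted_in haM ha haD
  have hw1 : w ≠ 1 := fun e => by rw [e, orderOf_one] at hwp; exact Nat.not_prime_one hwp
  set V := omegaZ D with hV
  have hVD : V ≤ D := fun x hx => hx.1
  have hVe : Elem V := fun x hx => hx.2.1
  have hVR : V ≤ R := hVD.trans hR.core2_le
  have hMD := le_normalizer_core2 M
  have hMV : M ≤ normalizer (V : Set G) := by
    have key : ∀ g ∈ M, ∀ x ∈ V, g * x * g⁻¹ ∈ V := by
      intro g hg x hx
      refine ⟨(mem_normalizer_iff.1 (hMD hg) x).1 hx.1, ?_, fun d hd => ?_⟩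
      · rw [show g * x * g⁻¹ * (g * x * g⁻¹) = g * (x * x) * g⁻¹ by group, hx.2.1]; group
      · have hd' : g⁻¹ * d * g ∈ D := (mem_normalizer_iff''.1 (hMD hg) d).1 hd
        calc g * x * g⁻¹ * d = g * (x * (g⁻¹ * d * g)) * g⁻¹ := by group
          _ = g * ((g⁻¹ * d * g) * x) * g⁻¹ := by rw [hx.2.2 _ hd']
          _ = d * (g * x * g⁻¹) := by group
    intro g hg
    rw [mem_normalizer_iff]
    intro x
    refine ⟨key g hg x, fun hx => ?_⟩
    have := key g⁻¹ (inv_mem hg) _ hx
    rwa [inv_inv, show g⁻¹ * (g * x * g⁻¹) * g = x by group] at this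
  have hV1 : V ≠ ⊥ := by
    obtain ⟨P, hP1, hP2, rfl⟩ := hM
    have hPD : P ≤ D := le_core2 le_normalizer le_rfl hP2
    have hDb : D ≠ ⊥ := fun e => hP1 (le_bot_iff.1 (e ▸ hPD))
    haveI : Nontrivial D := (nontrivial_iff_ne_bot D).2 hDb
    haveI := hD2.center_nontrivial
    obtain ⟨z, hzc, hz⟩ := exists_invol (P := (center D).map D.subtype)
      ((hD2.to_subgroup _).map _) (by
        rw [Ne, map_eq_bot_iff_of_injective _ D.subtype_injective]
        exact (nontrivial_iff_ne_bot _).1 inferInstance)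
    obtain ⟨z', hz', rfl⟩ := hzc
    intro e
    have : (z' : G) ∈ V := ⟨z'.2, sq_eq_one hz, fun d hd =>
      (congrArg Subtype.val (mem_center_iff.1 hz' ⟨d, hd⟩)).symm⟩
    rw [e, mem_bot] at this
    exact H65.ne_one_of_two hz this
  set U := V ⊓ centralizer ({a} : Set G) with hU
  have hU2 : Nat.card U * Nat.card U ≤ Nat.card V :=
    hG.card_fix_sq (hD2.to_le hVD) hwa hwo hw1 le_rfl
      fun q hq => (mem_normalizer_iff.1 (hMV hwM) q).1 hq.1
  set A₀ := A ⊓ D with hA₀
  have hAA₀ : Nat.card A ≤ 2 * Nat.card A₀ := hrk A (hA.1.trans hR.1) hA.2.1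
  have hA₀a : ∀ x ∈ A₀, a * x = x * a := fun x hx => hA.2.1.comm haA hx.1
  -- the four-group
  have hsup : Nat.card A₀ * Nat.card V ≤ Nat.card U * Nat.card A := by
    have hW : Elem (V ⊔ A₀ : Subgroup G) := by
      rw [sup_eq_closure]
      refine elem_closure ?_ ?_
      · rintro x (hx | hx)
        exacts [hVe x hx, hA.2.1 x hx.1]
      · rintro x (hx | hx) y (hy | hy)
        exacts [hVe.comm hx hy, hx.2.2 y hy.2, (hy.2.2 x hx.2).symm, hA.2.1.comm hx.1 hy.1]
    have h1 := hA.2.2 _ (sup_le hVR (inf_le_left.trans hA.1)) hW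
    have h2 := card_eq_mul_relIndex (le_sup_left : V ≤ V ⊔ A₀)
    have h3 := card_eq_mul_relIndex (inf_le_right : V ⊓ A₀ ≤ A₀)
    have h4 : (V ⊓ A₀).relIndex A₀ ≤ V.relIndex (V ⊔ A₀) := by
      rw [inf_relIndex_right]
      exact relIndex_le_of_le_right le_sup_right
        (by rw [relIndex]; exact FiniteIndex.index_ne_zero)
    have h5 : Nat.card (V ⊓ A₀ : Subgroup G) ≤ Nat.card U :=
      Subgroup.card_le_of_le (le_inf inf_le_left fun x hx => mem_cent.2 (hA₀a x hx.2).symm)
    calc Nat.card A₀ * Nat.card V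
        = Nat.card (V ⊓ A₀ : Subgroup G) * ((V ⊓ A₀).relIndex A₀ * Nat.card V) := by
          rw [h3, mul_assoc]
      _ ≤ Nat.card U * (V.relIndex (V ⊔ A₀) * Nat.card V) :=
          Nat.mul_le_mul h5 (Nat.mul_le_mul h4 le_rfl)
      _ ≤ Nat.card U * Nat.card A := by
          refine Nat.mul_le_mul le_rfl ?_
          rw [mul_comm, ← h2]
          exact h1
  have hVU : Nat.card V ≤ 2 * Nat.card U :=
    Nat.le_of_mul_le_mul_left (calc Nat.card A₀ * Nat.card V
      _ ≤ Nat.card U * Nat.card A := hsup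
      _ ≤ Nat.card U * (2 * Nat.card A₀) := Nat.mul_le_mul le_rfl hAA₀
      _ = Nat.card A₀ * (2 * Nat.card U) := by ring) Nat.card_pos
  have hVlt : 2 < Nat.card V := by
    by_contra hle
    obtain ⟨z, hzV, hz1, hzf⟩ : ∃ z ∈ V, z ≠ 1 ∧ w * z * w⁻¹ = z := by
      haveI : Nontrivial V := (nontrivial_iff_ne_bot V).2 hV1
      obtain ⟨⟨z, hz⟩, hz1⟩ := exists_ne (1 : V)
      refine ⟨z, hz, fun e => hz1 (Subtype.ext e), ?_⟩
      have hwz : w * z * w⁻¹ ∈ V := (mem_normalizer_iff.1 (hMV hwM) z).1 hz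
      by_contra hne
      have hlt : 2 < Nat.card V := by
        letI := Fintype.ofFinite V
        rw [Nat.card_eq_fintype_card (α := V)]
        exact Fintype.two_lt_card_iff.2 ⟨1, ⟨z, hz⟩, ⟨_, hwz⟩, hz1.symm,
          fun e => hz1 (Subtype.ext (conj_eq_one_iff.1 (congrArg Subtype.val e).symm)),
          fun e => hne (congrArg Subtype.val e).symm⟩
      exact hle hlt
    exact hz1 (hG.fpf' hD2 hwo hw1 (hVD hzV) (mul_inv_eq_iff_eq_mul.1 hzf))
  have hU2' : Nat.card U ≤ 2 := Nat.le_of_mul_le_mul_right (hU2.trans hVU) Nat.card_pos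
  have hV4 : Nat.card V = 4 := by
    obtain ⟨k, hk⟩ := IsPGroup.iff_card.1 (hD2.to_le hVD)
    rw [hk] at hVlt hVU ⊢
    have hk3 : k < 3 := by
      by_contra hge
      have := Nat.pow_le_pow_right (n := 2) (by norm_num) (Nat.le_of_not_lt hge)
      omega
    interval_cases k <;> simp at *
  have hw3 : orderOf w = 3 := by
    obtain ⟨z, hzV, hz1, -⟩ : ∃ z ∈ V, z ≠ 1 ∧ True := by
      haveI : Nontrivial V := (nontrivial_iff_ne_bot V).2 hV1
      obtain ⟨⟨z, hz⟩, hz1⟩ := exists_ne (1 : V)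
      exact ⟨z, hz, fun e => hz1 (Subtype.ext e), trivial⟩
    let f : Fin (orderOf w) → {x : V // x ≠ 1} := fun i =>
      ⟨⟨w ^ (i : ℕ) * z * (w ^ (i : ℕ))⁻¹,
        (mem_normalizer_iff.1 (hMV (pow_mem hwM _)) z).1 hzV⟩,
        fun e => hz1 (conj_eq_one_iff.1 (congrArg Subtype.val e))⟩
    have hf : Function.Injective f := by
      have key : ∀ i j : ℕ, i ≤ j → j < orderOf w →
          w ^ i * z * (w ^ i)⁻¹ = w ^ j * z * (w ^ j)⁻¹ → i = j := by
        intro i j hij hj e
        obtain ⟨d, rfl⟩ := Nat.exists_eq_add_of_le hij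
        by_contra hne
        have hd : w ^ d ≠ 1 := pow_ne_one_of_lt_orderOf (by omega) (by omega)
        refine hz1 (hG.fpf' hD2 (hwo.of_dvd_nat (orderOf_pow_dvd d)) hd (hVD hzV)
          (mul_inv_eq_iff_eq_mul.1 ?_))
        rw [pow_add] at e
        calc w ^ d * z * (w ^ d)⁻¹
            = (w ^ i)⁻¹ * (w ^ i * w ^ d * z * (w ^ i * w ^ d)⁻¹) * w ^ i := by group
          _ = (w ^ i)⁻¹ * (w ^ i * z * (w ^ i)⁻¹) * w ^ i := by rw [← e]
          _ = z := by group
      intro i j e
      have e' := congrArg (fun x : {x : V // x ≠ 1} => ((x.1 : V) : G)) e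
      rcases le_total (i : ℕ) j with hle | hle
      · exact Fin.ext (key _ _ hle j.2 e')
      · exact Fin.ext (key _ _ hle i.2 e'.symm).symm
    have h := Nat.card_le_card_of_injective f hf
    letI := Fintype.ofFinite V
    rw [Nat.card_eq_fintype_card, Fintype.card_fin, Nat.card_eq_fintype_card,
      Fintype.card_subtype_compl, Fintype.card_subtype_eq, ← Nat.card_eq_fintype_card, hV4] at h
    have h2 := hwp.two_le
    obtain ⟨k, hk⟩ := hwo
    omega
  -- elementary subgroups of `R` have order at most four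
  have hA4 : Nat.card A ≤ 4 := by
    set C := closure ((A₀ : Set G) ∪ (fun x => w * x * w⁻¹) '' (A₀ : Set G)) with hC
    have hwD : w ∈ normalizer (D : Set G) := hMD hwM
    have hwc : ∀ b ∈ A₀, ∀ c ∈ A₀, b * (w * c * w⁻¹) = w * c * w⁻¹ * b := fun b hb c hc =>
      hG.commute_conj hD2 hw3 hwD hb.2 hc.2 (hA.2.1 b hb.1) (hA.2.1 c hc.1)
        (hA.2.1.comm hb.1 hc.1)
    have hCe : Elem C := by
      refine elem_closure ?_ ?_
      · rintro x (hx | ⟨y, hy, rfl⟩)
        · exact hA.2.1 x hx.1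
        · show w * y * w⁻¹ * (w * y * w⁻¹) = 1
          rw [show w * y * w⁻¹ * (w * y * w⁻¹) = w * (y * y) * w⁻¹ by group, hA.2.1 y hy.1]
          group
      · rintro x (hx | ⟨b, hb, rfl⟩) y (hy | ⟨c, hc, rfl⟩)
        · exact hA.2.1.comm hx.1 hy.1
        · exact hwc x hx c hc
        · exact (hwc y hy b hb).symm
        · show w * b * w⁻¹ * (w * c * w⁻¹) = w * c * w⁻¹ * (w * b * w⁻¹)
          rw [show w * b * w⁻¹ * (w * c * w⁻¹) = w * (b * c) * w⁻¹ by group,
            hA.2.1.comm hb.1 hc.1]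
          group
    have hCD : C ≤ D := (closure_le _).2 (by
      rintro x (hx | ⟨y, hy, rfl⟩)
      exacts [hx.2, (mem_normalizer_iff.1 hwD y).1 hy.2])
    have h1 : Nat.card A₀ * Nat.card A₀ ≤ Nat.card C :=
      hG.card_fix_sq hCe.isPGroup hwa hwo hw1
        (le_inf (fun x hx => subset_closure (Or.inl hx)) fun x hx => mem_cent.2 (hA₀a x hx).symm)
        fun q hq => subset_closure (Or.inr ⟨q, hq, rfl⟩)
    have h2 := hA.2.2 C (hCD.trans hR.core2_le) hCe
    have h3 : Nat.card A₀ ≤ 2 :=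
      Nat.le_of_mul_le_mul_right (h1.trans (h2.trans hAA₀)) Nat.card_pos
    omega
  have hinv : ∀ x ∈ D, x * x = 1 → x ∈ V := by
    intro x hx hx2
    have hW : Elem (V ⊔ zpowers x : Subgroup G) := by
      rw [zpowers_eq_closure, ← closure_eq V, ← Subgroup.closure_union]
      refine elem_closure ?_ ?_
      · rintro y (hy | rfl)
        exacts [hVe y hy, hx2]
      · rintro y (hy | rfl) y' (hy' | rfl)
        exacts [hVe.comm hy hy', hy.2.2 _ hx, (hy'.2.2 _ hx).symm, rfl]
    have h1 := (hA.2.2 _ (sup_le hVR (zpowers_le.2 (hR.core2_le hx))) hW).trans hA4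
    rw [eq_of_le_of_card_ge (le_sup_left : V ≤ V ⊔ zpowers x) (hV4.symm ▸ h1)]
    exact le_sup_right (a := V) (mem_zpowers x)
  -- the normaliser of the four-group
  set M₁ := normalizer (V : Set G) with hM₁
  have hM₁l : IsTwoLocal M₁ := ⟨V, hV1, hVe.isPGroup, rfl⟩
  have hR₁ : IsSyl R M₁ := by
    refine ⟨hR.1.trans hMV, hR.2.1, fun Q hQ hQ2 hle => ?_⟩
    by_contra hne
    obtain ⟨R₁, hQR₁, hR₁⟩ := exists_isSyl hQ hQ2
    refine hnp ⟨M₁, R, R₁, hM₁l, hMV, hR, hR₁, ?_⟩
    refine lt_of_lt_of_le (lt_of_le_of_ne (Subgroup.card_le_of_le hle) fun e => hne ?_)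
      (Subgroup.card_le_of_le hQR₁)
    exact (eq_of_le_of_card_ge hle e.ge).symm
  have hcv : IsPGroup 2 (centralizer (V : Set G)) := by
    obtain ⟨t, htV, ht⟩ := exists_invol hVe.isPGroup hV1
    exact (hG t ht).to_le fun g hg => mem_cent.2 (mem_centralizer_iff.1 hg t htV).symm
  have hnormC : M₁ ≤ normalizer (centralizer (V : Set G) : Set G) := by
    have key : ∀ g ∈ M₁, ∀ x ∈ centralizer (V : Set G), g * x * g⁻¹ ∈ centralizer (V : Set G) := by
      intro g hg x hx
      refine mem_centralizer_iff.2 fun v hv => ?_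
      have h1 := mem_centralizer_iff.1 hx _ ((mem_normalizer_iff''.1 hg v).1 hv)
      calc v * (g * x * g⁻¹) = g * (g⁻¹ * v * g * x) * g⁻¹ := by group
        _ = g * (x * (g⁻¹ * v * g)) * g⁻¹ := by rw [h1]
        _ = g * x * g⁻¹ * v := by group
    intro g hg
    rw [mem_normalizer_iff]
    intro x
    refine ⟨key g hg x, fun h => ?_⟩
    have := key g⁻¹ (inv_mem hg) _ h
    rwa [inv_inv, show g⁻¹ * (g * x * g⁻¹) * g = x by group] at this
  have hCR : centralizer (V : Set G) ≤ R :=
    (le_core2 (centralizer_le_normalizer _) hnormC hcv).trans hR₁.core2_le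
  have hCD : centralizer (V : Set G) ≤ D :=
    le_core2 (hCR.trans hR.1) (hMV.trans hnormC) hcv
  have hDC : centralizer (V : Set G) = D :=
    le_antisymm hCD fun d hd => mem_centralizer_iff.2 fun v hv => hv.2.2 d hd
  have hRM₁ : R ≤ M₁ := hR₁.1
  obtain ⟨z, hzV, hz1, hzc⟩ := exists_fixed hR.2.1 hVe.isPGroup hV1 hRM₁
  have hzU : z ∈ U := ⟨hzV, mem_cent.2 (hzc a haR).symm⟩
  have hUeq : ∀ x ∈ U, x = 1 ∨ x = z := by
    intro x hx
    by_contra hne
    push Not at hne
    letI := Fintype.ofFinite U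
    have : 2 < Fintype.card U := Fintype.two_lt_card_iff.2 ⟨1, ⟨z, hzU⟩, ⟨x, hx⟩,
      fun e => hz1 (congrArg Subtype.val e).symm, fun e => hne.1 (congrArg Subtype.val e).symm,
      fun e => hne.2 (congrArg Subtype.val e).symm⟩
    rw [← Nat.card_eq_fintype_card] at this
    omega
  have hRD : Nat.card R ≤ 2 * Nat.card D := by
    obtain ⟨v₁, hv₁V, hv₁U⟩ : ∃ v ∈ V, v ∉ U := by
      by_contra hall
      push Not at hall
      have := Subgroup.card_le_of_le (show V ≤ U from hall)
      omega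
    have hv₁ : v₁ ≠ 1 := fun e => hv₁U (e ▸ one_mem U)
    have h1 := relIndex_cent_le_two hR.2.1 hRM₁ hV4 hv₁V hv₁
    have h3 := card_eq_mul_relIndex (inf_le_right : centralizer ({v₁} : Set G) ⊓ R ≤ R)
    rw [inf_relIndex_right] at h3
    have hle : centralizer ({v₁} : Set G) ⊓ R ≤ D := by
      rintro r ⟨hr, hrR⟩
      rw [← hDC]
      set W := closure ({z, v₁} : Set G) with hW
      have hzW : z ∈ W := subset_closure (by simp)
      have hvW : v₁ ∈ W := subset_closure (by simp)
      have hWV : W = V := by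
        refine eq_of_le_of_card_ge ((closure_le _).2 ?_) ?_
        · rintro x (rfl | rfl) <;> assumption
        · rw [hV4]
          by_contra hlt
          letI := Fintype.ofFinite W
          have h5 : 2 < Fintype.card W := Fintype.two_lt_card_iff.2
            ⟨1, ⟨z, hzW⟩, ⟨v₁, hvW⟩, fun e => hz1 (congrArg Subtype.val e).symm,
              fun e => hv₁ (congrArg Subtype.val e).symm,
              fun e => hv₁U ((show z = v₁ from congrArg Subtype.val e) ▸ hzU)⟩
          rw [← Nat.card_eq_fintype_card] at h5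
          obtain ⟨k, hk⟩ := IsPGroup.iff_card.1 (hVe.isPGroup.to_le ((closure_le _).2 (by
            rintro x (rfl | rfl) <;> assumption) : W ≤ V))
          rw [hk] at h5 hlt
          have : k < 2 := by
            by_contra hge
            have := Nat.pow_le_pow_right (n := 2) (by norm_num) (Nat.le_of_not_lt hge)
            omega
          interval_cases k <;> omega
      rw [← hWV, hW, centralizer_closure, mem_centralizer_iff]
      rintro x (rfl | rfl)
      exacts [(hzc r hrR).symm, (mem_cent.1 hr).symm]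
    have h4 := Subgroup.card_le_of_le hle
    calc Nat.card R = _ := h3
      _ ≤ Nat.card D * 2 := Nat.mul_le_mul h4 h1
      _ = _ := mul_comm _ _
  have hRD' : 2 * Nat.card D ≤ Nat.card R := by
    have h1 := card_eq_mul_relIndex hR.core2_le
    have h3 : (core2 M).relIndex R ≠ 1 := fun e => haD (relIndex_eq_one.1 e haR)
    have h4 : (core2 M).relIndex R ≠ 0 := by rw [relIndex]; exact FiniteIndex.index_ne_zero
    rw [h1, mul_comm]
    exact Nat.mul_le_mul le_rfl (by omega)
  have hexc' : D = V → False := fun e => hexc ⟨V, R, hVe, hV4, hDC.trans e, hVR, hRM₁, hR.2.1,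
    by rw [e, hV4] at hRD hRD'; omega⟩
  obtain ⟨S, hS⟩ := hR.2.1.exists_le_sylow
  by_cases hRS : R = (S : Subgroup G)
  · -- transfer
    have hDS : D ≤ (S : Subgroup G) := hR.core2_le.trans hS
    have hDi : D.relIndex (S : Subgroup G) = 2 := by
      have h1 := card_eq_mul_relIndex hR.core2_le
      rw [← hRS]
      have := (Nat.card_pos : 0 < Nat.card D)
      nlinarith
    rcases H6.thompson_transfer S D hDS hDi a ha with ⟨K, hK, hKi, -⟩ | ⟨g, hg⟩
    · exact hidx K hK hKi
    have hd2 : g * a * g⁻¹ * (g * a * g⁻¹) = 1 := by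
      rw [show g * a * g⁻¹ * (g * a * g⁻¹) = g * (a * a) * g⁻¹ by group, hA.2.1 a haA]
      group
    have hdV := hinv _ hg hd2
    have hCa : Nat.card D ≤ Nat.card (centralizer ({a} : Set G)) :=
      Nat.card_le_card_of_injective (fun x : D => (⟨g⁻¹ * x * g, mem_cent.2 (by
          have h5 : g * a * g⁻¹ * (x : G) = x * (g * a * g⁻¹) := hdV.2.2 x x.2
          calc g⁻¹ * (x : G) * g * a = g⁻¹ * ((x : G) * (g * a * g⁻¹)) * g := by group
            _ = g⁻¹ * (g * a * g⁻¹ * (x : G)) * g := by rw [h5]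
            _ = a * (g⁻¹ * (x : G) * g) := by group)⟩ : centralizer ({a} : Set G)))
        fun x y e => Subtype.ext (mul_left_cancel (mul_right_cancel (congrArg Subtype.val e)))
    set E := centralizer ({a} : Set G) ⊓ M with hE
    set B := centralizer ({a} : Set G) ⊓ D with hB
    have hB2 : Nat.card B * Nat.card B ≤ Nat.card D :=
      hG.card_fix_sq hD2 hwa hwo hw1 (le_inf inf_le_right inf_le_left)
        fun q hq => (mem_normalizer_iff.1 (hMD hwM) q).1 hq.2
    obtain ⟨R', hER', hR'⟩ := exists_isSyl (inf_le_right : E ≤ M) ((hG a ha).to_le inf_le_left)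
    have haE : a ∈ E := ⟨mem_cent.2 rfl, haM⟩
    have hEB : ∀ x ∈ E, x ∉ D → a * x ∈ B := by
      intro x hx hxD
      have hax : a * x ∈ E := mul_mem haE hx
      refine ⟨hax.1, ?_⟩
      have h2 : (D.subgroupOf R').index = 2 := by
        have h1 := card_eq_mul_relIndex hR'.core2_le
        rw [hR'.card_eq hR] at h1
        show D.relIndex R' = 2
        have := (Nat.card_pos : 0 < Nat.card D)
        nlinarith
      have := (Subgroup.mul_mem_iff_of_index_two h2
        (a := ⟨a, hER' haE⟩) (b := ⟨x, hER' hx⟩)).2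
        (iff_of_false (fun hm => haD (mem_subgroupOf.1 hm)) (fun hm => hxD (mem_subgroupOf.1 hm)))
      exact mem_subgroupOf.1 this
    have hBE : B ≤ E := fun x hx => ⟨hx.1, core2_le M hx.2⟩
    have hEcard : Nat.card E ≤ 2 * Nat.card B := by
      rw [card_eq_mul_relIndex hBE, mul_comm]
      refine Nat.mul_le_mul ?_ le_rfl
      by_contra hlt
      rw [not_le] at hlt
      letI := Fintype.ofFinite (E ⧸ B.subgroupOf E)
      rw [relIndex, Subgroup.index, Nat.card_eq_fintype_card, Fintype.two_lt_card_iff] at hlt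
      obtain ⟨p, q, r, hpq, hpr, hqr⟩ := hlt
      have hcls : ∀ s : E ⧸ B.subgroupOf E, s = QuotientGroup.mk 1 ∨
          s = QuotientGroup.mk (⟨a, haE⟩ : E) := by
        intro s
        induction s using QuotientGroup.induction_on with
        | H x =>
          by_cases hxD : (x : G) ∈ D
          · exact Or.inl (QuotientGroup.eq.2 (by
              rw [mul_one, inv_mem_iff]; exact mem_subgroupOf.2 ⟨x.2.1, hxD⟩))
          · refine Or.inr (QuotientGroup.eq.2 (mem_subgroupOf.2 ?_))
            rw [← inv_mem_iff]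
            push_cast
            rw [mul_inv_rev, inv_inv, ← inv_eq_of_mul_eq_one_right (hA.2.1 a haA), inv_inv]
            exact hEB x x.2 hxD
      rcases hcls p with rfl | rfl <;> rcases hcls q with rfl | rfl <;>
        rcases hcls r with rfl | rfl <;>
        first | exact hpq rfl | exact hpr rfl | exact hqr rfl
    by_cases hDV : D = V
    · exact hexc' hDV
    have hDlt : 4 < Nat.card D := by
      rw [← hV4]
      exact lt_of_le_of_ne (Subgroup.card_le_of_le hVD) fun e =>
        hDV (eq_of_le_of_card_ge hVD e.ge).symm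
    obtain ⟨y, hyC, hyE, hyN⟩ := exists_mem_normalizer (hG a ha) (inf_le_left : E ≤ _)
      (fun e => by
        rw [← e] at hCa
        have h6 : Nat.card D ≤ 2 * Nat.card B := hCa.trans hEcard
        nlinarith [hB2, h6, hDlt])
    have hyM : y ∉ M := fun hm => hyE ⟨hyC, hm⟩
    have hzB : z ∈ B := ⟨hzU.2, hVD hzV⟩
    have hinvB : ∀ x ∈ B, x * x = 1 → x = 1 ∨ x = z := fun x hx hx2 =>
      hUeq x ⟨hinv x hx.2 hx2, hx.1⟩
    have hze : y * z * y⁻¹ ∈ E := (mem_normalizer_iff.1 hyN z).1 (hBE hzB)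
    have hze2 : y * z * y⁻¹ * (y * z * y⁻¹) = 1 := by
      rw [show y * z * y⁻¹ * (y * z * y⁻¹) = y * (z * z) * y⁻¹ by group, hVe z hzV]
      group
    have hzB' : y * z * y⁻¹ ∉ D := by
      intro hmem
      rcases hinvB _ ⟨hze.1, hmem⟩ hze2 with h1 | h1
      · exact hz1 (conj_eq_one_iff.1 h1)
      · refine hyM (hR.1 ?_)
        rw [hRS]
        have hle : (S : Subgroup G) ≤ centralizer ({z} : Set G) := fun s hs =>
          mem_cent.2 (hzc s (hRS ▸ hs))
        rw [← S.is_maximal' (hG z (orderOf_two (hVe z hzV) hz1)) hle]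
        exact mem_cent.2 (mul_inv_eq_iff_eq_mul.1 h1)
    have hBsq : ∀ x ∈ B, x * x = 1 := by
      intro x hx
      by_contra hx2
      obtain ⟨b, hb, hb2, hb4⟩ : ∃ b ∈ B, b * b ≠ 1 ∧ b * b * (b * b) = 1 := by
        obtain ⟨k, hk⟩ := orderOf_eq_two_pow hD2 hx.2
        have hk2 : 2 ≤ k := by
          by_contra hlt
          apply hx2
          rw [← sq]
          refine orderOf_dvd_iff_pow_eq_one.1 (hk ▸ ?_)
          calc 2 ^ k ∣ 2 ^ 1 := Nat.pow_dvd_pow 2 (by omega)
            _ = 2 := pow_one 2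
        refine ⟨x ^ 2 ^ (k - 2), pow_mem hx _, ?_, ?_⟩
        · rw [← pow_add, ← two_mul, ← pow_succ']
          refine pow_ne_one_of_lt_orderOf (by positivity) ?_
          rw [hk]
          exact Nat.pow_lt_pow_right one_lt_two (by omega)
        · rw [← pow_add, ← pow_add, ← two_mul, ← two_mul, ← pow_succ', ← pow_succ',
            show k - 2 + 1 + 1 = k by omega, ← hk, pow_orderOf_eq_one]
      rcases hinvB _ (mul_mem hb hb) hb4 with h1 | h1
      · exact hb2 h1
      · have hbE : y * b * y⁻¹ ∈ E := (mem_normalizer_iff.1 hyN b).1 (hBE hb)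
        apply hzB'
        rw [← h1, show y * (b * b) * y⁻¹ = y * b * y⁻¹ * (y * b * y⁻¹) by group]
        by_cases hbD : y * b * y⁻¹ ∈ D
        · exact mul_mem hbD hbD
        · have h2 := hEB _ hbE hbD
          set e := y * b * y⁻¹
          have hae : a * e = e * a := (mem_cent.1 hbE.1).symm
          have h3 : e * e = (a * e) * (a * e) := by
            calc e * e = (a * a) * (e * e) := by rw [hA.2.1 a haA, one_mul]
              _ = a * (a * e) * e := by group
              _ = a * (e * a) * e := by rw [hae]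
              _ = (a * e) * (a * e) := by group
          rw [h3]
          exact mul_mem h2.2 h2.2
    -- `a` moves a coset of `V` in `D`
    set K := V.subgroupOf D with hK
    have hconj : ∀ d : D, a * (d : G) * a⁻¹ ∈ D := fun d => (mem_normalizer_iff.1 (hMD haM) _).1 d.2
    let σ : D ⧸ K → D ⧸ K := Quotient.map' (fun d : D => (⟨a * d * a⁻¹, hconj d⟩ : D)) (by
      intro x y hxy
      rw [QuotientGroup.leftRel_apply] at hxy ⊢
      refine mem_subgroupOf.2 ?_
      push_cast
      rw [show (a * (x : G) * a⁻¹)⁻¹ * (a * (y : G) * a⁻¹) = a * ((x : G)⁻¹ * y) * a⁻¹ by group]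
      exact (mem_normalizer_iff.1 (hMV haM) _).1 (mem_subgroupOf.1 hxy))
    have hσ : Function.Involutive σ := by
      intro q
      induction q using QuotientGroup.induction_on with
      | H d =>
        show QuotientGroup.mk (⟨a * (a * d * a⁻¹) * a⁻¹, _⟩ : D) = QuotientGroup.mk d
        congr 1
        apply Subtype.ext
        show a * (a * (d : G) * a⁻¹) * a⁻¹ = d
        calc a * (a * (d : G) * a⁻¹) * a⁻¹ = (a * a) * d * (a * a)⁻¹ := by group
          _ = d := by rw [hA.2.1 a haA]; group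
    letI := Fintype.ofFinite (D ⧸ K)
    obtain ⟨q, hq, hq1⟩ := Equiv.Perm.exists_fixed_point_of_prime' (p := 2) (n := 1)
      (σ := hσ.toPerm) (a := QuotientGroup.mk 1)
      (by
        rw [← Nat.card_eq_fintype_card]
        obtain ⟨k, hk⟩ := hD2.index K
        rw [show Nat.card (D ⧸ K) = 2 ^ k from hk]
        refine dvd_pow_self 2 fun e => hDV (le_antisymm ?_ hVD)
        rw [e, pow_zero] at hk
        exact subgroupOf_eq_top.1 (index_eq_one.1 hk))
      (Equiv.ext fun q => by rw [pow_one, sq]; exact hσ q)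
      (show σ (QuotientGroup.mk 1) = QuotientGroup.mk 1 by
        refine congrArg QuotientGroup.mk (Subtype.ext ?_)
        show a * ((1 : D) : G) * a⁻¹ = 1
        rw [Subgroup.coe_one, mul_one, mul_inv_cancel])
    induction q using QuotientGroup.induction_on with
    | H x =>
      have hxV : (x : G) ∉ V := fun h => hq1 (QuotientGroup.eq.2 (by
        rw [mul_one, inv_mem_iff]; exact mem_subgroupOf.2 h))
      set c := (a * (x : G) * a⁻¹)⁻¹ * x with hc
      have hcV : c ∈ V := mem_subgroupOf.1 (QuotientGroup.eq.1 hq)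
      have hcv : c⁻¹ = (x : G)⁻¹ * (a * x * a⁻¹) := by rw [hc]; group
      have hac : a * c * a⁻¹ = c⁻¹ := by
        rw [hcv, hc]
        calc a * ((a * (x : G) * a⁻¹)⁻¹ * x) * a⁻¹
            = (a * a) * (x : G)⁻¹ * (a * a)⁻¹ * (a * (x : G) * a⁻¹) := by group
          _ = _ := by rw [hA.2.1 a haA]; group
      have hcU : c ∈ U := ⟨hcV, mem_cent.2 (by
        rw [inv_eq_of_mul_eq_one_right (hVe c hcV)] at hac
        exact (mul_inv_eq_iff_eq_mul.1 hac).symm)⟩
      have hcU' : c⁻¹ ∈ U := inv_mem hcU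
      -- `x`, or `x * v`, is centralised by `a`
      obtain ⟨v₁, hv₁V, hv₁U⟩ : ∃ v ∈ V, v ∉ U := by
        by_contra hall
        push Not at hall
        have := Subgroup.card_le_of_le (show V ≤ U from hall)
        omega
      have hfin : ∀ v ∈ V, a * ((x : G) * v) * a⁻¹ = x * v → False := by
        intro v hv he
        have h1 : (x : G) * v ∈ B :=
          ⟨mem_cent.2 (mul_inv_eq_iff_eq_mul.1 he).symm, mul_mem x.2 (hVD hv)⟩
        exact hxV ((mul_mem_cancel_right hv).1 (hinv _ h1.2 (hBsq _ h1)))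
      rcases hUeq _ hcU' with h1 | h1
      · refine hfin 1 (one_mem V) ?_
        rw [hcv, inv_mul_eq_one] at h1
        rw [mul_one]
        exact h1.symm
      · refine hfin v₁ hv₁V ?_
        have h2 : a * v₁ * a⁻¹ * v₁⁻¹ = z := by
          have hmem : a * v₁ * a⁻¹ * v₁⁻¹ ∈ U := by
            have hV' : a * v₁ * a⁻¹ ∈ V := (mem_normalizer_iff.1 (hMV haM) v₁).1 hv₁V
            refine ⟨V.mul_mem hV' (V.inv_mem hv₁V), mem_cent.2 ?_⟩
            refine (mul_inv_eq_iff_eq_mul.1 ?_).symm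
            calc a * (a * v₁ * a⁻¹ * v₁⁻¹) * a⁻¹
                = (a * a) * v₁ * (a * a)⁻¹ * (a * v₁ * a⁻¹)⁻¹ := by group
              _ = v₁ * (a * v₁ * a⁻¹)⁻¹ := by rw [hA.2.1 a haA]; group
              _ = (a * v₁ * a⁻¹)⁻¹ * v₁ := hVe.comm hv₁V (inv_mem hV')
              _ = a * v₁ * a⁻¹ * v₁⁻¹ := by
                  rw [inv_eq_of_mul_eq_one_right (hVe _ hV'),
                    inv_eq_of_mul_eq_one_right (hVe v₁ hv₁V)]
          refine (hUeq _ hmem).resolve_left fun e => hv₁U ⟨hv₁V, mem_cent.2 ?_⟩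
          exact (mul_inv_eq_iff_eq_mul.1 (mul_inv_eq_one.1 e)).symm
        rw [hcv, inv_mul_eq_iff_eq_mul] at h1
        rw [mul_inv_eq_iff_eq_mul] at h2
        calc a * ((x : G) * v₁) * a⁻¹ = a * x * a⁻¹ * (a * v₁ * a⁻¹) := by group
          _ = x * z * (z * v₁) := by rw [h1, h2]
          _ = x * (z * z) * v₁ := by group
          _ = x * v₁ := by rw [hVe z hzV, mul_one]
  · -- a second four-group
    obtain ⟨y, hyS, hyR, hyN⟩ := exists_mem_normalizer S.isPGroup' hS hRS
    set V' := V.map (MulAut.conj y).toMonoidHom with hV'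
    have hV'R : V' ≤ R := by
      rintro _ ⟨v, hv, rfl⟩
      exact (mem_normalizer_iff.1 hyN v).1 (hVR hv)
    have hV'4 : Nat.card V' = 4 := by
      rw [hV', card_map_of_injective (MulAut.conj y).injective, hV4]
    have hV'e : Elem V' := hVe.map _
    have hV'ne : ¬ V' ≤ D := by
      intro hle
      have heq : V' = V := eq_of_le_of_card_ge (fun x hx => hinv x (hle hx) (hV'e x hx))
        (by rw [hV4, hV'4])
      have hyM₁ : y ∈ M₁ := mem_normalizer_iff_map_conj_eq.2 heq
      have h2 : IsPGroup 2 (R ⊔ zpowers y : Subgroup G) :=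
        S.isPGroup'.to_le (sup_le hS (zpowers_le.2 hyS))
      have h3 := hR₁.2.2 _ (sup_le hRM₁ (zpowers_le.2 hyM₁)) h2 le_sup_left
      exact hyR (h3 ▸ le_sup_right (a := R) (mem_zpowers y))
    obtain ⟨a', ha'V, ha'D⟩ := SetLike.not_le_iff_exists.1 hV'ne
    have ha'1 : a' ≠ 1 := fun e => ha'D (e ▸ one_mem D)
    have ha' : orderOf a' = 2 := orderOf_two (hV'e a' ha'V) ha'1
    obtain ⟨w', hw'M, hw'p, hw'o, hw'a⟩ := exists_inverted_in (hR.1 (hV'R ha'V)) ha' ha'D
    have hRV' : R ≤ normalizer (V' : Set G) := by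
      intro r hr
      rw [mem_normalizer_iff]
      intro x
      have key : ∀ r ∈ R, ∀ x ∈ V', r * x * r⁻¹ ∈ V' := by
        rintro r hr _ ⟨v, hv, rfl⟩
        refine ⟨y⁻¹ * r * y * v * (y⁻¹ * r * y)⁻¹, (mem_normalizer_iff.1 (hRM₁ ?_) v).1 hv, ?_⟩
        · exact (mem_normalizer_iff''.1 hyN r).1 hr
        · simp [mul_assoc]
      refine ⟨key r hr x, fun h => ?_⟩
      have := key r⁻¹ (inv_mem hr) _ h
      rwa [inv_inv, show r⁻¹ * (r * x * r⁻¹) * r = x by group] at this
    have h1 := relIndex_cent_le_two hR.2.1 hRV' hV'4 ha'V ha'1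
    have h3 : (centralizer ({a'} : Set G)).relIndex D ≤ 2 :=
      (relIndex_le_of_le_right hR.core2_le (by rw [relIndex]; exact FiniteIndex.index_ne_zero)).trans h1
    set D₀ := centralizer ({a'} : Set G) ⊓ D with hD₀
    have h4 := card_eq_mul_relIndex (inf_le_right : D₀ ≤ D)
    rw [inf_relIndex_right] at h4
    have h5 : Nat.card D₀ * Nat.card D₀ ≤ Nat.card D :=
      hG.card_fix_sq hD2 hw'a hw'o (fun e => by rw [e, orderOf_one] at hw'p; exact Nat.not_prime_one hw'p)
        (le_inf inf_le_right inf_le_left)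
        fun q hq => (mem_normalizer_iff.1 (hMD hw'M) q).1 hq.2
    have h6 : Nat.card D ≤ Nat.card D₀ * 2 := h4.le.trans (Nat.mul_le_mul le_rfl h3)
    refine hexc' (eq_of_le_of_card_ge hVD ?_).symm
    rw [hV4]
    nlinarith [h5, h6]

end H11.CIT
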