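import Cfsg.Agent.H11.CIT.TICase
import Cfsg.Agent.H11.CIT.Local

/-!
Groups with 2-group involution centralisers: either a self-centralising four-group, or
`PSL₂(2ⁿ)`, or a Suzuki group.
-/

set_option autoImplicit false
set_option linter.style.haveILetI false
set_option linter.unusedSectionVars false

namespace H11.CIT

open Subgroup

universe u

variable {G : Type u} [Group G] [Finite G]

theorem cit_main (hG : IsCIT G) (h2 : NoNormalTwo G) [Nontrivial G]
    (heven : ∀ K : Subgroup G, K.Normal → K ≠ ⊥ → ∃ t ∈ K, orderOf t = 2)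
    (hloc : ∀ M : Subgroup G, IsTwoLocal M → JClosed M ∨ Progress M ∨ Exc G) :
    Exc G ∨ (∃ n : ℕ, 2 ≤ n ∧
      Nonempty (G ≃* Matrix.ProjectiveSpecialLinearGroup (Fin 2) (GaloisField 2 n))) ∨
      Cfsg.Lie.IsoSuzuki G := by
  by_cases hexc : Exc G
  · exact Or.inl hexc
  exact Or.inr (ti_case hG h2 heven (sylow_ti
    (fun M hM => (hloc M hM).imp_right fun h => h.resolve_right hexc) hG h2))

end H11.CIT
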