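import Cfsg.Agent.H11.CIT.Plane
import Cfsg.Agent.H11.CIT.Main
import Cfsg.Agent.H11.CIT.ExcPSL
import Cfsg.Agent.H16.OddOrder
import Cfsg.Agent.H37.SmallIso
import Cfsg.Agent.H33.TwoPrime

/-!
The classification of the finite simple groups with 2-group involution centralisers.
-/

set_option autoImplicit false
set_option linter.style.haveILetI false
set_option linter.unusedSectionVars false

namespace H11.CIT

open Subgroup

universe u

/-- One step of the induction on the order. -/
theorem cit_step (G : Type u) [Group G] [Finite G] [IsSimpleGroup G] (hnc : ¬ IsMulCommutative G)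
    (hG : IsCIT G) (ih : Below G) : CITList G := by
  classical
  have hns : ¬ Group.IsSolvable G := fun h =>
    hnc ⟨⟨fun a b => IsSimpleGroup.comm_iff_isSolvable.2 h a b⟩⟩
  haveI : Nontrivial G := IsSimpleGroup.toNontrivial
  haveI : Fact (Nat.Prime 2) := ⟨Nat.prime_two⟩
  have h2 : NoNormalTwo G := fun K hK hK2 =>
    hK.eq_bot_or_eq_top.resolve_right fun e => hns (by
      subst e
      haveI := hK2.isNilpotent
      haveI : Group.IsSolvable (⊤ : Subgroup G) := inferInstance
      exact Group.isSolvable_of_surjective (f := (⊤ : Subgroup G).subtype) (fun g => ⟨⟨g, mem_top g⟩, rfl⟩))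
  have heven : ∀ K : Subgroup G, K.Normal → K ≠ ⊥ → ∃ t ∈ K, orderOf t = 2 := by
    intro K hK hK1
    refine H65.exists_two_mem (Nat.not_odd_iff_even.1 fun ho => hns ?_)
    obtain rfl := hK.eq_bot_or_eq_top.resolve_left hK1
    haveI : Group.IsSolvable (⊤ : Subgroup G) := H16.FT.oddOrder ho
    exact Group.isSolvable_of_surjective (f := (⊤ : Subgroup G).subtype) (fun g => ⟨⟨g, mem_top g⟩, rfl⟩)
  have hpsl : Exc G → CITList G := by
    intro hexc
    obtain ⟨F, iF, iFt, hodd, ⟨e⟩⟩ := exc_psl hG hexc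
    rcases psl_odd_cit hG hodd e with h | h | h
    · exfalso
      obtain ⟨e4⟩ := H37.PSL2_three_mulEquiv_alternating (F := F) (by rw [Nat.card_eq_fintype_card, h])
      have c12 : Nat.card G = 12 := by
        rw [Nat.card_congr (e.trans e4).toEquiv, Nat.card_eq_fintype_card]; decide
      refine hns (H33.isSolvable_of_two_primes Nat.prime_two Nat.prime_three fun r hr hd => ?_)
      rw [c12] at hd
      have := Nat.le_of_dvd (by norm_num) hd
      interval_cases r <;> revert hr hd <;> decide
    · exact Or.inl ⟨F, iF, iFt, Or.inl h, ⟨e⟩⟩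
    · exact Or.inl ⟨F, iF, iFt, Or.inr (Or.inr h), ⟨e⟩⟩
  by_cases hexc : Exc G
  · exact hpsl hexc
  by_cases hbad : ∃ M : Subgroup G, IsTwoLocal M ∧ ¬ JClosed M ∧ ¬ Progress M
  · obtain ⟨M₀, hM₀, hnJ, hnp⟩ := hbad
    obtain ⟨M, R, A, p⟩ := exists_pair hG hnc ih hM₀ hnJ hnp hexc
    exact Or.inr (Or.inl (p.psl34 hG))
  push Not at hbad
  have hloc : ∀ M : Subgroup G, IsTwoLocal M → JClosed M ∨ Progress M ∨ Exc G := fun M hM =>
    or_iff_not_imp_left.2 fun hJ => Or.inl (hbad M hM hJ)
  rcases cit_main hG h2 heven hloc with h | ⟨n, hn, ⟨e⟩⟩ | h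
  · exact absurd h hexc
  · letI := Fintype.ofFinite (GaloisField 2 n)
    refine Or.inl ⟨GaloisField 2 n, inferInstance, inferInstance, Or.inr (Or.inl ⟨n, ?_⟩), ⟨e⟩⟩
    rw [← Nat.card_eq_fintype_card, GaloisField.card 2 n (by omega)]
  · exact Or.inr (Or.inr h)

/-- The finite non-abelian simple groups in which centralisers of involutions are 2-groups. -/
theorem citClass : CITClass.{u} := by
  suffices h : ∀ (n : ℕ) (G : Type u) [Group G] [Finite G] [IsSimpleGroup G],
      Nat.card G = n → ¬ IsMulCommutative G → IsCIT G → CITList G from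
    fun G _ _ _ hnc hG => h _ G rfl hnc hG
  intro n
  induction n using Nat.strong_induction_on with
  | _ n ih =>
    intro G _ _ _ hn hnc hG
    exact cit_step G hnc hG fun H _ _ _ hH hHC hlt => ih _ (hn ▸ hlt) H rfl hH hHC

end H11.CIT
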