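import Cfsg.Agent.H11.CIT.Inc

/-!
Twenty-one points closed under joining.
-/

set_option autoImplicit false
set_option linter.style.haveILetI false
set_option linter.unusedSectionVars false

namespace H11.CIT

open Subgroup

universe u

variable {G : Type u} [Group G] [Finite G]

open Classical in
/-- Orbit counting for conjugation on subgroups. -/
theorem card_orbit [Fintype G] [Fintype (Subgroup G)] (L P : Subgroup G) :
    ((Finset.univ.filter fun x => x ∈ L).image fun x => cj x P).card *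
      Nat.card (L ⊓ normalizer (P : Set G) : Subgroup G) = Nat.card L := by
  set S := Finset.univ.filter fun x => x ∈ L
  set H := L ⊓ normalizer (P : Set G)
  have hH : (Finset.univ.filter fun x => x ∈ H).card = Nat.card H := by
    rw [← Fintype.card_subtype, Nat.card_eq_fintype_card]
  have hS : S.card = Nat.card L := by rw [← Fintype.card_subtype, Nat.card_eq_fintype_card]
  have hfib : ∀ Q ∈ S.image (fun x => cj x P), (S.filter fun x => cj x P = Q).card = Nat.card H := by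
    intro Q hQ
    obtain ⟨x₀, hx₀, rfl⟩ := Finset.mem_image.1 hQ
    have hx₀L : x₀ ∈ L := (Finset.mem_filter.1 hx₀).2
    rw [← hH, ← Finset.card_image_of_injective (Finset.univ.filter fun x => x ∈ H) (mul_right_injective x₀)]
    congr 1
    ext x
    simp only [S, H, Finset.mem_filter, Finset.mem_univ, true_and, Finset.mem_image]
    constructor
    · rintro ⟨hxL, hx⟩
      exact ⟨x₀⁻¹ * x, ⟨L.mul_mem (L.inv_mem hx₀L) hxL,
        mem_normalizer_iff_cj.2 (by rw [← cj_mul, hx, cj_inv_cancel])⟩, mul_inv_cancel_left _ _⟩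
    · rintro ⟨y, ⟨hyL, hy⟩, rfl⟩
      exact ⟨mul_mem hx₀L hyL, by rw [← cj_mul, mem_normalizer_iff_cj.1 hy]⟩
  have h := Finset.card_eq_sum_card_image (fun x => cj x P) S
  rw [Finset.sum_congr rfl hfib, Finset.sum_const, smul_eq_mul, hS] at h
  exact h.symm

namespace Pair

variable {M R A : Subgroup G} (p : Pair M R A)
include p

theorem M_syl : IsSyl R M := ⟨p.R_le, p.two, fun Q _ hQ hle => p.full Q hQ hle⟩

theorem card_core_subgroupOf : ((core2 M).subgroupOf M).index = 60 := by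
  have h := ((core2 M).subgroupOf M).card_mul_index
  rw [Nat.card_congr (subgroupOfEquivOfLe (core2_le M)).toEquiv, p.cardD, p.cardM] at h
  omega

variable (hG : IsCIT G)
include hG

/-- A point off `D`, normalised by an element of order three of `M` and an involution inverting it. -/
theorem exists_triangle : ∃ c τ r : G, ¬ Inc M A (cj c A) (core2 M) ∧ τ ∈ M ∧ r ∈ M ∧
    τ ∈ normalizer (cj c A : Set G) ∧ r ∈ normalizer (cj c A : Set G) ∧ orderOf τ = 3 ∧
    orderOf r = 2 ∧ r * τ * r⁻¹ = τ⁻¹ := by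
  classical
  haveI : Fact (Nat.Prime 3) := ⟨Nat.prime_three⟩
  obtain ⟨τ, r, hτ3, hτR, hrM, hr, hrτ⟩ := p.tor
  obtain ⟨τ₂, r₂, hτ₂3, hτ₂R, hr₂N, hr₂, hr₂τ⟩ := p.tor'
  set L := normalizer (R : Set G)
  have hL : Nat.card L ∣ 960 := p.cardM ▸ Subgroup.card_dvd_of_le (p.normR.trans inf_le_left)
  have hsyl : ∀ w : L, orderOf w = 3 → ∃ P : Sylow 3 L, (P : Subgroup L) = zpowers w := by
    intro w hw
    obtain ⟨P, hP⟩ := IsPGroup.exists_le_sylow (P := zpowers w) (p := 3)
      (IsPGroup.of_card (n := 1) (by rw [Nat.card_zpowers, hw, pow_one]))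
    refine ⟨P, (eq_of_le_of_card_ge hP ?_).symm⟩
    obtain ⟨m, hm⟩ := IsPGroup.iff_card.1 P.isPGroup'
    have h1 : 3 ^ m ∣ 960 := hm ▸ (Subgroup.card_subgroup_dvd_card _).trans hL
    rw [Nat.card_zpowers, hw, hm]
    rcases Nat.lt_or_ge m 2 with h2 | h2
    · interval_cases m <;> norm_num
    · exact absurd ((pow_dvd_pow 3 h2).trans h1) (by norm_num)
  obtain ⟨P₁, hP₁⟩ := hsyl ⟨τ₂, hτ₂R⟩ (by rw [orderOf_mk, hτ₂3])
  obtain ⟨P₂, hP₂⟩ := hsyl ⟨τ, hτR⟩ (by rw [orderOf_mk, hτ3])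
  obtain ⟨⟨k, hkR⟩, hk⟩ := MulAction.exists_smul_eq L P₁ P₂
  have hmem : k * τ₂ * k⁻¹ ∈ zpowers τ := by
    have h1 : (⟨k, hkR⟩ : L) * ⟨τ₂, hτ₂R⟩ * ⟨k, hkR⟩⁻¹ ∈ (P₂ : Subgroup L) := by
      rw [← hk, Sylow.coe_subgroup_smul]
      exact H2.conj_smul_mem (hP₁ ▸ mem_zpowers _)
    rw [hP₂] at h1
    obtain ⟨j, hj⟩ := h1
    exact ⟨j, congrArg Subtype.val hj⟩
  set r' := k * r₂ * k⁻¹ with hr'd
  set τ' := k * τ₂ * k⁻¹ with hτ'd
  have hz : zpowers τ' = zpowers τ := eq_of_le_of_card_ge (zpowers_le.2 hmem) (by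
    rw [Nat.card_zpowers, Nat.card_zpowers, hτ3, show τ' = MulAut.conj k τ₂ from rfl, MulEquiv.orderOf_eq,
      hτ₂3])
  have hr' : orderOf r' = 2 := by rw [show r' = MulAut.conj k r₂ from rfl, MulEquiv.orderOf_eq, hr₂]
  have hr'N : r' ∈ normalizer (A : Set G) :=
    mul_mem (mul_mem (p.normR hkR).2 hr₂N) (inv_mem (p.normR hkR).2)
  have hr'τ' : r' * τ' * r'⁻¹ = τ'⁻¹ := by
    rw [hr'd, hτ'd, show k * r₂ * k⁻¹ * (k * τ₂ * k⁻¹) * (k * r₂ * k⁻¹)⁻¹ = k * (r₂ * τ₂ * r₂⁻¹) * k⁻¹ by group,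
      hr₂τ]
    group
  have hr'τ : r' * τ * r'⁻¹ = τ⁻¹ := by
    obtain ⟨j, hj⟩ : τ ∈ zpowers τ' := hz ▸ mem_zpowers τ
    rw [← show τ' ^ j = τ from hj, ← conj_zpow, hr'τ', inv_zpow]
  set x := r * r' with hx
  have hxτ : Commute x τ := by
    show r * r' * τ = τ * (r * r')
    calc r * r' * τ = r * (r' * τ * r'⁻¹) * r' := by group
      _ = r * τ⁻¹ * r' := by rw [hr'τ]
      _ = (r * τ * r⁻¹)⁻¹ * (r * r') := by group
      _ = τ * (r * r') := by rw [hrτ, inv_inv]
  have hτ1 : τ ≠ 1 := fun e => by rw [e, orderOf_one] at hτ3; norm_num at hτ3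
  have hxodd : Odd (orderOf x) := by
    rw [← Nat.not_even_iff_odd, even_iff_two_dvd]
    intro h2
    have ht := orderOf_pow_orderOf_div (orderOf_pos x).ne' h2
    have := hG.fpf (w := τ) (k := 1) (hτ3 ▸ by decide) hτ1 (by rw [ht, pow_one]) (hxτ.symm.pow_right _).eq
    rw [this, orderOf_one] at ht
    norm_num at ht
  obtain ⟨j, hj⟩ := hxodd
  set g := x ^ (j + 1) with hg
  have hgg : g * g = x := by
    rw [hg, ← pow_add, show j + 1 + (j + 1) = orderOf x + 1 by omega, pow_succ, pow_orderOf_eq_one, one_mul]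
  have hgr : g * r' * g⁻¹ = r := by
    have h1 : r' * x * r'⁻¹ = x⁻¹ := by
      clear_value r'
      rw [hx, _root_.mul_inv_rev, inv_eq_of_mul_eq_one_right (sq_eq_one hr'),
        inv_eq_of_mul_eq_one_right (sq_eq_one hr)]
      calc r' * (r * r') * r' = r' * r * (r' * r') := by group
        _ = _ := by rw [sq_eq_one hr', mul_one]
    have h2 : r' * g⁻¹ = g * r' := by
      have h3 : r' * g * r'⁻¹ = g⁻¹ := by rw [hg, ← conj_pow, h1, inv_pow]
      calc r' * g⁻¹ = r' * (r' * g * r'⁻¹) := by rw [h3]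
        _ = (r' * r') * g * r'⁻¹ := by group
        _ = g * r' := by rw [sq_eq_one hr', one_mul, inv_eq_of_mul_eq_one_right (sq_eq_one hr')]
    rw [mul_assoc, h2, ← mul_assoc, hgg, hx, mul_assoc, sq_eq_one hr', mul_one]
  have hτc : τ ∈ normalizer (cj g A : Set G) := by
    rw [mem_normalizer_cj, show g⁻¹ * τ * g = τ by
      rw [mul_assoc, show τ * g = g * τ from (hxτ.symm.pow_right _).eq, inv_mul_cancel_left]]
    exact (p.normR hτR).2
  have hrc : r ∈ normalizer (cj g A : Set G) := by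
    rw [mem_normalizer_cj, ← hgr, show g⁻¹ * (g * r' * g⁻¹) * g = r' by group]
    exact hr'N
  refine ⟨g, τ, r, ?_, (p.normR hτR).1, hrM, hτc, hrc, hτ3, hr, hrτ⟩
  rintro ⟨h, hh1, hh2⟩
  have hhM : h ∈ M := p.eqN.symm ▸ mem_normalizer_iff_cj.2 hh2.symm
  rw [hh1, mem_normalizer_cj] at hτc hrc
  set τ₁ := h⁻¹ * τ * h with hτ₁
  set r₁ := h⁻¹ * r * h with hr₁
  have hnR : ∀ y, y ∈ M → y ∈ normalizer (A : Set G) → y ∈ L := by
    intro y hyM hyA
    refine mem_normalizer_of_conj fun z hz => ?_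
    have hRy : cj y R = R := by
      show R.map _ = R
      rw [p.R_eq, Subgroup.map_sup]
      exact congrArg₂ (· ⊔ ·) (mem_normalizer_iff_map_conj_eq.1 (p.eqN ▸ hyM))
        (mem_normalizer_iff_map_conj_eq.1 hyA)
    rw [← hRy]
    exact mem_map_of_mem _ hz
  have hτ₁M : τ₁ ∈ M := mul_mem (mul_mem (inv_mem hhM) (p.normR hτR).1) hhM
  have hr₁M : r₁ ∈ M := mul_mem (mul_mem (inv_mem hhM) hrM) hhM
  have hr₁o : orderOf r₁ = 2 := by
    rw [show r₁ = MulAut.conj h⁻¹ r by simp [hr₁], MulEquiv.orderOf_eq, hr]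
  have hr₁R : r₁ ∈ R := p.M_syl.mem_of_two hr₁M (hnR _ hr₁M hrc) (k := 1) (by rw [hr₁o, pow_one])
  have hinv : r₁ * τ₁ * r₁⁻¹ = τ₁⁻¹ := by
    rw [hr₁, hτ₁, show h⁻¹ * r * h * (h⁻¹ * τ * h) * (h⁻¹ * r * h)⁻¹ = h⁻¹ * (r * τ * r⁻¹) * h by group, hrτ]
    group
  have hmem2 : τ₁ * τ₁ ∈ R := by
    have e : τ₁ * τ₁ = τ₁ * r₁ * τ₁⁻¹ * r₁⁻¹ := by
      have : r₁ * τ₁⁻¹ * r₁⁻¹ = τ₁ := by
        rw [show r₁ * τ₁⁻¹ * r₁⁻¹ = (r₁ * τ₁ * r₁⁻¹)⁻¹ by group, hinv, inv_inv]
      calc τ₁ * τ₁ = τ₁ * (r₁ * τ₁⁻¹ * r₁⁻¹) := by rw [this]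
        _ = _ := by group
    rw [e]
    exact mul_mem ((mem_normalizer_iff.1 (hnR _ hτ₁M hτc) r₁).1 hr₁R) (inv_mem hr₁R)
  have hτ₁3 : orderOf τ₁ = 3 := by rw [show τ₁ = MulAut.conj h⁻¹ τ by simp [hτ₁], MulEquiv.orderOf_eq, hτ3]
  have h4 : τ₁ * τ₁ = 1 := eq_one_of_odd_mem p.two hmem2
    (by rw [← pow_two]; exact (show Odd 3 by decide).of_dvd_nat (hτ₁3 ▸ orderOf_pow_dvd 2))
  have := orderOf_dvd_of_pow_eq_one (n := 2) (show τ₁ ^ 2 = 1 by rw [pow_two]; exact h4)
  rw [hτ₁3] at this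
  norm_num at this

set_option maxHeartbeats 800000 in
open Classical in
/-- The closed set of twenty-one points. -/
theorem exists_closed : ∃ P₀ : Finset (Subgroup G), P₀.card = 21 ∧ A ∈ P₀ ∧ (∀ P ∈ P₀, IsPt A P) ∧
    (∀ m ∈ M, ∀ P ∈ P₀, cj m P ∈ P₀) ∧
    (∀ P ∈ P₀, ∀ Q l, Inc M A P l → Inc M A Q l → Q ∈ P₀) := by
  letI := Fintype.ofFinite G
  letI := Fintype.ofFinite (Subgroup G)
  obtain ⟨c₀, τ, r, hoff, hτM, hrM, hτc, hrc, hτ3, hr, hrτ⟩ := p.exists_triangle hG
  set D := core2 M with hD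
  set c := cj c₀ A
  have hc : IsPt A c := ⟨c₀, rfl⟩
  set L0 := Finset.univ.filter fun P => Inc M A P D with hL0
  have hDl : IsPt (core2 M) D := ⟨1, (cj_one _).symm⟩
  have hL0c : L0.card = 5 := p.card_pts hDl
  have hMD : ∀ m ∈ M, cj m D = D := fun m hm => mem_normalizer_iff_cj.1 (p.eqN ▸ hm)
  set O := (Finset.univ.filter fun x : G => x ∈ M).image fun x => cj x c with hO
  have hO' : ∀ {Q}, Q ∈ O → ∃ m ∈ M, cj m c = Q := fun {Q} hQ => by
    obtain ⟨m, hm, e⟩ := Finset.mem_image.1 hQ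
    exact ⟨m, (Finset.mem_filter.1 hm).2, e⟩
  have hOpt : ∀ Q ∈ O, IsPt A Q := fun Q hQ => by
    obtain ⟨m, -, rfl⟩ := hO' hQ
    exact hc.cj m
  have hOoff : ∀ Q ∈ O, ¬ Inc M A Q D := by
    intro Q hQ h
    obtain ⟨m, hm, rfl⟩ := hO' hQ
    have := h.cj m⁻¹
    rw [cj_inv_cancel, hMD _ (inv_mem hm)] at this
    exact hoff this
  -- involutions of `M` outside `D`
  set I := Finset.univ.filter fun x : G => x ∈ M ∧ orderOf x = 2 ∧ x ∉ D with hI
  have hI' : ∀ {x}, x ∈ I → x ∈ M ∧ orderOf x = 2 ∧ x ∉ D := fun {x} hx => (Finset.mem_filter.1 hx).2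
  let f : G → Subgroup G := fun x => if h : orderOf x = 2 then (p.invol_pt h).choose else ⊥
  have hf : ∀ x, orderOf x = 2 → IsPt A (f x) ∧ x ∈ f x := fun x hx => by
    simp only [f, dif_pos hx]
    exact (p.invol_pt hx).choose_spec
  let ln : G → Subgroup G := fun x => if h : orderOf x = 2 then (p.dual.invol_pt h).choose else ⊥
  have hln : ∀ x, orderOf x = 2 → IsPt (core2 M) (ln x) ∧ x ∈ ln x := fun x hx => by
    simp only [ln, dif_pos hx]
    exact (p.dual.invol_pt hx).choose_spec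
  have hfl : ∀ x, orderOf x = 2 → Inc M A (f x) (ln x) := fun x hx =>
    p.inc_of_mem hx (hf x hx).1 (hln x hx).1 (hf x hx).2 (hln x hx).2
  have hfL0 : ∀ x ∈ I, f x ∈ L0 := by
    intro x hx
    obtain ⟨hxM, hx2, hxD⟩ := hI' hx
    obtain ⟨m, hm, hmR⟩ := p.M_syl.conj_of_isPGroup (zpowers_le.2 hxM)
      (IsPGroup.of_card (n := 1) (by rw [Nat.card_zpowers, hx2, pow_one]))
    have hy := hmR x (mem_zpowers x)
    have hyy : m * x * m⁻¹ * (m * x * m⁻¹) = 1 := by
      rw [show m * x * m⁻¹ * (m * x * m⁻¹) = m * (x * x) * m⁻¹ by group, sq_eq_one hx2]; group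
    rcases p.invol _ hy hyy with h | h
    · exact absurd ((mem_normalizer_iff.1 (le_normalizer_core2 M hm) x).2 h) hxD
    · refine Finset.mem_filter.2 ⟨Finset.mem_univ _, ?_⟩
      rw [p.pt_unique hx2 (hf x hx2).1 ⟨m⁻¹, rfl⟩ (hf x hx2).2 (mem_cj.2 (by simpa using h))]
      exact ⟨m⁻¹, rfl, (hMD _ (inv_mem hm)).symm⟩
  have hcount : ∀ H : Subgroup G, (Finset.univ.filter fun x : G => x ∈ H).card = Nat.card H := fun H => by
    rw [← Fintype.card_subtype, Nat.card_eq_fintype_card]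
  have hI60 : I.card ≤ 60 := by
    refine le_trans (Finset.card_le_mul_card_image_of_maps_to hfL0 12 fun P hP => ?_) (by rw [hL0c])
    have hPD := (Finset.mem_filter.1 hP).2
    have hsub : (I.filter fun x => f x = P) ⊆
        (Finset.univ.filter fun x : G => x ∈ P) \ (Finset.univ.filter fun x : G => x ∈ (P ⊓ D : Subgroup G)) := by
      intro x hx
      obtain ⟨hxI, rfl⟩ := Finset.mem_filter.1 hx
      obtain ⟨-, hx2, hxD⟩ := hI' hxI
      simp only [Finset.mem_sdiff, Finset.mem_filter, Finset.mem_univ, true_and, mem_inf]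
      exact ⟨(hf x hx2).2, fun h => hxD h.2⟩
    refine (Finset.card_le_card hsub).trans ?_
    rw [Finset.card_sdiff_of_subset (Finset.monotone_filter_right _ fun x _ h => (mem_inf.1 h).1), hcount, hcount,
      (p.pt_elem hPD.isPt).2, p.card_inter hPD]
  -- the points of `O` fixed by an involution
  have hfixle : ∀ x ∈ I, ∀ Q ∈ O, x ∈ normalizer (Q : Set G) →
      Q ∈ ((Finset.univ.filter fun P => Inc M A P (ln x)).erase (f x)) := by
    intro x hx Q hQ hxQ
    obtain ⟨-, hx2, -⟩ := hI' hx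
    refine Finset.mem_erase.2 ⟨fun e => hOoff Q hQ ?_, Finset.mem_filter.2 ⟨Finset.mem_univ _,
      p.inc_of_fix hx2 (hOpt Q hQ) hxQ (hln x hx2).1 (hln x hx2).2⟩⟩
    rw [e]
    exact (Finset.mem_filter.1 (hfL0 x hx)).2
  have hI4 : ∀ x ∈ I, ((Finset.univ.filter fun P => Inc M A P (ln x)).erase (f x)).card = 4 := fun x hx => by
    have hmem : f x ∈ Finset.univ.filter fun P => Inc M A P (ln x) :=
      Finset.mem_filter.2 ⟨Finset.mem_univ _, hfl x (hI' hx).2.1⟩
    rw [Finset.card_erase_of_mem hmem,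
      p.card_pts (hln x (hI' hx).2.1).1]
  -- the stabiliser of `c`
  set H := M ⊓ normalizer (c : Set G) with hH
  have hOH : O.card * Nat.card H = 960 := p.cardM ▸ card_orbit M c
  have hHD : H ⊓ D = ⊥ := by
    rw [eq_bot_iff]
    intro i hi
    by_contra hi1
    have hi2 := orderOf_two (p.elemD i hi.2) hi1
    exact hoff (p.inc_of_fix hi2 hc hi.1.2 hDl hi.2)
  have hH60 : Nat.card H ∣ 60 := by
    haveI : (D.subgroupOf M).Normal := normal_subgroupOf_of_le_normalizer (le_normalizer_core2 M)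
    have h1 := Subgroup.relIndex_dvd_index_of_normal (D.subgroupOf M) (H.subgroupOf M)
    rw [p.card_core_subgroupOf, relIndex_subgroupOf (inf_le_left : H ≤ M), relIndex,
      show D.subgroupOf H = ⊥ by rw [← inf_subgroupOf_right, inf_comm, hHD, bot_subgroupOf], index_bot] at h1
    exact h1
  have hrH : r ∈ H := ⟨hrM, hrc⟩
  have hτH : τ ∈ H := ⟨hτM, hτc⟩
  have h3H : 3 ∣ Nat.card H := hτ3 ▸ Subgroup.orderOf_dvd_natCard _ hτH
  -- the class of `r`
  set K := (Finset.univ.filter fun x : G => x ∈ H).image fun x => x * r * x⁻¹ with hK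
  set C := H ⊓ centralizer ({r} : Set G) with hC
  have hKC : K.card * Nat.card C = Nat.card H := by
    have hfib : ∀ k ∈ K, ((Finset.univ.filter fun x : G => x ∈ H).filter fun x => x * r * x⁻¹ = k).card
        = Nat.card C := by
      intro k hk
      obtain ⟨x₀, hx₀, rfl⟩ := Finset.mem_image.1 hk
      have hx₀H : x₀ ∈ H := (Finset.mem_filter.1 hx₀).2
      rw [← hcount C, ← Finset.card_image_of_injective (Finset.univ.filter fun x => x ∈ C) (mul_right_injective x₀)]
      congr 1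
      ext x
      simp only [hC, Finset.mem_filter, Finset.mem_univ, true_and, Finset.mem_image, mem_inf, mem_cent]
      constructor
      · rintro ⟨hxH, hx⟩
        refine ⟨x₀⁻¹ * x, ⟨H.mul_mem (H.inv_mem hx₀H) hxH, ?_⟩, mul_inv_cancel_left _ _⟩
        calc x₀⁻¹ * x * r = x₀⁻¹ * (x * r * x⁻¹) * x := by group
          _ = x₀⁻¹ * (x₀ * r * x₀⁻¹) * x := by rw [hx]
          _ = r * (x₀⁻¹ * x) := by group
      · rintro ⟨y, ⟨hyH, hy⟩, rfl⟩
        refine ⟨H.mul_mem hx₀H hyH, ?_⟩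
        rw [show x₀ * y * r * (x₀ * y)⁻¹ = x₀ * (y * r * y⁻¹) * x₀⁻¹ by group, hy, mul_inv_cancel_right]
    have h := Finset.card_eq_sum_card_image (fun x => x * r * x⁻¹) (Finset.univ.filter fun x : G => x ∈ H)
    rw [Finset.sum_congr rfl hfib, Finset.sum_const, smul_eq_mul, hcount] at h
    exact h.symm
  have hKI : ∀ m ∈ M, ∀ k ∈ K, m * k * m⁻¹ ∈ I ∧ m * k * m⁻¹ ∈ normalizer (cj m c : Set G) := by
    intro m hm k hk
    obtain ⟨x, hx, rfl⟩ := Finset.mem_image.1 hk
    have hxH : x ∈ H := (Finset.mem_filter.1 hx).2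
    have hkH : x * r * x⁻¹ ∈ H := H.mul_mem (H.mul_mem hxH hrH) (H.inv_mem hxH)
    have hko : orderOf (x * r * x⁻¹) = 2 := by
      rw [show x * r * x⁻¹ = MulAut.conj x r from rfl, MulEquiv.orderOf_eq, hr]
    refine ⟨Finset.mem_filter.2 ⟨Finset.mem_univ _, mul_mem (mul_mem hm hkH.1) (inv_mem hm), ?_, fun h => ?_⟩, ?_⟩
    · rw [show m * (x * r * x⁻¹) * m⁻¹ = MulAut.conj m (x * r * x⁻¹) from rfl, MulEquiv.orderOf_eq, hko]
    · have h' : x * r * x⁻¹ ∈ H ⊓ D :=
        ⟨hkH, (mem_normalizer_iff.1 (le_normalizer_core2 M hm) _).2 h⟩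
      rw [hHD, mem_bot] at h'
      exact H65.ne_one_of_two hko h'
    · rw [mem_normalizer_cj, show m⁻¹ * (m * (x * r * x⁻¹) * m⁻¹) * m = x * r * x⁻¹ by group]
      exact hkH.2
  have hfixO : ∀ Q ∈ O, K.card ≤ (I.filter fun x => x ∈ normalizer (Q : Set G)).card := by
    intro Q hQ
    obtain ⟨m, hm, rfl⟩ := hO' hQ
    refine Finset.card_le_card_of_injOn (fun k => m * k * m⁻¹) (fun k hk => Finset.mem_filter.2 (hKI m hm k hk))
      fun a _ b _ e => mul_left_cancel (mul_right_cancel e)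
  have hfixI : ∀ x ∈ I, (O.filter fun Q : Subgroup G => x ∈ normalizer (Q : Set G)).card ≤ 4 := fun x hx =>
    (Finset.card_le_card fun Q hQ => hfixle x hx Q (Finset.mem_filter.1 hQ).1 (Finset.mem_filter.1 hQ).2).trans
      (hI4 x hx).le
  have hswap : ∑ Q ∈ O, (I.filter fun x => x ∈ normalizer (Q : Set G)).card =
      ∑ x ∈ I, (O.filter fun Q : Subgroup G => x ∈ normalizer (Q : Set G)).card := by
    simp_rw [Finset.card_filter]
    exact Finset.sum_comm
  have hlow : O.card * K.card ≤ ∑ x ∈ I, (O.filter fun Q : Subgroup G => x ∈ normalizer (Q : Set G)).card := by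
    rw [← hswap]
    calc O.card * K.card = ∑ Q ∈ O, K.card := by rw [Finset.sum_const, smul_eq_mul]
      _ ≤ _ := Finset.sum_le_sum hfixO
  have hhigh := Finset.sum_le_sum hfixI
  rw [Finset.sum_const, smul_eq_mul] at hhigh
  have hOK : O.card * K.card * Nat.card C = 960 := by rw [mul_assoc, hKC, hOH]
  have hC4 : Nat.card C = 4 := by
    obtain ⟨i, hi⟩ := IsPGroup.iff_card.1 ((hG r hr).to_le (inf_le_right : C ≤ _))
    have hd : 2 ^ i ∣ 60 := hi ▸ (Subgroup.card_dvd_of_le (inf_le_left : C ≤ H)).trans hH60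
    rw [hi] at hOK ⊢
    have hle : i ≤ 2 := by
      by_contra hgt
      exact absurd ((pow_dvd_pow 2 (by omega : 3 ≤ i)).trans hd) (by norm_num)
    interval_cases i <;> norm_num at hOK ⊢ <;> nlinarith
  have hOK' : O.card * K.card = 240 := by rw [hC4] at hOK; omega
  have hI60' : I.card = 60 := by omega
  have hH60' : Nat.card H = 60 := by
    have hd4 : 4 ∣ Nat.card H := hC4 ▸ Subgroup.card_dvd_of_le inf_le_left
    have hd12 : 12 ∣ Nat.card H := Nat.Coprime.mul_dvd_of_dvd_of_dvd (m := 4) (n := 3) (by norm_num) hd4 h3H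
    have hle := Nat.le_of_dvd (by norm_num) hH60
    obtain ⟨k, hk⟩ := hd12
    have hk' : k = 1 ∨ k = 5 := by
      have : k ∣ 5 := Nat.dvd_of_mul_dvd_mul_left (by norm_num : 0 < 12) (hk ▸ hH60)
      exact (Nat.dvd_prime (by norm_num)).1 this
    rcases hk' with rfl | rfl
    · exfalso
      -- order twelve: each element of `C` fixes the three reflections or is trivial
      rw [hk, hC4] at hKC
      have hK3 : K.card = 3 := by omega
      set r₁ := τ * r * τ⁻¹ with hr₁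
      set r₂ := τ⁻¹ * r * τ with hr₂
      have hmemK : ∀ x ∈ H, x * r * x⁻¹ ∈ K := fun x hx =>
        Finset.mem_image.2 ⟨x, Finset.mem_filter.2 ⟨Finset.mem_univ _, hx⟩, rfl⟩
      have hτi : r * τ⁻¹ * r⁻¹ = τ := by
        rw [show r * τ⁻¹ * r⁻¹ = (r * τ * r⁻¹)⁻¹ by group, hrτ, inv_inv]
      have hτ1 : τ ≠ 1 := fun e => by rw [e, orderOf_one] at hτ3; norm_num at hτ3
      have hττ : τ * τ ≠ 1 := fun e => by
        have := orderOf_dvd_of_pow_eq_one (n := 2) (show τ ^ 2 = 1 by rw [pow_two]; exact e)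
        rw [hτ3] at this
        norm_num at this
      have hrel : r₁ = τ * τ * r := by
        rw [hr₁, show τ * r * τ⁻¹ = τ * (r * τ⁻¹ * r⁻¹) * r by group, hτi]
      have h01 : r ≠ r₁ := fun e => hττ (mul_eq_right.1 (hrel ▸ e).symm)
      have hrel2 : r₂ = (τ * τ)⁻¹ * r := by
        rw [hr₂, show τ⁻¹ * r * τ = τ⁻¹ * (r * τ * r⁻¹) * r by group, hrτ]
        group
      have h02 : r ≠ r₂ := fun e => hττ (inv_eq_one.1 (mul_eq_right.1 (hrel2 ▸ e).symm))
      have h12 : r₁ ≠ r₂ := fun e => by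
        rw [hrel, hrel2] at e
        have e4 : τ * τ * (τ * τ) = 1 := mul_eq_one_iff_eq_inv.2 (mul_right_cancel e)
        have hd : orderOf τ ∣ 4 := orderOf_dvd_of_pow_eq_one (by
          rw [← e4]; simp [pow_succ, mul_assoc])
        rw [hτ3] at hd
        norm_num at hd
      have hK' : K = {r, r₁, r₂} := by
        refine (Finset.eq_of_subset_of_card_le ?_ ?_).symm
        · intro x hx
          simp only [Finset.mem_insert, Finset.mem_singleton] at hx
          rcases hx with rfl | rfl | rfl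
          · simpa using hmemK 1 (one_mem H)
          · exact hmemK τ hτH
          · simpa [hr₂] using hmemK τ⁻¹ (H.inv_mem hτH)
        · rw [hK3, Finset.card_eq_three.2 ⟨r, r₁, r₂, h01, h02, h12, rfl⟩]
      have hfix : ∀ s ∈ C, s * r₁ * s⁻¹ = r₁ → s = 1 := by
        intro s hs hs1
        have hsr : s * r * s⁻¹ = r := mul_inv_eq_iff_eq_mul.2 (mem_cent.1 hs.2)
        have hcomm : (τ * τ) * s = s * (τ * τ) := by
          have : s * (r₁ * r⁻¹) * s⁻¹ = r₁ * r⁻¹ := by
            rw [show s * (r₁ * r⁻¹) * s⁻¹ = (s * r₁ * s⁻¹) * (s * r * s⁻¹)⁻¹ by group, hs1, hsr]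
          rw [hrel, mul_inv_cancel_right] at this
          exact (mul_inv_eq_iff_eq_mul.1 this).symm
        exact hG.fpf' ((hG r hr).to_le (inf_le_right : C ≤ _))
          (by rw [← pow_two]; exact (show Odd 3 by decide).of_dvd_nat (hτ3 ▸ orderOf_pow_dvd 2)) hττ hs hcomm
      have hswap12 : ∀ s ∈ C, s ≠ 1 → s * r₁ * s⁻¹ = r₂ := by
        intro s hs hs1
        have hsr : s * r * s⁻¹ = r := mul_inv_eq_iff_eq_mul.2 (mem_cent.1 hs.2)
        have h5 : s * r₁ * s⁻¹ ∈ K := by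
          rw [hr₁, show s * (τ * r * τ⁻¹) * s⁻¹ = (s * τ) * r * (s * τ)⁻¹ by group]
          exact hmemK _ (H.mul_mem hs.1 hτH)
        rw [hK'] at h5
        simp only [Finset.mem_insert, Finset.mem_singleton] at h5
        rcases h5 with h5 | h5 | h5
        · exact absurd (mul_left_cancel (mul_right_cancel (hsr.trans h5.symm))) h01
        · exact absurd (hfix s hs h5) hs1
        · exact h5
      letI := Fintype.ofFinite C
      have h3 : 2 < Fintype.card C := by rw [← Nat.card_eq_fintype_card, hC4]; norm_num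
      obtain ⟨a, b, e, hab, hae, hbe⟩ := Fintype.two_lt_card_iff.1 h3
      obtain ⟨s, s', hss, hs1, hs1'⟩ : ∃ s s' : C, s ≠ s' ∧ s ≠ 1 ∧ s' ≠ 1 := by
        by_cases ha : a = 1
        · exact ⟨b, e, hbe, fun h => hab (ha.trans h.symm), fun h => hae (ha.trans h.symm)⟩
        · by_cases hb : b = 1
          · exact ⟨a, e, hae, ha, fun h => hbe (hb.trans h.symm)⟩
          · exact ⟨a, b, hab, ha, hb⟩
      have h6 := hswap12 s s.2 (fun h => hs1 (Subtype.ext h))
      have h7 := hswap12 s' s'.2 (fun h => hs1' (Subtype.ext h))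
      refine hss (inv_mul_eq_one.1 (Subtype.ext (hfix ((s : G)⁻¹ * s') (C.mul_mem (C.inv_mem s.2) s'.2) ?_)))
      calc (s : G)⁻¹ * s' * r₁ * ((s : G)⁻¹ * s')⁻¹ = (s : G)⁻¹ * ((s' : G) * r₁ * (s' : G)⁻¹) * s := by group
        _ = (s : G)⁻¹ * ((s : G) * r₁ * (s : G)⁻¹) * s := by rw [h7, h6]
        _ = r₁ := by group
    · omega
  have hO16 : O.card = 16 := by rw [hH60'] at hOH; omega
  have hK15 : K.card = 15 := by rw [hO16] at hOK'; omega
  have hex : ∀ x ∈ I, ∀ Q, Inc M A Q (ln x) → Q ∈ L0 ∪ O := by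
    intro x hx Q hQ
    by_cases hQf : Q = f x
    · exact Finset.mem_union_left _ (hQf ▸ hfL0 x hx)
    have heq : ∀ x ∈ I, (O.filter fun Q : Subgroup G => x ∈ normalizer (Q : Set G)).card = 4 :=
      (Finset.sum_eq_sum_iff_of_le hfixI).1 (by
        rw [Finset.sum_const, smul_eq_mul]
        omega)
    have hsub : (O.filter fun Q : Subgroup G => x ∈ normalizer (Q : Set G)) =
        (Finset.univ.filter fun P => Inc M A P (ln x)).erase (f x) :=
      Finset.eq_of_subset_of_card_le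
        (fun Q hQ => hfixle x hx Q (Finset.mem_filter.1 hQ).1 (Finset.mem_filter.1 hQ).2)
        (by rw [hI4 x hx, heq x hx])
    exact Finset.mem_union_right _ (Finset.mem_filter.1 (hsub.symm ▸
      Finset.mem_erase.2 ⟨hQf, Finset.mem_filter.2 ⟨Finset.mem_univ _, hQ⟩⟩ :
        Q ∈ O.filter fun Q : Subgroup G => x ∈ normalizer (Q : Set G))).1
  refine ⟨L0 ∪ O, ?_, Finset.mem_union_left _ (Finset.mem_filter.2 ⟨Finset.mem_univ _, p.inc_base⟩), ?_, ?_, ?_⟩
  · rw [Finset.card_union_of_disjoint, hL0c, hO16]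
    exact Finset.disjoint_left.2 fun Q hQ hQ' => hOoff Q hQ' (Finset.mem_filter.1 hQ).2
  · intro P hP
    rcases Finset.mem_union.1 hP with h | h
    exacts [(Finset.mem_filter.1 h).2.isPt, hOpt P h]
  · intro m hm P hP
    rcases Finset.mem_union.1 hP with h | h
    · refine Finset.mem_union_left _ (Finset.mem_filter.2 ⟨Finset.mem_univ _, ?_⟩)
      have := (Finset.mem_filter.1 h).2.cj m
      rwa [hMD m hm] at this
    · obtain ⟨m', hm', rfl⟩ := hO' h
      exact Finset.mem_union_right _ (Finset.mem_image.2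
        ⟨m * m', Finset.mem_filter.2 ⟨Finset.mem_univ _, mul_mem hm hm'⟩, (cj_mul m m' c).symm⟩)
  · intro P hP Q l hPl hQl
    by_cases hlD : l = D
    · exact Finset.mem_union_left _ (Finset.mem_filter.2 ⟨Finset.mem_univ _, hlD ▸ hQl⟩)
    rcases Finset.mem_union.1 hP with h | h
    · -- a line through a point of `D`
      have hPD := (Finset.mem_filter.1 h).2
      obtain ⟨⟨i, hiP, hil⟩, hi1⟩ := (Subgroup.ne_bot_iff_exists_ne_one (H := P ⊓ l)).1 (fun e => by
        have := p.card_inter hPl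
        rw [e, Subgroup.card_bot] at this
        norm_num at this)
      have hi2 : orderOf i = 2 := orderOf_two ((p.pt_elem hPl.isPt).1 i hiP) fun e => hi1 (Subtype.ext e)
      have hiI : i ∈ I := Finset.mem_filter.2 ⟨Finset.mem_univ _,
        p.eqN.symm ▸ p.inc_le' hPD hiP, hi2, fun hiD => hlD (p.ln_unique hi2 hPl.isLn hDl hil hiD)⟩
      rw [p.ln_unique hi2 hPl.isLn (hln i hi2).1 hil (hln i hi2).2] at hQl
      exact hex i hiI Q hQl
    · -- a line through a point of `O`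
      set LP := Finset.univ.filter fun l' => Inc M A P l' with hLP
      have hLP5 : LP.card = 5 := by
        have h5 := p.dual.card_pts (l := P) (by rw [p.coreN]; exact hPl.isPt)
        rw [← h5]
        congr 1
        ext l'
        simp [hLP, p.inc_dual]
      set IP := I.filter fun x => x ∈ normalizer (P : Set G) with hIP
      have hmaps : ∀ x ∈ IP, ln x ∈ LP := fun x hx => by
        obtain ⟨hxI, hxP⟩ := Finset.mem_filter.1 hx
        exact Finset.mem_filter.2 ⟨Finset.mem_univ _, p.inc_of_fix (hI' hxI).2.1 (hOpt P h) hxP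
          (hln x (hI' hxI).2.1).1 (hln x (hI' hxI).2.1).2⟩
      have hfib : ∀ l' ∈ IP.image ln, (IP.filter fun x => ln x = l').card ≤ 3 := by
        intro l' hl'
        obtain ⟨x₀, hx₀, rfl⟩ := Finset.mem_image.1 hl'
        have hx₀I := (Finset.mem_filter.1 hx₀).1
        have hx₀2 := (hI' hx₀I).2.1
        have hne : ln x₀ ≠ D := fun e => (hI' hx₀I).2.2 (e ▸ (hln x₀ hx₀2).2)
        have hsub : (IP.filter fun x => ln x = ln x₀) ⊆
            (Finset.univ.filter fun x : G => x ∈ (f x₀ ⊓ ln x₀ : Subgroup G)).erase 1 := by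
          intro x hx
          obtain ⟨hxP, hxl⟩ := Finset.mem_filter.1 hx
          have hxI := (Finset.mem_filter.1 hxP).1
          have hx2 := (hI' hxI).2.1
          have hfeq : f x = f x₀ := p.ln_share (hxl ▸ hfl x hx2) (hfl x₀ hx₀2)
            (Finset.mem_filter.1 (hfL0 x hxI)).2 (Finset.mem_filter.1 (hfL0 x₀ hx₀I)).2 hne
          refine Finset.mem_erase.2 ⟨H65.ne_one_of_two hx2, Finset.mem_filter.2 ⟨Finset.mem_univ _, ?_, ?_⟩⟩
          · exact hfeq ▸ (hf x hx2).2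
          · exact hxl ▸ (hln x hx2).2
        refine (Finset.card_le_card hsub).trans ?_
        rw [Finset.card_erase_of_mem (by simp [one_mem]), hcount, p.card_inter (hfl x₀ hx₀2)]
      have h15 : 15 ≤ IP.card := hK15 ▸ hfixO P h
      have h16 := Finset.card_le_mul_card_image IP 3 hfib
      have heq : IP.image ln = LP := Finset.eq_of_subset_of_card_le
        (fun l' hl' => by
          obtain ⟨x, hx, rfl⟩ := Finset.mem_image.1 hl'
          exact hmaps x hx) (by omega)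
      obtain ⟨x, hx, rfl⟩ := Finset.mem_image.1
        (show l ∈ IP.image ln from heq.symm ▸ Finset.mem_filter.2 ⟨Finset.mem_univ _, hPl⟩)
      exact hex x (Finset.mem_filter.1 hx).1 Q hQl

end Pair

end H11.CIT
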