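import Cfsg.Agent.H11.CIT.Coord

/-!
The configuration of a 2-local subgroup that is neither Thompson closed nor enlargeable.
-/

set_option autoImplicit false
set_option linter.style.haveILetI false
set_option linter.unusedSectionVars false

open scoped MatrixGroups
open Matrix

namespace H11.CIT

open Subgroup

universe u

variable {G : Type u} [Group G] [Finite G]

/-- An elementary core of order `q²` with natural action, an offender `A` and the 2-group `R = DA`. -/
structure Cfg (M R A : Subgroup G) {F : Type} [Field F] [Fintype F] (n : ℕ)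
    (Ψ : (Fin 2 → F) → G) (lft : SL(2, F) → G) : Prop where
  coord : Coord M A n Ψ lft
  eqN : M = normalizer (core2 M : Set G)
  syl : IsSyl R M
  maxE : MaxE R A
  elemD : Elem (core2 M)
  surj : ∀ x ∈ core2 M, ∃ v, Ψ v = x
  cardD : Nat.card (core2 M) = 2 ^ n * 2 ^ n
  cardA : Nat.card A = 2 ^ n * 2 ^ n
  cardU : Nat.card (A ⊓ core2 M : Subgroup G) = 2 ^ n
  inf_eq : ∀ x ∈ A, x ∈ core2 M → ∃ s, x = Ψ ![s, 0]
  mem_inf : ∀ s : F, Ψ ![s, 0] ∈ A
  cardR : Nat.card R = 2 ^ n * 2 ^ n * 2 ^ n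
  decomp : ∀ r ∈ R, ∃ d ∈ core2 M, ∃ a ∈ A, r = d * a
  invol : ∀ r ∈ R, r * r = 1 → r ∈ core2 M ∨ r ∈ A
  centD : centralizer (core2 M : Set G) = core2 M
  centA : ∀ a ∈ A, a ∉ core2 M → ∀ r ∈ R, r * a = a * r → r ∈ A

theorem mul_sq_comm {d a : G} (hd : d * d = 1) (ha : a * a = 1) (h : d * a * (d * a) = 1) :
    d * a = a * d :=
  calc d * a = (d * a)⁻¹ := eq_inv_of_mul_eq_one_left h
    _ = a * d := by
      rw [_root_.mul_inv_rev, inv_eq_of_mul_eq_one_right ha, inv_eq_of_mul_eq_one_right hd]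

theorem simple_index_ne_two [IsSimpleGroup G] (hnc : ¬ IsMulCommutative G) (K : Subgroup G)
    (hK : K.Normal) : K.index ≠ 2 := by
  intro hi
  haveI : Fact (Nat.Prime 2) := ⟨Nat.prime_two⟩
  rcases hK.eq_bot_or_eq_top with h | h
  · rw [h, index_bot] at hi
    exact H62.not_isPGroup_of_simple hnc 2 (IsPGroup.of_card (n := 1) (by rw [hi, pow_one]))
  · rw [h, index_top] at hi
    omega

/-- Coordinates give the configuration. -/
theorem cfg_of_coord (hG : IsCIT G) {M R A : Subgroup G} {F : Type} [Field F] [Fintype F] {n : ℕ}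
    {Ψ : (Fin 2 → F) → G} {lft : SL(2, F) → G} (h : Coord M A n Ψ lft)
    (heqN : M = normalizer (core2 M : Set G)) (hR : IsSyl R M) (hA : MaxE R A) :
    Cfg M R A n Ψ lft := by
  classical
  haveI := h.charTwo
  obtain ⟨hcA, hcU, hinf⟩ := h.card_A hG hR hA
  have hDV := h.core_eq_omega hG hR hA
  have hDe : Elem (core2 M) := fun x hx => (hDV hx).2.1
  have hDeq : core2 M = omegaZ (core2 M) := le_antisymm hDV fun x hx => hx.1
  have hcD : Nat.card (core2 M) = 2 ^ n * 2 ^ n :=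
    (congrArg (fun K : Subgroup G => Nat.card K) hDeq).trans h.card_omega
  have hsurj : ∀ x ∈ core2 M, ∃ v, Ψ v = x := fun x hx => h.surj x (hDV hx)
  choose α hαA hαx using h.upSurj
  let μ : F × core2 M → R := fun p => ⟨(p.2 : G) * α p.1,
    mul_mem (hR.core2_le p.2.2) (hA.1 (hαA _))⟩
  have hμ : Function.Injective μ := by
    rintro ⟨x, d⟩ ⟨y, d'⟩ e
    have e' : (d : G) * α x = d' * α y := congrArg Subtype.val e
    have hxy : x = y := by
      have h1 := h.acts_mul (h.acts_core d.2) (h.acts_up (hαx x))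
      have h2 := h.acts_mul (h.acts_core d'.2) (h.acts_up (hαx y))
      rw [e'] at h1
      have := h.acts_unique h1 h2
      simpa [H37.coe_upper2] using congrArg (fun g : SL(2, F) => g 0 1) this
    subst hxy
    exact Prod.ext rfl (Subtype.ext (mul_right_cancel e'))
  have hcμ : Nat.card (F × core2 M) = 2 ^ n * 2 ^ n * 2 ^ n := by
    rw [Nat.card_prod, Nat.card_eq_fintype_card (α := F), h.cardF, hcD, mul_assoc]
  have hcR : Nat.card R = 2 ^ n * 2 ^ n * 2 ^ n := by
    refine le_antisymm ?_ (hcμ ▸ Nat.card_le_card_of_injective μ hμ)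
    have := h.two_part R hR.1 hR.2.1
    rwa [hcD] at this
  have hdec : ∀ r ∈ R, ∃ d ∈ core2 M, ∃ a ∈ A, r = d * a := by
    intro r hr
    obtain ⟨⟨x, d⟩, hd⟩ :=
      ((Nat.bijective_iff_injective_and_card μ).2 ⟨hμ, by rw [hcμ, hcR]⟩).2 ⟨r, hr⟩
    exact ⟨d, d.2, α x, hαA x, (congrArg Subtype.val hd).symm⟩
  have hcomm : ∀ a ∈ A, a ∉ core2 M → ∀ d ∈ core2 M, d * a = a * d → d ∈ A := by
    intro a ha haD d hd hda
    obtain ⟨v, rfl⟩ := hsurj d hd
    obtain ⟨x, hx⟩ := h.upA a ha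
    have hx0 : x ≠ 0 := by
      rintro rfl
      exact haD (h.mem_core_of_acts_one (h.mem_A_M hG hR hA ha) (H78.Nat2.up_zero (F := F) ▸ h.acts_up hx))
    have h1 := hx v
    rw [← hda, mul_inv_cancel_right, up_vec] at h1
    have h2 : x * v 1 = 0 := by simpa using congrFun (h.inj h1) 0
    rw [h.vec_eq hG hR hA v, (mul_eq_zero.1 h2).resolve_left hx0]
    exact h.fix_mem_A hG hR hA _
  refine ⟨h, heqN, hR, hA, hDe, hsurj, hcD, hcA, hcU, hinf,
    h.fix_mem_A hG hR hA, hcR, hdec, fun r hr hr2 => ?_, ?_, fun a ha haD r hr hra => ?_⟩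
  · obtain ⟨d, hd, a, ha, rfl⟩ := hdec r hr
    by_cases haD : a ∈ core2 M
    · exact Or.inl (mul_mem hd haD)
    · exact Or.inr (mul_mem (hcomm a ha haD d hd
        (mul_sq_comm (hDe d hd) (hA.2.1 a ha) hr2)) ha)
  · refine le_antisymm (fun x hx => ?_) fun x hx => mem_centralizer_iff.2 fun y hy => hDe.comm hy hx
    have hxM : x ∈ M := by
      rw [heqN]
      exact centralizer_le_normalizer _ hx
    refine h.faithful x hxM fun v => ?_
    exact mul_inv_eq_iff_eq_mul.2 (mem_centralizer_iff.1 hx _ (h.mem_core v)).symm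
  · obtain ⟨d, hd, a', ha', rfl⟩ := hdec r hr
    refine mul_mem (hcomm a ha haD d hd (mul_right_cancel (b := a') ?_)) ha'
    calc d * a * a' = d * (a' * a) := by rw [mul_assoc, hA.2.1.comm ha ha']
      _ = a * (d * a') := by rw [← mul_assoc, hra]
      _ = a * d * a' := by group

/-- A bad 2-local subgroup gives the configuration. -/
theorem exists_cfg (hG : IsCIT G) [IsSimpleGroup G] (hnc : ¬ IsMulCommutative G) (ih : Below G)
    {M₀ : Subgroup G} (hM₀ : IsTwoLocal M₀) (hnJ : ¬ JClosed M₀) (hnp : ¬ Progress M₀)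
    (hnexc : ¬ Exc G) :
    ∃ (M R A : Subgroup G) (F : Type) (_ : Field F) (_ : Fintype F) (n : ℕ)
      (Ψ : (Fin 2 → F) → G) (lft : SL(2, F) → G), Cfg M R A n Ψ lft := by
  classical
  haveI : Fact (Nat.Prime 2) := ⟨Nat.prime_two⟩
  have hidx := simple_index_ne_two (G := G) hnc
  have hbad : ∃ A₀ : Subgroup G, A₀ ≤ M₀ ∧ Elem A₀ ∧
      2 * Nat.card (A₀ ⊓ core2 M₀ : Subgroup G) < Nat.card A₀ := by
    by_contra hall
    push Not at hall
    rcases local_cases hG hidx hM₀ hall with h | h | h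
    exacts [hnJ h, hnp h, hnexc h]
  simp only [JClosed, not_forall] at hnJ
  obtain ⟨R, hR₀, hJR⟩ := hnJ
  obtain ⟨A, hA, hAD₀⟩ : ∃ A, MaxE R A ∧ ¬ A ≤ core2 M₀ := by
    by_contra hall
    push Not at hall
    exact hJR (iSup₂_le fun A hA => hall A hA)
  set D := core2 M₀ with hD
  set M := normalizer (D : Set G) with hM'
  have hD2 := isPGroup_core2 M₀
  have hDb : D ≠ ⊥ := fun e => omegaZ_ne_bot hM₀ (le_bot_iff.1 fun x hx => mem_bot.2 (by
    have h1 : x ∈ D := hx.1
    rwa [e, mem_bot] at h1))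
  have hMle : M₀ ≤ M := le_normalizer_core2 M₀
  have hM : IsTwoLocal M := ⟨D, hDb, hD2, rfl⟩
  have hR : IsSyl R M := by
    obtain ⟨R₁, hle, hR₁⟩ := exists_isSyl (hR₀.1.trans hMle) hR₀.2.1
    have : R₁ = R := by
      refine (eq_of_le_of_card_ge hle ?_).symm
      by_contra hlt
      exact hnp ⟨M, R, R₁, hM, hMle, hR₀, hR₁, Nat.lt_of_not_le hlt⟩
    rwa [this] at hR₁
  have hcore : core2 M = D := by
    refine le_antisymm ?_ (le_core2 le_normalizer le_rfl hD2)
    have h1 : core2 M ≤ M₀ := hR.core2_le.trans hR₀.1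
    exact le_core2 h1 (hMle.trans (le_normalizer_core2 M)) (isPGroup_core2 M)
  have hAD : ¬ A ≤ core2 M := by rwa [hcore]
  obtain ⟨A₀, hA₀M, hA₀, hA₀c⟩ := hbad
  obtain ⟨F, iF, iFt, n, Ψ, lft, h⟩ := exists_coord hG hnc ih hM hR hA hAD
    ⟨A₀, hA₀M.trans hMle, hA₀, by rw [hcore]; exact hA₀c⟩
  letI := iF
  letI := iFt
  exact ⟨M, R, A, F, iF, iFt, n, Ψ, lft, cfg_of_coord hG h (by rw [hcore]) hR hA⟩

end H11.CIT
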