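import Cfsg.Agent.H11.CIT.Natural
import Cfsg.Agent.H31.FpfThree
import Mathlib.RingTheory.Trace.Basic

/-!
Consequences of natural coordinates: the 2-core is elementary abelian of order `q²`, the offender has
order `q²` and meets it in `q`.
-/

set_option autoImplicit false
set_option linter.style.haveILetI false
set_option linter.unusedSectionVars false

open scoped MatrixGroups commutatorElement
open Matrix

namespace H11.CIT

open Subgroup

universe u

variable {G : Type u} [Group G] [Finite G] {F : Type} [Field F] [Fintype F]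

theorem up_vec (x : F) (v : Fin 2 → F) :
    (H37.upper2 x : Matrix (Fin 2) (Fin 2) F).mulVec v = ![v 0 + x * v 1, v 1] := by
  funext i
  fin_cases i <;> simp [Matrix.mulVec, dotProduct, Fin.sum_univ_two]

theorem hh_vec (t : Fˣ) (v : Fin 2 → F) :
    (H78.Nat2.hh t : Matrix (Fin 2) (Fin 2) F).mulVec v = ![(t : F) * v 0, (t : F)⁻¹ * v 1] := by
  funext i
  fin_cases i <;> simp [H78.Nat2.coe_hh, Matrix.mulVec, dotProduct, Fin.sum_univ_two]

theorem ww_vec (v : Fin 2 → F) :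
    (H78.Nat2.ww : SL(2, F)).1.mulVec v = ![v 1, -v 0] := by
  funext i
  fin_cases i <;> simp [H78.Nat2.coe_ww, Matrix.mulVec, dotProduct, Fin.sum_univ_two]

namespace Coord

variable {M A : Subgroup G} {n : ℕ} {Ψ : (Fin 2 → F) → G} {lft : SL(2, F) → G}
  (h : Coord M A n Ψ lft)
include h

theorem charTwo : CharP F 2 :=
  haveI : Fact (Nat.Prime 2) := ⟨Nat.prime_two⟩
  charP_of_card_eq_prime_pow h.cardF

theorem four_le : 4 ≤ 2 ^ n :=
  (show 4 = 2 ^ 2 by norm_num).le.trans (Nat.pow_le_pow_right (by norm_num) h.two_le)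

theorem map_zero : Ψ 0 = 1 := by
  have := h.map_add 0 0
  rw [add_zero] at this
  exact mul_eq_left.1 this.symm

theorem mem_core (v : Fin 2 → F) : Ψ v ∈ core2 M := (h.mem v).1

theorem mem_M (v : Fin 2 → F) : Ψ v ∈ M := core2_le M (h.mem_core v)

theorem sq (v : Fin 2 → F) : Ψ v * Ψ v = 1 := (h.mem v).2.1

theorem comm_core {d : G} (hd : d ∈ core2 M) (v : Fin 2 → F) : d * Ψ v * d⁻¹ = Ψ v :=
  mul_inv_eq_iff_eq_mul.2 ((h.mem v).2.2 d hd).symm

theorem inv_eq (v : Fin 2 → F) : (Ψ v)⁻¹ = Ψ v := inv_eq_of_mul_eq_one_right (h.sq v)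

theorem card_omega : Nat.card (omegaZ (core2 M)) = 2 ^ n * 2 ^ n := by
  have : Nat.card (Fin 2 → F) = Nat.card (omegaZ (core2 M)) :=
    Nat.card_eq_of_bijective (fun v => (⟨Ψ v, h.mem v⟩ : omegaZ (core2 M)))
      ⟨fun v w e => h.inj (congrArg Subtype.val e),
        fun x => (h.surj x x.2).imp fun v hv => Subtype.ext hv⟩
  rw [← this, Nat.card_fun, Nat.card_fin, Nat.card_eq_fintype_card, h.cardF, pow_two]

/-- The action of an element on the coordinates. -/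
def Acts (_ : Coord M A n Ψ lft) (m : G) (g : SL(2, F)) : Prop :=
  ∀ v : Fin 2 → F, m * Ψ v * m⁻¹ = Ψ ((g : Matrix (Fin 2) (Fin 2) F).mulVec v)

theorem acts_lft (g : SL(2, F)) : h.Acts (lft g) g := h.act g

theorem acts_one : h.Acts 1 1 := fun v => by simp

theorem acts_mul {m m' : G} {g g' : SL(2, F)} (a : h.Acts m g) (b : h.Acts m' g') :
    h.Acts (m * m') (g * g') := fun v => by
  rw [show m * m' * Ψ v * (m * m')⁻¹ = m * (m' * Ψ v * m'⁻¹) * m⁻¹ by group, b v, a,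
    Matrix.SpecialLinearGroup.coe_mul, Matrix.mulVec_mulVec]

theorem acts_inv {m : G} {g : SL(2, F)} (a : h.Acts m g) : h.Acts m⁻¹ g⁻¹ := fun v => by
  have := a ((g⁻¹ : SL(2, F)).1.mulVec v)
  rw [Matrix.mulVec_mulVec, ← Matrix.SpecialLinearGroup.coe_mul, mul_inv_cancel,
    Matrix.SpecialLinearGroup.coe_one, Matrix.one_mulVec] at this
  rw [← this]
  group

theorem acts_pow {m : G} {g : SL(2, F)} (a : h.Acts m g) : ∀ k : ℕ, h.Acts (m ^ k) (g ^ k)
  | 0 => by rw [pow_zero, pow_zero]; exact h.acts_one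
  | k + 1 => by rw [pow_succ, pow_succ]; exact h.acts_mul (acts_pow a k) a

theorem acts_unique {m : G} {g g' : SL(2, F)} (a : h.Acts m g) (b : h.Acts m g') : g = g' := by
  refine Subtype.ext (Matrix.mulVec_injective (funext fun v => h.inj ?_))
  rw [← a, ← b]

theorem acts_core {d : G} (hd : d ∈ core2 M) : h.Acts d 1 := fun v => by
  rw [h.comm_core hd, Matrix.SpecialLinearGroup.coe_one, Matrix.one_mulVec]

theorem mem_core_of_acts_one {m : G} (hm : m ∈ M) (a : h.Acts m 1) : m ∈ core2 M :=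
  h.faithful m hm fun v => by rw [a v, Matrix.SpecialLinearGroup.coe_one, Matrix.one_mulVec]

theorem acts_up {a : G} {x : F}
    (ha : ∀ v, a * Ψ v * a⁻¹ = Ψ ((H37.upper2 x : Matrix (Fin 2) (Fin 2) F).mulVec v)) :
    h.Acts a (H37.upper2 x) := ha

variable (hG : IsCIT G)
include hG

/-- Elements acting with order three have order three. -/
theorem orderOf_three {m : G} (hm : m ∈ M) {g : SL(2, F)} (a : h.Acts m g) (h3 : g ^ 3 = 1)
    (h1 : g ≠ 1) : orderOf m = 3 := by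
  haveI := h.charTwo
  have hd : m ^ 3 ∈ core2 M := h.mem_core_of_acts_one (pow_mem hm 3) (h3 ▸ h.acts_pow a 3)
  obtain ⟨k, hk⟩ := orderOf_eq_two_pow (isPGroup_core2 M) hd
  have hdvd : orderOf m ∣ 3 * 2 ^ k :=
    orderOf_dvd_of_pow_eq_one (by rw [pow_mul, ← hk, pow_orderOf_eq_one])
  have hg3 : orderOf g = 3 := orderOf_eq_prime h3 h1
  have h3m : 3 ∣ orderOf m := by
    rw [← hg3]
    refine orderOf_dvd_of_pow_eq_one (h.acts_unique (h.acts_pow a _) ?_)
    rw [pow_orderOf_eq_one]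
    exact h.acts_one
  have hcop : Nat.Coprime (orderOf m) (2 ^ k) :=
    Nat.Coprime.pow_right _ (Nat.coprime_two_right.2 (Nat.not_even_iff_odd.1 fun he =>
      hG.no_two_mult Nat.prime_three (by norm_num) (g := m)
        (Nat.Coprime.mul_dvd_of_dvd_of_dvd (by norm_num) h3m (even_iff_two_dvd.1 he))))
  exact Nat.dvd_antisymm (hcop.dvd_of_dvd_mul_right hdvd) h3m

variable {R : Subgroup G} (hR : IsSyl R M) (hA : MaxE R A)
include hR hA

theorem mem_R (v : Fin 2 → F) : Ψ v ∈ R := hR.core2_le (h.mem_core v)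

theorem mem_A_M {a : G} (ha : a ∈ A) : a ∈ M := hR.1 (hA.1 ha)

theorem fix_mem_A (s : F) : Ψ ![s, 0] ∈ A := by
  set z := Ψ ![s, 0]
  have hc : ∀ a ∈ A, a * z = z * a := by
    intro a ha
    obtain ⟨x, hx⟩ := h.upA a ha
    have := hx ![s, 0]
    rw [up_vec] at this
    simp only [Matrix.cons_val_zero, Matrix.cons_val_one, mul_zero, add_zero] at this
    exact mul_inv_eq_iff_eq_mul.1 this
  set B := closure ((A : Set G) ∪ {z})
  have hB : Elem B := by
    refine elem_closure ?_ ?_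
    · rintro x (hx | rfl)
      exacts [hA.2.1 x hx, h.sq _]
    · rintro x (hx | rfl) y (hy | rfl)
      exacts [hA.2.1.comm hx hy, hc x hx, (hc y hy).symm, rfl]
  have hle : A ≤ B := fun a ha => subset_closure (Or.inl ha)
  have hBR : B ≤ R := (closure_le _).2 (by
    rintro x (hx | rfl)
    exacts [hA.1 hx, h.mem_R hG hR hA _])
  rw [eq_of_le_of_card_ge hle (hA.2.2 B hBR hB)]
  exact subset_closure (Or.inr rfl)

theorem omega_inf_A {v : Fin 2 → F} (hv : Ψ v ∈ A) : v 1 = 0 := by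
  obtain ⟨a, ha, hax⟩ := h.upSurj 1
  have h1 : a * Ψ v * a⁻¹ = Ψ v := mul_inv_eq_iff_eq_mul.2 (hA.2.1.comm ha hv)
  rw [hax, up_vec] at h1
  simpa using congrFun (h.inj h1) 0

/-- `|A| = q²` and `A` meets the core in the fixed points. -/
theorem card_A : Nat.card A = 2 ^ n * 2 ^ n ∧ Nat.card (A ⊓ core2 M : Subgroup G) = 2 ^ n ∧
    ∀ x ∈ A, x ∈ core2 M → ∃ s, x = Ψ ![s, 0] := by
  classical
  haveI := h.charTwo
  set A₀ := A ⊓ core2 M with hA₀
  choose ξ hξ using h.upA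
  let f : A →* Multiplicative F := MonoidHom.mk' (fun a => Multiplicative.ofAdd (ξ a a.2)) (fun a b => by
    show Multiplicative.ofAdd _ = Multiplicative.ofAdd _
    congr 1
    have := h.acts_unique (h.acts_mul (h.acts_up (hξ a a.2)) (h.acts_up (hξ b b.2)))
      (h.acts_up (hξ _ (a * b).2))
    rw [H78.Nat2.up_mul] at this
    simpa [H37.coe_upper2] using (congrArg (fun g : SL(2, F) => g 0 1) this).symm)
  have hf : Function.Surjective f := by
    intro x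
    obtain ⟨a, ha, hax⟩ := h.upSurj x.toAdd
    refine ⟨⟨a, ha⟩, ?_⟩
    have := h.acts_unique (h.acts_up (hξ a ha)) (h.acts_up hax)
    show Multiplicative.ofAdd (ξ a ha) = x
    rw [show ξ a ha = x.toAdd by simpa [H37.coe_upper2] using congrArg (fun g : SL(2, F) => g 0 1) this]
    rfl
  have hker : f.ker = A₀.subgroupOf A := by
    ext a
    rw [MonoidHom.mem_ker, mem_subgroupOf]
    constructor
    · intro e
      refine ⟨a.2, h.mem_core_of_acts_one (h.mem_A_M hG hR hA a.2) ?_⟩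
      have e' : ξ a a.2 = 0 := Multiplicative.ofAdd.injective e
      have h2 := h.acts_up (hξ a a.2)
      rwa [e', H78.Nat2.up_zero] at h2
    · intro ha
      have := h.acts_unique (h.acts_up (hξ a a.2)) (h.acts_core ha.2)
      show Multiplicative.ofAdd (ξ a a.2) = 1
      rw [show ξ a a.2 = 0 by simpa [H37.coe_upper2] using congrArg (fun g : SL(2, F) => g 0 1) this]
      rfl
  have hcard : Nat.card A = Nat.card A₀ * 2 ^ n := by
    have h1 := f.ker.card_mul_index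
    rw [Subgroup.index_ker, MonoidHom.range_eq_top.2 hf, Subgroup.card_top, hker,
      Nat.card_congr (subgroupOfEquivOfLe inf_le_left).toEquiv,
      Nat.card_congr (Multiplicative.toAdd (α := F)), Nat.card_eq_fintype_card (α := F), h.cardF] at h1
    exact h1.symm
  -- an element of order three inverted in `A`
  obtain ⟨a, haA, hax⟩ := h.upSurj 1
  obtain ⟨a', ha', hax'⟩ := h.upSurj 1
  set c := lft H78.Nat2.ww * a' * (lft H78.Nat2.ww)⁻¹ with hc
  have hcact : h.Acts c (H37.lower2 1) := by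
    have := h.acts_mul (h.acts_mul (h.acts_lft H78.Nat2.ww) (h.acts_up hax')) (h.acts_inv (h.acts_lft H78.Nat2.ww))
    rwa [H78.Nat2.ww_up, mul_inv_cancel_right, CharTwo.neg_eq] at this
  have hcc : c * c = 1 := by
    rw [hc, show lft H78.Nat2.ww * a' * (lft H78.Nat2.ww)⁻¹ * (lft H78.Nat2.ww * a' * (lft H78.Nat2.ww)⁻¹) =
      lft H78.Nat2.ww * (a' * a') * (lft H78.Nat2.ww)⁻¹ by group, hA.2.1 a' ha']
    group
  have haa := hA.2.1 a haA
  set w := a * c with hw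
  have hwM : w ∈ M := mul_mem (h.mem_A_M hG hR hA haA)
    (mul_mem (mul_mem (h.lft_mem _) (h.mem_A_M hG hR hA ha')) (inv_mem (h.lft_mem _)))
  have htr : Matrix.trace ((H37.upper2 (1 : F) * H37.lower2 1 : SL(2, F)) : Matrix (Fin 2) (Fin 2) F) = 1 := by
    simp [Matrix.trace_fin_two, CharTwo.add_self_eq_zero]
  have hw3 : orderOf w = 3 := h.orderOf_three hG hwM (h.acts_mul (h.acts_up hax) hcact)
    (Semi.pow_three_eq_one htr) (fun e => by
      rw [e, Matrix.SpecialLinearGroup.coe_one, Matrix.trace_one, Fintype.card_fin, Nat.cast_ofNat,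
        CharTwo.two_eq_zero] at htr
      exact zero_ne_one htr)
  have hwa : a * w * a⁻¹ = w⁻¹ := by
    rw [hw, _root_.mul_inv_rev, inv_eq_of_mul_eq_one_right haa, inv_eq_of_mul_eq_one_right hcc,
      ← mul_assoc, haa, one_mul]
  have hwo : Odd (orderOf w) := hw3 ▸ by decide
  have hw1 : w ≠ 1 := fun e => by rw [e, orderOf_one] at hw3; norm_num at hw3
  have hD2 := isPGroup_core2 M
  have hwD : w ∈ normalizer (core2 M : Set G) := le_normalizer_core2 M hwM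
  have hwc : ∀ b ∈ A₀, ∀ d ∈ A₀, b * (w * d * w⁻¹) = w * d * w⁻¹ * b := fun b hb d hd =>
    hG.commute_conj hD2 hw3 hwD hb.2 hd.2 (hA.2.1 b hb.1) (hA.2.1 d hd.1) (hA.2.1.comm hb.1 hd.1)
  set C := closure ((A₀ : Set G) ∪ (fun x => w * x * w⁻¹) '' (A₀ : Set G)) with hC
  have hCe : Elem C := by
    refine elem_closure ?_ ?_
    · rintro x (hx | ⟨y, hy, rfl⟩)
      · exact hA.2.1 x hx.1
      · show w * y * w⁻¹ * (w * y * w⁻¹) = 1
        rw [show w * y * w⁻¹ * (w * y * w⁻¹) = w * (y * y) * w⁻¹ by group, hA.2.1 y hy.1]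
        group
    · rintro x (hx | ⟨b, hb, rfl⟩) y (hy | ⟨d, hd, rfl⟩)
      · exact hA.2.1.comm hx.1 hy.1
      · exact hwc x hx d hd
      · exact (hwc y hy b hb).symm
      · show w * b * w⁻¹ * (w * d * w⁻¹) = w * d * w⁻¹ * (w * b * w⁻¹)
        rw [show w * b * w⁻¹ * (w * d * w⁻¹) = w * (b * d) * w⁻¹ by group, hA.2.1.comm hb.1 hd.1]
        group
  have hCD : C ≤ core2 M := (closure_le _).2 (by
    rintro x (hx | ⟨y, hy, rfl⟩)
    exacts [hx.2, (mem_normalizer_iff.1 hwD y).1 hy.2])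
  have h1 : Nat.card A₀ * Nat.card A₀ ≤ Nat.card C :=
    hG.card_fix_sq hCe.isPGroup hwa hwo hw1
      (le_inf (fun x hx => subset_closure (Or.inl hx))
        fun x hx => mem_cent.2 (hA.2.1.comm haA hx.1).symm)
      fun q hq => subset_closure (Or.inr ⟨q, hq, rfl⟩)
  have h2 := hA.2.2 C (hCD.trans hR.core2_le) hCe
  have h3 : Nat.card A₀ ≤ 2 ^ n := by
    rw [hcard] at h2
    exact Nat.le_of_mul_le_mul_left (h1.trans h2) Nat.card_pos
  let ι : F → A₀ := fun s => ⟨Ψ ![s, 0], h.fix_mem_A hG hR hA s, h.mem_core _⟩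
  have hι : Function.Injective ι := fun s t e => by
    simpa using congrFun (h.inj (congrArg Subtype.val e)) 0
  have hbij := (Nat.bijective_iff_injective_and_card ι).2 ⟨hι, le_antisymm
    (Nat.card_le_card_of_injective ι hι) (by rw [Nat.card_eq_fintype_card (α := F), h.cardF]; exact h3)⟩
  have hA₀c : Nat.card A₀ = 2 ^ n := by
    rw [← Nat.card_eq_of_bijective ι hbij, Nat.card_eq_fintype_card, h.cardF]
  exact ⟨by rw [hcard, hA₀c], hA₀c, fun x hx hxD =>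
    (hbij.2 ⟨x, hx, hxD⟩).imp fun s hs => (congrArg Subtype.val hs).symm⟩

theorem invol_mem_omega {z : G} (hz : z ∈ core2 M) (hz2 : z * z = 1) : z ∈ omegaZ (core2 M) := by
  set V := omegaZ (core2 M)
  set B := closure ((V : Set G) ∪ {z})
  have hB : Elem B := by
    refine elem_closure ?_ ?_
    · rintro x (hx | rfl)
      exacts [hx.2.1, hz2]
    · rintro x (hx | rfl) y (hy | rfl)
      exacts [hx.2.2 y hy.1, hx.2.2 _ hz, (hy.2.2 _ hz).symm, rfl]
  have hle : V ≤ B := fun x hx => subset_closure (Or.inl hx)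
  have hBD : B ≤ core2 M := (closure_le _).2 (by
    rintro x (hx | rfl)
    exacts [hx.1, hz])
  have hBR : B ≤ R := hBD.trans hR.core2_le
  have := (hA.2.2 B hBR hB).trans ((h.card_A hG hR hA).1.le.trans h.card_omega.ge)
  rw [eq_of_le_of_card_ge hle this]
  exact subset_closure (Or.inr rfl)

/-- The core is abelian. -/
theorem core_comm {x y : G} (hx : x ∈ core2 M) (hy : y ∈ core2 M) : x * y = y * x := by
  classical
  haveI := h.charTwo
  set D := core2 M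
  have hD2 : IsPGroup 2 D := isPGroup_core2 M
  have hconj : ∀ m ∈ M, ∀ d ∈ D, m * d * m⁻¹ ∈ D := fun m hm d hd =>
    (mem_normalizer_iff.1 (le_normalizer_core2 M hm) d).1 hd
  have key : ∀ m ∈ M, orderOf m = 3 →
      (∀ a ∈ D, ∀ b ∈ D, ∀ c ∈ D, c * (a * b * a⁻¹ * b⁻¹) = a * b * a⁻¹ * b⁻¹ * c) ∧
      ∀ a ∈ D, ∀ b ∈ D,
        a * (m * b * m⁻¹) * a⁻¹ * (m * b * m⁻¹)⁻¹ = m⁻¹ * (a * b * a⁻¹ * b⁻¹) * m ∧
        m * a * m⁻¹ * b * (m * a * m⁻¹)⁻¹ * b⁻¹ = m⁻¹ * (a * b * a⁻¹ * b⁻¹) * m := by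
    intro m hm hm3
    have hm' : m * m * m = 1 := by
      have := pow_orderOf_eq_one m
      rwa [hm3, pow_succ, pow_two] at this
    let β : MulAut D :=
      { toFun := fun d => ⟨m * d * m⁻¹, hconj m hm d d.2⟩
        invFun := fun d => ⟨m⁻¹ * d * m, by simpa using hconj m⁻¹ (inv_mem hm) d d.2⟩
        left_inv := fun d => Subtype.ext (by simp [mul_assoc])
        right_inv := fun d => Subtype.ext (by simp [mul_assoc])
        map_mul' := fun d e => Subtype.ext (by simp [mul_assoc]) }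
    have hβ3 : ∀ d, β (β (β d)) = d := fun d => Subtype.ext (by
      show m * (m * (m * (d : G) * m⁻¹) * m⁻¹) * m⁻¹ = d
      calc m * (m * (m * (d : G) * m⁻¹) * m⁻¹) * m⁻¹ = (m * m * m) * d * (m * m * m)⁻¹ := by group
        _ = d := by rw [hm']; group)
    have hfp : ∀ d, β d = d → d = 1 := fun d hd => Subtype.ext
      (hG.fpf' hD2 (hm3 ▸ by decide) (fun e => by rw [e, orderOf_one] at hm3; norm_num at hm3) d.2
        (mul_inv_eq_iff_eq_mul.1 (congrArg Subtype.val hd)))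
    have hβ : H69.Fpf.IsFpf β := ⟨hβ3, hfp⟩
    have htor : ∀ d : D, d ^ 3 = 1 → d = 1 := fun d hd => Subtype.ext
      (eq_one_of_odd_mem hD2 d.2 ((show Odd 3 by decide).of_dvd_nat
        (orderOf_dvd_of_pow_eq_one (congrArg Subtype.val hd))))
    have hcen : ∀ a b : D, ⁅a, b⁆ ∈ center D :=
      H31.FpfThree.commutator_mem_center_of_fpf β (MulEquiv.ext fun d => by
        simpa [pow_succ] using hβ3 d) hfp htor
    have hcl : ∀ a b : D, ∀ c : D, c * ⁅a, b⁆ = ⁅a, b⁆ * c := fun a b => mem_center_iff.1 (hcen a b)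
    have hmulr : ∀ a b b' : D, ⁅a, b * b'⁆ = ⁅a, b⁆ * ⁅a, b'⁆ := fun a b b' => by
      rw [show ⁅a, b * b'⁆ = ⁅a, b⁆ * (b * ⁅a, b'⁆ * b⁻¹) by simp only [commutatorElement_def]; group,
        hcl a b' b, mul_inv_cancel_right]
    have hmull : ∀ a a' b : D, ⁅a * a', b⁆ = ⁅a, b⁆ * ⁅a', b⁆ := fun a a' b => by
      rw [show ⁅a * a', b⁆ = (a * ⁅a', b⁆ * a⁻¹) * ⁅a, b⁆ by simp only [commutatorElement_def]; group,
        hcl a' b a, mul_inv_cancel_right, hcl a' b]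
    have hone : ∀ a : D, ⁅a, β a⁆ = 1 := fun a =>
      commutatorElement_eq_one_iff_mul_comm.2 (H69.Fpf.commute_rho hβ a)
    have hsym : ∀ a b : D, ⁅β a, b⁆ = ⁅a, β b⁆ := by
      intro a b
      have := hone (a * b)
      rw [map_mul, hmull, hmulr, hmulr, hone, hone, one_mul, mul_one] at this
      rw [← commutatorElement_inv b (β a)]
      exact (eq_inv_of_mul_eq_one_left this).symm
    have hinvr : ∀ a b : D, ⁅a, b⁻¹⁆ = ⁅a, b⁆⁻¹ := fun a b => by
      refine eq_inv_of_mul_eq_one_right ?_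
      rw [← hmulr, mul_inv_cancel, commutatorElement_one_right]
    have hval : ∀ a b : D, ⁅a, β b⁆ = β (β ⁅a, b⁆) := by
      intro a b
      have h1 : β ⁅a, b⁆ = ⁅a, b⁆⁻¹ * ⁅a, β b⁆⁻¹ := by
        rw [map_commutatorElement, hsym, H69.Fpf.rho_sq hβ, hinvr, hmulr, ← hcl a b ⁅a, β b⁆,
          _root_.mul_inv_rev]
      rw [H69.Fpf.rho_sq hβ, h1]
      group
    refine ⟨fun a ha b hb c hc => congrArg Subtype.val (hcl ⟨a, ha⟩ ⟨b, hb⟩ ⟨c, hc⟩), fun a ha b hb => ?_⟩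
    have hmm : m⁻¹ = m * m := inv_eq_of_mul_eq_one_left hm'
    have e2 : (((β (β ⁅(⟨a, ha⟩ : D), ⟨b, hb⟩⁆)) : D) : G) = m⁻¹ * (a * b * a⁻¹ * b⁻¹) * m := by
      show m * (m * (a * b * a⁻¹ * b⁻¹) * m⁻¹) * m⁻¹ = _
      rw [show m * (m * (a * b * a⁻¹ * b⁻¹) * m⁻¹) * m⁻¹ = (m * m) * (a * b * a⁻¹ * b⁻¹) * (m * m)⁻¹ by group,
        ← hmm, inv_inv]
    constructor
    · rw [← e2, ← hval]; rfl
    · rw [← e2, ← hval, ← hsym]; rfl
  obtain ⟨w₁, w₂, hw₁, hw₂, h31, h32, hcomm⟩ :=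
    Semi.exists_commutator (F := F) (by rw [h.cardF]; exact h.four_le)
  set m₁ := lft w₁⁻¹
  set m₂ := lft w₂⁻¹
  have hm₁ := h.orderOf_three hG (h.lft_mem _) (h.acts_lft w₁⁻¹) (by rw [inv_pow, h31, inv_one])
    (fun e => hw₁ (inv_eq_one.1 e))
  have hm₂ := h.orderOf_three hG (h.lft_mem _) (h.acts_lft w₂⁻¹) (by rw [inv_pow, h32, inv_one])
    (fun e => hw₂ (inv_eq_one.1 e))
  have k1 := (key m₁ (h.lft_mem _) hm₁).2
  have k2 := (key m₂ (h.lft_mem _) hm₂).2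
  set c := x * y * x⁻¹ * y⁻¹ with hc
  have hcD : c ∈ D := mul_mem (mul_mem (mul_mem hx hy) (inv_mem hx)) (inv_mem hy)
  set x₁ := m₁ * x * m₁⁻¹
  set y₂ := m₂ * y * m₂⁻¹
  have hx₁ : x₁ ∈ D := hconj _ (h.lft_mem _) x hx
  have hy₂ : y₂ ∈ D := hconj _ (h.lft_mem _) y hy
  have e1 : x₁ * y₂ * x₁⁻¹ * y₂⁻¹ = m₁⁻¹ * (m₂⁻¹ * c * m₂) * m₁ := by
    rw [(k1 x hx y₂ hy₂).2, (k2 x hx y hy).1]
  have e2 : x₁ * y₂ * x₁⁻¹ * y₂⁻¹ = m₂⁻¹ * (m₁⁻¹ * c * m₁) * m₂ := by
    rw [(k2 x₁ hx₁ y hy).1, (k1 x hx y hy).2]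
  have hμ' : m₂ * m₁ * m₂⁻¹ * m₁⁻¹ * c = c * (m₂ * m₁ * m₂⁻¹ * m₁⁻¹) := by
    have e3 := e1.symm.trans e2
    calc m₂ * m₁ * m₂⁻¹ * m₁⁻¹ * c
        = m₂ * m₁ * (m₂⁻¹ * (m₁⁻¹ * c * m₁) * m₂) * m₂⁻¹ * m₁⁻¹ := by group
      _ = m₂ * m₁ * (m₁⁻¹ * (m₂⁻¹ * c * m₂) * m₁) * m₂⁻¹ * m₁⁻¹ := by rw [← e3]
      _ = c * (m₂ * m₁ * m₂⁻¹ * m₁⁻¹) := by group
  set ν := m₂ * m₁ * m₂⁻¹ * m₁⁻¹ with hν
  have hνact : h.Acts ν (w₂⁻¹ * w₁⁻¹ * w₂ * w₁) := by
    have := h.acts_mul (h.acts_mul (h.acts_mul (h.acts_lft w₂⁻¹) (h.acts_lft w₁⁻¹))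
      (h.acts_inv (h.acts_lft w₂⁻¹))) (h.acts_inv (h.acts_lft w₁⁻¹))
    rwa [inv_inv, inv_inv] at this
  have hνk : ∀ k : ℕ, ν ^ 2 ^ k ≠ 1 := by
    intro k e
    have h4 := h.acts_pow hνact (2 ^ k)
    rw [e] at h4
    have h5 := h.acts_unique h4 h.acts_one
    refine hcomm k ?_
    have h6 : (w₁ * w₂ * w₁⁻¹ * w₂⁻¹) ^ 2 ^ k =
        ((w₁ * w₂) * (w₂⁻¹ * w₁⁻¹ * w₂ * w₁) * (w₁ * w₂)⁻¹)⁻¹ ^ 2 ^ k := by
      congr 1
      group
    rw [h6, inv_pow, conj_pow, h5, mul_one, mul_inv_cancel, inv_one]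
  obtain ⟨k, j, hj, hord⟩ := Nat.exists_eq_two_pow_mul_odd (orderOf_pos ν).ne'
  have hc1 : c = 1 := hG.fpf' hD2 (w := ν ^ 2 ^ k) (by
      rw [orderOf_pow' _ (by positivity), hord, Nat.gcd_mul_right_left,
        Nat.mul_div_cancel_left _ (by positivity)]
      exact hj) (hνk k) hcD ((show Commute ν c from hμ').pow_left _).eq
  rw [hc] at hc1
  exact mul_inv_eq_one.1 (by rw [← hc1]; group)

theorem vec_eq (v : Fin 2 → F) : v = ![v 0, v 1] := by
  funext i
  fin_cases i <;> rfl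

set_option maxHeartbeats 400000 in
/-- The core is elementary abelian. -/
theorem core_eq_omega : core2 M ≤ omegaZ (core2 M) := by
  classical
  haveI := h.charTwo
  set D := core2 M with hD
  have hD2 : IsPGroup 2 D := isPGroup_core2 M
  have hconj : ∀ m ∈ M, ∀ d ∈ D, m * d * m⁻¹ ∈ D := fun m hm d hd =>
    (mem_normalizer_iff.1 (le_normalizer_core2 M hm) d).1 hd
  have hcm : ∀ {x y : G}, x ∈ D → y ∈ D → x * y = y * x := fun hx hy => h.core_comm hG hR hA hx hy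
  suffices hs : ∀ d ∈ D, d * d * (d * d) = 1 → d * d = 1 by
    intro z hz
    obtain ⟨k, hk⟩ := orderOf_eq_two_pow hD2 hz
    refine h.invol_mem_omega hG hR hA hz ?_
    by_contra hz2
    have hex : ∃ i, z ^ 2 ^ i = 1 := ⟨k, by rw [← hk, pow_orderOf_eq_one]⟩
    have h2 : 2 ≤ Nat.find hex := by
      rcases Nat.lt_or_ge (Nat.find hex) 2 with hlt | hge
      · exfalso
        apply hz2
        have h4 := Nat.find_spec hex
        interval_cases Nat.find hex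
        · rw [show z = 1 by simpa using h4, mul_one]
        · rwa [pow_one, pow_two] at h4
      · exact hge
    obtain ⟨i, hi⟩ := Nat.exists_eq_add_of_le h2
    have h4 := Nat.find_spec hex
    rw [hi] at h4
    refine Nat.find_min hex (m := i + 1) (by omega) ?_
    have := hs (z ^ 2 ^ i) (pow_mem hz _) (by
      rw [← pow_add, ← pow_add, ← two_mul, ← two_mul, ← pow_succ', ← pow_succ', ← h4]
      congr 2
      omega)
    rwa [← pow_add, ← two_mul, ← pow_succ'] at this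
  intro d₀ hd₀ hd₀4
  by_contra hne
  -- elements of exponent four with square having any second coordinate
  let S : AddSubgroup (Fin 2 → F) :=
    { carrier := {v | ∃ d ∈ D, d * d = Ψ v}
      zero_mem' := ⟨1, one_mem _, by rw [mul_one, h.map_zero]⟩
      add_mem' := by
        rintro v w ⟨d, hd, e⟩ ⟨d', hd', e'⟩
        refine ⟨d * d', mul_mem hd hd', ?_⟩
        rw [h.map_add, ← e, ← e']
        calc d * d' * (d * d') = d * (d' * d) * d' := by group
          _ = d * (d * d') * d' := by rw [hcm hd' hd]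
          _ = _ := by group
      neg_mem' := by
        rintro v ⟨d, hd, e⟩
        exact ⟨d, hd, by rw [show -v = v from funext fun i => CharTwo.neg_eq (v i)]; exact e⟩ }
  have hSg : ∀ (g : SL(2, F)), ∀ v ∈ S, (g : Matrix (Fin 2) (Fin 2) F).mulVec v ∈ S := by
    rintro g v ⟨d, hd, e⟩
    refine ⟨lft g * d * (lft g)⁻¹, hconj _ (h.lft_mem g) d hd, ?_⟩
    rw [← h.act, ← e]
    group
  have hcoord : ∀ y : F, ∃ d ∈ D, ∃ v, d * d = Ψ v ∧ v 1 = y := by
    obtain ⟨v₀, hv₀⟩ := h.surj (d₀ * d₀) (h.invol_mem_omega hG hR hA (mul_mem hd₀ hd₀) hd₀4)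
    have hv₀S : v₀ ∈ S := ⟨d₀, hd₀, hv₀.symm⟩
    obtain ⟨w, hwS, hw1⟩ : ∃ w ∈ S, w 1 ≠ 0 := by
      by_cases h1 : v₀ 1 = 0
      · refine ⟨_, hSg H78.Nat2.ww v₀ hv₀S, ?_⟩
        rw [ww_vec]
        simp only [Matrix.cons_val_one, Matrix.cons_val_fin_one, neg_ne_zero]
        intro h0
        apply hne
        rw [← hv₀, show v₀ = 0 by funext i; fin_cases i <;> simp [h0, h1], h.map_zero]
      · exact ⟨v₀, hv₀S, h1⟩
    intro y
    have hU : ∀ s : F, ![s, 0] ∈ S := by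
      intro s
      have := S.sub_mem (hSg (H37.upper2 (s / w 1)) w hwS) hwS
      convert this using 1
      rw [up_vec]
      funext i
      fin_cases i <;> simp [div_mul_cancel₀ _ hw1]
    obtain ⟨d, hd, e⟩ := hSg H78.Nat2.ww _ (hU y)
    refine ⟨d, hd, _, e, ?_⟩
    rw [ww_vec]
    simp [CharTwo.neg_eq]
  -- displacement by the elements of `A`
  have hE : ∀ a ∈ A, ∀ d ∈ D, a * d * a⁻¹ * d⁻¹ ∈ D := fun a ha d hd =>
    mul_mem (hconj a (h.mem_A_M hG hR hA ha) d hd) (inv_mem hd)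
  have hEmul : ∀ a ∈ A, ∀ d ∈ D, ∀ d' ∈ D,
      a * (d * d') * a⁻¹ * (d * d')⁻¹ = (a * d * a⁻¹ * d⁻¹) * (a * d' * a⁻¹ * d'⁻¹) := by
    intro a ha d hd d' hd'
    calc a * (d * d') * a⁻¹ * (d * d')⁻¹ = (a * d * a⁻¹) * ((a * d' * a⁻¹ * d'⁻¹) * d⁻¹) := by group
      _ = (a * d * a⁻¹) * (d⁻¹ * (a * d' * a⁻¹ * d'⁻¹)) := by rw [hcm (hE a ha d' hd') (inv_mem hd)]
      _ = _ := by group
  have hEV : ∀ (a : G) (x : F), h.Acts a (H37.upper2 x) → ∀ v,
      a * Ψ v * a⁻¹ * (Ψ v)⁻¹ = Ψ ![x * v 1, 0] := by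
    intro a x hax v
    rw [hax, h.inv_eq, ← h.map_add, up_vec]
    congr 1
    funext i
    fin_cases i <;> simp [CharTwo.add_self_eq_zero, add_comm (v 0), add_assoc]
  have hEsq : ∀ (a : G), a ∈ A → ∀ (x : F), h.Acts a (H37.upper2 x) → ∀ d ∈ D, ∀ v, d * d = Ψ v →
      (a * d * a⁻¹ * d⁻¹) * (a * d * a⁻¹ * d⁻¹) = Ψ ![x * v 1, 0] := by
    intro a ha x hax d hd v e
    rw [← hEmul a ha d hd d hd, e, hEV a x hax]
  have hEE : ∀ (a : G), a ∈ A → ∀ (x : F), h.Acts a (H37.upper2 x) → ∀ d ∈ D, ∀ v, d * d = Ψ v →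
      a * (a * d * a⁻¹ * d⁻¹) * a⁻¹ * (a * d * a⁻¹ * d⁻¹)⁻¹ = Ψ ![x * v 1, 0] := by
    intro a ha x hax d hd v e
    have h1 := hEsq a ha x hax d hd v e
    have h2 : a * (a * d * a⁻¹ * d⁻¹) * a⁻¹ * (a * d * a⁻¹ * d⁻¹)⁻¹ =
        ((a * d * a⁻¹ * d⁻¹) * (a * d * a⁻¹ * d⁻¹))⁻¹ := by
      have haa := hA.2.1 a ha
      have e1 : a * (a * d * a⁻¹ * d⁻¹) * a⁻¹ = (a * d * a⁻¹ * d⁻¹)⁻¹ := by
        rw [inv_eq_of_mul_eq_one_right haa]
        calc a * (a * d * a * d⁻¹) * a = (a * a) * d * a * d⁻¹ * a := by group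
          _ = d * a * d⁻¹ * a := by rw [haa, one_mul]
          _ = d * a⁻¹ * d⁻¹ * a⁻¹ := by rw [inv_eq_of_mul_eq_one_right haa]
          _ = (a * d * a * d⁻¹)⁻¹ := by group
      rw [e1]
      exact (_root_.mul_inv_rev _ _).symm
    rw [h2, h1, h.inv_eq]
  -- `P` is moved into the fixed points
  have hdelta : ∀ (a : G), a ∈ A → ∀ (x : F), h.Acts a (H37.upper2 x) → x ≠ 0 → ∀ p ∈ D, ∀ s,
      p * p = Ψ ![s, 0] → ∃ r, a * p * a⁻¹ * p⁻¹ = Ψ ![r, 0] := by
    intro a ha x hax hx p hp s hps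
    obtain ⟨d, hd, v, e, hv⟩ := hcoord (x⁻¹ * s)
    have h1 := hEsq a ha x hax d hd v e
    rw [hv, mul_inv_cancel_left₀ hx] at h1
    set r₀ := a * d * a⁻¹ * d⁻¹
    have hr₀ : r₀ ∈ D := hE a ha d hd
    have hq : p * r₀⁻¹ * (p * r₀⁻¹) = 1 := by
      calc p * r₀⁻¹ * (p * r₀⁻¹) = p * (r₀⁻¹ * p) * r₀⁻¹ := by group
        _ = p * (p * r₀⁻¹) * r₀⁻¹ := by rw [hcm (inv_mem hr₀) hp]
        _ = (p * p) * (r₀ * r₀)⁻¹ := by group
        _ = 1 := by rw [hps, h1, mul_inv_cancel]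
    obtain ⟨w, hw⟩ := h.surj _ (h.invol_mem_omega hG hR hA (mul_mem hp (inv_mem hr₀)) hq)
    refine ⟨x * w 1 + x * v 1, ?_⟩
    rw [show p = Ψ w * r₀ by rw [hw, inv_mul_cancel_right],
      hEmul a ha _ (h.mem_core w) _ hr₀, hEV a x hax, hEE a ha x hax d hd v e, ← h.map_add]
    congr 1
    funext i
    fin_cases i <;> simp
  obtain ⟨x, hx0, hx1⟩ : ∃ x : F, x ≠ 0 ∧ x ≠ 1 := by
    by_contra hall
    push Not at hall
    have : (Finset.univ : Finset F) ⊆ {0, 1} := fun b _ => by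
      by_cases hb : b = 0
      · simp [hb]
      · simp [hall b hb]
    have := (Finset.card_le_card this).trans Finset.card_le_two
    rw [Finset.card_univ, h.cardF] at this
    have := h.four_le
    omega
  obtain ⟨a, ha, hax'⟩ := h.upSurj 1
  obtain ⟨b, hb, hbx'⟩ := h.upSurj x
  have hax := h.acts_up hax'
  have hbx := h.acts_up hbx'
  have hPhi : ∀ d ∈ D, ∀ v, d * d = Ψ v → ∃ r,
      b * (a * d * a⁻¹ * d⁻¹) * b⁻¹ * (a * d * a⁻¹ * d⁻¹)⁻¹ = Ψ ![r, 0] := fun d hd v e =>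
    hdelta b hb x hbx hx0 _ (hE a ha d hd) _ (hEsq a ha 1 hax d hd v e)
  choose dy hdy vy hvy hvy1 using hcoord
  choose Λ hΛ using fun y => hPhi (dy y) (hdy y) (vy y) (hvy y)
  -- the value depends on the second coordinate only
  have hwd : ∀ d ∈ D, ∀ v, d * d = Ψ v →
      b * (a * d * a⁻¹ * d⁻¹) * b⁻¹ * (a * d * a⁻¹ * d⁻¹)⁻¹ = Ψ ![Λ (v 1), 0] := by
    intro d hd v e
    set d' := dy (v 1)
    have hd' : d' ∈ D := hdy _
    set q := d * d'⁻¹ with hq
    have hqD : q ∈ D := mul_mem hd (inv_mem hd')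
    have hqq : q * q = Ψ ![v 0 + vy (v 1) 0, 0] := by
      calc q * q = d * (d'⁻¹ * d) * d'⁻¹ := by rw [hq]; group
        _ = d * (d * d'⁻¹) * d'⁻¹ := by rw [hcm (inv_mem hd') hd]
        _ = (d * d) * (d' * d')⁻¹ := by group
        _ = _ := by
          rw [e, hvy, h.inv_eq, ← h.map_add]
          congr 1
          funext i
          fin_cases i <;> simp [hvy1, CharTwo.add_self_eq_zero]
    obtain ⟨r, hr⟩ := hdelta a ha 1 hax one_ne_zero q hqD _ hqq
    have h1 : a * d * a⁻¹ * d⁻¹ = Ψ ![r, 0] * (a * d' * a⁻¹ * d'⁻¹) := by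
      rw [← hr, ← hEmul a ha q hqD d' hd', hq, inv_mul_cancel_right]
    rw [h1, hEmul b hb _ (h.mem_core _) _ (hE a ha d' hd'), hΛ, hEV b x hbx, ← h.map_add]
    congr 1
    funext i
    fin_cases i <;> simp
  have hΛadd : ∀ y z, Λ (y + z) = Λ y + Λ z := by
    intro y z
    have e : dy y * dy z * (dy y * dy z) = Ψ (vy y + vy z) := by
      rw [h.map_add, ← hvy, ← hvy]
      calc dy y * dy z * (dy y * dy z) = dy y * (dy z * dy y) * dy z := by group
        _ = dy y * (dy y * dy z) * dy z := by rw [hcm (hdy z) (hdy y)]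
        _ = _ := by group
    have h1 := hwd _ (mul_mem (hdy y) (hdy z)) _ e
    rw [hEmul a ha _ (hdy y) _ (hdy z), hEmul b hb _ (hE a ha _ (hdy y)) _ (hE a ha _ (hdy z)),
      hΛ, hΛ, ← h.map_add, Pi.add_apply, hvy1, hvy1] at h1
    simpa using (congrFun (h.inj h1) 0).symm
  have hkey : ∀ y, x * y = Λ (x * y) + x * (Λ y + x * y) := by
    intro y
    set d := dy y
    set d' := dy (x * y)
    have hd : d ∈ D := hdy _
    have hd' : d' ∈ D := hdy _
    set p := b * d * b⁻¹ * d⁻¹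
    set p' := a * d' * a⁻¹ * d'⁻¹
    have hp : p ∈ D := hE b hb d hd
    have hp' : p' ∈ D := hE a ha d' hd'
    have hpp := hEsq b hb x hbx d hd _ (hvy y)
    have hpp' := hEsq a ha 1 hax d' hd' _ (hvy (x * y))
    rw [hvy1] at hpp hpp'
    rw [one_mul] at hpp'
    obtain ⟨w, hw⟩ := h.surj _ (h.invol_mem_omega hG hR hA (mul_mem hp (inv_mem hp')) (by
      calc p * p'⁻¹ * (p * p'⁻¹) = p * (p'⁻¹ * p) * p'⁻¹ := by group
        _ = p * (p * p'⁻¹) * p'⁻¹ := by rw [hcm (inv_mem hp') hp]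
        _ = (p * p) * (p' * p')⁻¹ := by group
        _ = 1 := by rw [hpp, hpp', mul_inv_cancel]))
    have hpw : p = Ψ w * p' := by rw [hw, inv_mul_cancel_right]
    have hswap : a * p * a⁻¹ * p⁻¹ = b * (a * d * a⁻¹ * d⁻¹) * b⁻¹ * (a * d * a⁻¹ * d⁻¹)⁻¹ := by
      have hab : a * b = b * a := hA.2.1.comm ha hb
      set α := a * d * a⁻¹ * d⁻¹ with hα
      have hαD : α ∈ D := hE a ha d hd
      have e1 : a * p * a⁻¹ * p⁻¹ = (a * b) * d * (a * b)⁻¹ * (a * d * a⁻¹)⁻¹ * (d * (b * d * b⁻¹)⁻¹) := by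
        simp only [p]; group
      have e2 : b * α * b⁻¹ * α⁻¹ = (b * a) * d * (b * a)⁻¹ * (b * d * b⁻¹)⁻¹ * (d * (a * d * a⁻¹)⁻¹) := by
        rw [hα]; group
      rw [e1, e2, hab]
      have hA' := hconj a (h.mem_A_M hG hR hA ha) d hd
      have hB' := hconj b (h.mem_A_M hG hR hA hb) d hd
      set u := (a * d * a⁻¹)⁻¹
      set t := (b * d * b⁻¹)⁻¹
      have huD : u ∈ D := inv_mem hA'
      have htD : t ∈ D := inv_mem hB'
      calc b * a * d * (b * a)⁻¹ * u * (d * t) = b * a * d * (b * a)⁻¹ * (u * (d * t)) := by group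
        _ = b * a * d * (b * a)⁻¹ * (t * (d * u)) := by
          rw [hcm huD (mul_mem hd htD), hcm hd htD, mul_assoc t d u]
        _ = _ := by group
    have h1 : a * p * a⁻¹ * p⁻¹ = Ψ ![w 1 + x * y, 0] := by
      rw [hpw, hEmul a ha _ (h.mem_core w) _ hp', hEV a 1 hax, hEE a ha 1 hax d' hd' _ (hvy _), hvy1,
        ← h.map_add]
      congr 1
      funext i
      fin_cases i <;> simp
    rw [hswap, hΛ y] at h1
    have h1' : Λ y = w 1 + x * y := by simpa using congrFun (h.inj h1) 0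
    have h2 := hEE b hb x hbx d hd _ (hvy y)
    rw [hvy1, show b * d * b⁻¹ * d⁻¹ = Ψ w * p' from hpw,
      hEmul b hb _ (h.mem_core w) _ hp', hEV b x hbx, hΛ, ← h.map_add] at h2
    have h2' : x * w 1 + Λ (x * y) = x * y := by simpa using congrFun (h.inj h2) 0
    have hw1 : w 1 = Λ y + x * y := by
      rw [h1', add_assoc, CharTwo.add_self_eq_zero, add_zero]
    rw [← hw1]
    linear_combination -h2'
  -- the trace
  letI : Algebra (ZMod 2) F := ZMod.algebra F 2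
  obtain ⟨c, hc⟩ : ∃ c : F, Algebra.trace (ZMod 2) F (c * (x + x * x)) ≠ 0 := by
    have hxx : x + x * x ≠ 0 := fun e0 => by
      rw [show x + x * x = x * (x + 1) by ring, mul_eq_zero] at e0
      rcases e0 with e0 | e0
      · exact hx0 e0
      · exact hx1 (by rw [eq_neg_of_add_eq_zero_left e0, CharTwo.neg_eq])
    obtain ⟨z, hz⟩ := Algebra.trace_surjective (ZMod 2) F 1
    exact ⟨z * (x + x * x)⁻¹, by rw [mul_assoc, inv_mul_cancel₀ hxx, mul_one, hz]; exact one_ne_zero⟩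
  apply hc
  let Λl : F →ₗ[ZMod 2] F := (AddMonoidHom.mk' Λ hΛadd).toZModLinearMap 2
  set Mx : F →ₗ[ZMod 2] F := LinearMap.mulLeft (ZMod 2) x
  set Mc : F →ₗ[ZMod 2] F := LinearMap.mulLeft (ZMod 2) c
  have hmaps : LinearMap.mulLeft (ZMod 2) (c * (x + x * x)) =
      Mc ∘ₗ Λl ∘ₗ Mx + Mc ∘ₗ Mx ∘ₗ Λl := by
    refine LinearMap.ext fun y => ?_
    show c * (x + x * x) * y = c * Λ (x * y) + c * (x * Λ y)
    linear_combination c * hkey y + c * x * x * y * (CharTwo.two_eq_zero (R := F))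
  have htr : Algebra.trace (ZMod 2) F (c * (x + x * x)) =
      LinearMap.trace (ZMod 2) F (LinearMap.mulLeft (ZMod 2) (c * (x + x * x))) := rfl
  have hcom : Mc ∘ₗ Mx = Mx ∘ₗ Mc := LinearMap.ext fun y => by
    show c * (x * y) = x * (c * y); ring
  rw [htr, hmaps, _root_.map_add, ← LinearMap.comp_assoc, LinearMap.trace_comp_comm',
    ← LinearMap.comp_assoc Λl Mx Mc, hcom, ← LinearMap.comp_assoc, CharTwo.add_self_eq_zero]

end Coord

end H11.CIT
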