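import Cfsg.Agent.H11.CIT.Basic
import Cfsg.Agent.H2.FrobeniusBasic

/-!
The 2-core of a subgroup, its Sylow 2-subgroups, and the subgroup generated by the elementary abelian
2-subgroups of largest order.
-/

set_option autoImplicit false
set_option linter.style.haveILetI false
set_option linter.unusedSectionVars false

namespace H11.CIT

open Subgroup

universe u

variable {G : Type u} [Group G]

/-- The 2-core of a subgroup, as a subgroup of the whole group. -/
def core2 (M : Subgroup G) : Subgroup G := (Cfsg.pCore 2 M).map M.subtype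

theorem core2_le (M : Subgroup G) : core2 M ≤ M := map_subtype_le _

theorem isPGroup_core2 (M : Subgroup G) : IsPGroup 2 (core2 M) := (H1.isPGroup_pCore 2 M).map _

theorem le_core2 {M Q : Subgroup G} (hQM : Q ≤ M) (hn : M ≤ normalizer (Q : Set G))
    (hQ : IsPGroup 2 Q) : Q ≤ core2 M := by
  haveI : (Q.subgroupOf M).Normal := normal_subgroupOf_of_le_normalizer hn
  have h := H1.le_pCore (hQ.of_equiv (subgroupOfEquivOfLe hQM).symm)
  intro x hx
  exact ⟨⟨x, hQM hx⟩, h (mem_subgroupOf.2 hx), rfl⟩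

theorem le_normalizer_core2 (M : Subgroup G) : M ≤ normalizer (core2 M : Set G) := by
  haveI := H1.pCore_characteristic 2 M
  haveI : (Cfsg.pCore 2 M).Normal := inferInstance
  intro g hg
  rw [mem_normalizer_iff]
  intro x
  constructor
  · rintro ⟨y, hy, rfl⟩
    exact ⟨⟨g, hg⟩ * y * ⟨g, hg⟩⁻¹, Subgroup.Normal.conj_mem inferInstance y hy _, rfl⟩
  · rintro ⟨y, hy, e⟩
    refine ⟨(⟨g, hg⟩ : M)⁻¹ * y * ⟨g, hg⟩, ?_, ?_⟩
    · simpa using Subgroup.Normal.conj_mem inferInstance y hy (⟨g, hg⟩ : M)⁻¹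
    · show g⁻¹ * (y : G) * g = x
      rw [show (y : G) = g * x * g⁻¹ from e]
      group

/-- A Sylow 2-subgroup of `M`. -/
def IsSyl (R M : Subgroup G) : Prop :=
  R ≤ M ∧ IsPGroup 2 R ∧ ∀ Q : Subgroup G, Q ≤ M → IsPGroup 2 Q → R ≤ Q → Q = R

variable [Finite G]

theorem exists_isSyl {M P : Subgroup G} (hPM : P ≤ M) (hP : IsPGroup 2 P) :
    ∃ R, P ≤ R ∧ IsSyl R M := by
  obtain ⟨R, hle, hR⟩ := Finite.exists_le_maximal
    (p := fun Q : Subgroup G => Q ≤ M ∧ IsPGroup 2 Q) ⟨hPM, hP⟩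
  exact ⟨R, hle, hR.1.1, hR.1.2, fun Q hQM hQ hRQ => le_antisymm (hR.2 ⟨hQM, hQ⟩ hRQ) hRQ⟩

/-- As a Sylow subgroup of `M`. -/
noncomputable def IsSyl.toSylow {R M : Subgroup G} (h : IsSyl R M) : Sylow 2 M where
  toSubgroup := R.subgroupOf M
  isPGroup' := h.2.1.of_equiv (subgroupOfEquivOfLe h.1).symm
  is_maximal' := fun {Q} hQ hle => by
    have h1 := h.2.2 (Q.map M.subtype) (map_subtype_le _) (hQ.map _) (fun x hx =>
      ⟨⟨x, h.1 hx⟩, hle (mem_subgroupOf.2 hx), rfl⟩)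
    rw [← h1, subgroupOf, comap_map_eq_self_of_injective M.subtype_injective]

theorem IsSyl.conj_of_isPGroup {R M Q : Subgroup G} (h : IsSyl R M) (hQM : Q ≤ M)
    (hQ : IsPGroup 2 Q) : ∃ g ∈ M, ∀ x ∈ Q, g * x * g⁻¹ ∈ R := by
  haveI : Fact (Nat.Prime 2) := ⟨Nat.prime_two⟩
  obtain ⟨P, hP⟩ := (hQ.of_equiv (subgroupOfEquivOfLe hQM).symm).exists_le_sylow
  obtain ⟨g, hg⟩ := MulAction.exists_smul_eq M P h.toSylow
  refine ⟨g, g.2, fun x hx => ?_⟩
  have h1 : g * ⟨x, hQM hx⟩ * g⁻¹ ∈ (h.toSylow : Subgroup M) := by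
    rw [← hg, Sylow.coe_subgroup_smul]
    exact H2.conj_smul_mem (hP (mem_subgroupOf.2 hx))
  exact mem_subgroupOf.1 h1

theorem IsSyl.card_le {R M Q : Subgroup G} (h : IsSyl R M) (hQM : Q ≤ M) (hQ : IsPGroup 2 Q) :
    Nat.card Q ≤ Nat.card R := by
  obtain ⟨g, -, hg⟩ := h.conj_of_isPGroup hQM hQ
  exact Nat.card_le_card_of_injective (fun x : Q => (⟨g * x * g⁻¹, hg x x.2⟩ : R))
    fun a b e => Subtype.ext (mul_left_cancel (mul_right_cancel (congrArg Subtype.val e)))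

theorem IsSyl.core2_le {R M : Subgroup G} (h : IsSyl R M) : core2 M ≤ R := by
  haveI := H1.pCore_characteristic 2 M
  rintro _ ⟨y, hy, rfl⟩
  exact mem_subgroupOf.1 (H1.pCore_le_sylow h.toSylow hy)

theorem isSyl_sylow (S : Sylow 2 G) {M : Subgroup G} (hSM : (S : Subgroup G) ≤ M) :
    IsSyl (S : Subgroup G) M :=
  ⟨hSM, S.isPGroup', fun _ _ hQ hle => S.is_maximal' hQ hle⟩

theorem card_le_sylow (S : Sylow 2 G) {Q : Subgroup G} (hQ : IsPGroup 2 Q) :
    Nat.card Q ≤ Nat.card (S : Subgroup G) :=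
  (isSyl_sylow S le_top).card_le le_top hQ

theorem eq_sylow_of_card (S : Sylow 2 G) {Q : Subgroup G} (hQ : IsPGroup 2 Q)
    (h : Nat.card (S : Subgroup G) ≤ Nat.card Q) :
    ∃ S' : Sylow 2 G, (S' : Subgroup G) = Q := by
  obtain ⟨S', hS'⟩ := hQ.exists_le_sylow
  refine ⟨S', (eq_of_le_of_card_ge hS' ?_).symm⟩
  exact (card_le_sylow S S'.isPGroup').trans h

/-- A proper 2-subgroup grows in its normaliser. -/
theorem exists_mem_normalizer {R S : Subgroup G} (hS : IsPGroup 2 S) (hRS : R ≤ S) (hne : R ≠ S) :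
    ∃ y ∈ S, y ∉ R ∧ y ∈ normalizer (R : Set G) :=
  haveI : Fact (Nat.Prime 2) := ⟨Nat.prime_two⟩
  H65.exists_normalizing_not_mem hS hRS hne

/-- Elementary abelian 2-subgroups. -/
def Elem (A : Subgroup G) : Prop := ∀ x ∈ A, x * x = 1

omit [Finite G] in
theorem Elem.comm {A : Subgroup G} (h : Elem A) {x y : G} (hx : x ∈ A) (hy : y ∈ A) :
    x * y = y * x :=
  calc x * y = (x * y)⁻¹ := eq_inv_of_mul_eq_one_left (h _ (mul_mem hx hy))
    _ = y * x := by
      rw [mul_inv_rev, inv_eq_of_mul_eq_one_right (h x hx), inv_eq_of_mul_eq_one_right (h y hy)]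

omit [Finite G] in
theorem Elem.isPGroup {A : Subgroup G} (h : Elem A) : IsPGroup 2 A := fun x =>
  ⟨1, Subtype.ext (by rw [pow_one, sq]; exact h x x.2)⟩

omit [Finite G] in
theorem elem_closure {s : Set G} (h1 : ∀ x ∈ s, x * x = 1)
    (h2 : ∀ x ∈ s, ∀ y ∈ s, x * y = y * x) : Elem (closure s) := by
  haveI : IsMulCommutative (closure s) := isMulCommutative_closure h2
  intro x hx
  induction hx using closure_induction with
  | mem b hb => exact h1 b hb
  | one => rw [mul_one]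
  | mul b c hb hc ihb ihc =>
    have : b * c = c * b := congrArg Subtype.val (mul_comm' (⟨b, hb⟩ : closure s) ⟨c, hc⟩)
    calc b * c * (b * c) = b * (c * b) * c := by group
      _ = (b * b) * (c * c) := by rw [← this]; group
      _ = 1 := by rw [ihb, ihc, one_mul]
  | inv b _ ih => rw [← mul_inv_rev, ih, inv_one]

omit [Finite G] in
theorem Elem.map {A : Subgroup G} (h : Elem A) (f : G →* G) : Elem (A.map f) := by
  rintro _ ⟨x, hx, rfl⟩
  rw [← map_mul, h x hx, map_one]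

/-- An elementary abelian subgroup of largest order in `T`. -/
def MaxE (T A : Subgroup G) : Prop :=
  A ≤ T ∧ Elem A ∧ ∀ B : Subgroup G, B ≤ T → Elem B → Nat.card B ≤ Nat.card A

theorem exists_maxE (T : Subgroup G) : ∃ A, MaxE T A := by
  obtain ⟨A, ⟨hA, hAe⟩, hmax⟩ := Set.exists_max_image {A : Subgroup G | A ≤ T ∧ Elem A}
    (fun A => Nat.card A) (Set.toFinite _)
    ⟨⊥, bot_le, fun x hx => by rw [mem_bot.1 hx, mul_one]⟩
  exact ⟨A, hA, hAe, fun B h1 h2 => hmax B ⟨h1, h2⟩⟩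

/-- The Thompson subgroup, elementary abelian version. -/
def jE (T : Subgroup G) : Subgroup G := ⨆ A ∈ {A | MaxE T A}, A

omit [Finite G] in
theorem jE_le (T : Subgroup G) : jE T ≤ T := iSup₂_le fun _ hA => hA.1

omit [Finite G] in
theorem le_jE {T A : Subgroup G} (h : MaxE T A) : A ≤ jE T :=
  le_iSup₂ (f := fun (A : Subgroup G) (_ : A ∈ {A | MaxE T A}) => A) A h

theorem jE_ne_bot {T : Subgroup G} (hT : IsPGroup 2 T) (hne : T ≠ ⊥) : jE T ≠ ⊥ := by
  obtain ⟨A, hA⟩ := exists_maxE T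
  obtain ⟨t, htT, ht⟩ := exists_invol hT hne
  intro e
  have hAb : A = ⊥ := le_bot_iff.1 (e ▸ le_jE hA)
  have h1 := hA.2.2 (zpowers t) (by rwa [zpowers_le]) (fun x hx => by
    obtain ⟨k, rfl⟩ := hx
    show t ^ k * t ^ k = 1
    rw [← (Commute.refl t).mul_zpow, sq_eq_one ht, one_zpow])
  rw [hAb, Subgroup.card_bot, Nat.card_zpowers, ht] at h1
  omega

theorem jE_eq {T D : Subgroup G} (hDT : D ≤ T) (h : jE T ≤ D) : jE T = jE D := by
  obtain ⟨A₀, hA₀⟩ := exists_maxE T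
  refine le_antisymm (iSup₂_le fun A hA => le_jE ⟨(le_jE hA).trans h, hA.2.1,
    fun B hB hBe => hA.2.2 B (hB.trans hDT) hBe⟩) (iSup₂_le fun A hA => le_jE
    ⟨hA.1.trans hDT, hA.2.1, fun B hB hBe =>
      (hA₀.2.2 B hB hBe).trans (hA.2.2 A₀ ((le_jE hA₀).trans h) hA₀.2.1)⟩)

theorem map_jE (φ : G ≃* G) (T : Subgroup G) :
    (jE T).map φ.toMonoidHom = jE (T.map φ.toMonoidHom) := by
  have key : ∀ (ψ : G ≃* G) (U A : Subgroup G), MaxE U A →
      MaxE (U.map ψ.toMonoidHom) (A.map ψ.toMonoidHom) := by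
    intro ψ U A hA
    refine ⟨map_mono hA.1, hA.2.1.map _, fun B hB hBe => ?_⟩
    have h1 := hA.2.2 (B.map ψ.symm.toMonoidHom) ?_ (hBe.map _)
    · rwa [card_map_of_injective ψ.symm.injective, ← card_map_of_injective (K := A) (f := ψ.toMonoidHom) ψ.injective] at h1
    · rintro _ ⟨b, hb, rfl⟩
      obtain ⟨u, hu, rfl⟩ := hB hb
      simpa using hu
  refine le_antisymm ?_ ?_
  · simp only [jE, Subgroup.map_iSup]
    exact iSup₂_le fun A hA => le_jE (key φ T A hA)
  · refine iSup₂_le fun A hA x hx => ?_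
    have h1 := key φ.symm _ A hA
    have h2 : (T.map φ.toMonoidHom).map φ.symm.toMonoidHom = T := by
      rw [Subgroup.map_map]
      convert Subgroup.map_id T using 2
      ext y
      simp
    rw [h2] at h1
    exact ⟨φ.symm x, le_jE h1 ⟨x, hx, rfl⟩, by simp⟩

/-- The normaliser of `T` normalises `jE T`. -/
theorem normalizer_le_jE (T : Subgroup G) :
    normalizer (T : Set G) ≤ normalizer (jE T : Set G) := by
  intro g hg
  rw [mem_normalizer_iff_map_conj_eq] at hg ⊢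
  exact (map_jE (MulAut.conj g) T).trans (congrArg jE hg)

end H11.CIT
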