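import Cfsg.Agent.H11.CIT.Pair

/-!
The geometry of the conjugates of `A` (points) and of `D` (lines).
-/

set_option autoImplicit false
set_option linter.style.haveILetI false
set_option linter.unusedSectionVars false

namespace H11.CIT

open Subgroup

universe u

variable {G : Type u} [Group G]

/-- A conjugate of a subgroup. -/
def cj (g : G) (H : Subgroup G) : Subgroup G := H.map (MulAut.conj g).toMonoidHom

theorem mem_cj {g x : G} {H : Subgroup G} : x ∈ cj g H ↔ g⁻¹ * x * g ∈ H := by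
  constructor
  · rintro ⟨y, hy, rfl⟩
    simpa [mul_assoc] using hy
  · exact fun h => ⟨_, h, by simp [mul_assoc]⟩

theorem cj_mul (g k : G) (H : Subgroup G) : cj g (cj k H) = cj (g * k) H := by
  rw [cj, cj, cj, Subgroup.map_map, map_mul]
  rfl

theorem cj_one (H : Subgroup G) : cj 1 H = H := by
  ext x; simp [mem_cj]

theorem cj_inv_cancel (g : G) (H : Subgroup G) : cj g⁻¹ (cj g H) = H := by
  rw [cj_mul, inv_mul_cancel, cj_one]

theorem cj_cancel_inv (g : G) (H : Subgroup G) : cj g (cj g⁻¹ H) = H := by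
  rw [cj_mul, mul_inv_cancel, cj_one]

theorem cj_mono (g : G) {H K : Subgroup G} (h : H ≤ K) : cj g H ≤ cj g K := map_mono h

theorem cj_inj {g : G} {H K : Subgroup G} (h : cj g H = cj g K) : H = K := by
  rw [← cj_inv_cancel g H, h, cj_inv_cancel]

theorem cj_inf (g : G) (H K : Subgroup G) : cj g (H ⊓ K) = cj g H ⊓ cj g K :=
  map_inf H K _ (MulAut.conj g).injective

theorem card_cj (g : G) (H : Subgroup G) : Nat.card (cj g H) = Nat.card H :=
  card_map_of_injective (MulAut.conj g).injective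

theorem mem_normalizer_iff_cj {g : G} {H : Subgroup G} : g ∈ normalizer (H : Set G) ↔ cj g H = H :=
  mem_normalizer_iff_map_conj_eq

theorem mem_normalizer_cj {g x : G} {H : Subgroup G} :
    x ∈ normalizer (cj g H : Set G) ↔ g⁻¹ * x * g ∈ normalizer (H : Set G) := by
  rw [mem_normalizer_iff_cj, mem_normalizer_iff_cj, cj_mul]
  constructor
  · intro h
    rw [mul_assoc, ← cj_mul g⁻¹, h, cj_inv_cancel]
  · intro h
    conv_rhs => rw [← h, cj_mul]
    congr 1
    group

theorem normalizer_cj (g : G) (H : Subgroup G) :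
    normalizer (cj g H : Set G) = cj g (normalizer (H : Set G)) := by
  ext x
  rw [mem_normalizer_cj, mem_cj]

/-- Incidence of a point and a line. -/
def Inc (M A P l : Subgroup G) : Prop := ∃ g, P = cj g A ∧ l = cj g (core2 M)

/-- Points. -/
def IsPt (A P : Subgroup G) : Prop := ∃ g, P = cj g A

theorem Inc.cj {M A P l : Subgroup G} (h : Inc M A P l) (g : G) :
    Inc M A (cj g P) (cj g l) := by
  obtain ⟨k, rfl, rfl⟩ := h
  exact ⟨g * k, cj_mul g k A, cj_mul g k _⟩

theorem Inc.isPt {M A P l : Subgroup G} (h : Inc M A P l) : IsPt A P := h.imp fun _ h => h.1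

theorem Inc.isLn {M A P l : Subgroup G} (h : Inc M A P l) : IsPt (core2 M) l := h.imp fun _ h => h.2

theorem IsPt.cj {A P : Subgroup G} (h : IsPt A P) (g : G) : IsPt A (cj g P) := by
  obtain ⟨k, rfl⟩ := h
  exact ⟨g * k, cj_mul g k A⟩

variable [Finite G] {M R A : Subgroup G} (p : Pair M R A)

namespace Pair

include p

theorem D_le_R : core2 M ≤ R := le_sup_left.trans_eq p.R_eq.symm

theorem A_le_R : A ≤ R := le_sup_right.trans_eq p.R_eq.symm

theorem D_ne_A : core2 M ≠ A := fun e => by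
  have := p.cardU
  rw [← e, inf_idem, p.cardD] at this
  omega

theorem inc_base : Inc M A A (core2 M) := ⟨1, (cj_one A).symm, (cj_one _).symm⟩

theorem syl_normA : IsSyl R (normalizer (A : Set G)) :=
  ⟨p.R_le', p.two, fun Q _ hQ hle => p.full Q hQ hle⟩

/-- Lines are not points. -/
theorem not_conj (g : G) : cj g (core2 M) ≠ A := by
  intro e
  have hR' : cj g R ≤ normalizer (A : Set G) := by
    rw [← e, normalizer_cj]
    exact cj_mono g (p.R_le.trans_eq p.eqN)
  obtain ⟨m, hm, hmR⟩ := p.syl_normA.conj_of_isPGroup hR' (p.two.map _)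
  have hy : m * g ∈ normalizer (R : Set G) := mem_normalizer_of_conj fun x hx => by
    have := hmR (g * x * g⁻¹) (mem_cj.2 (by simpa [mul_assoc] using hx))
    rwa [show m * g * x * (m * g)⁻¹ = m * (g * x * g⁻¹) * m⁻¹ by group]
  have hD : cj (m * g) (core2 M) = core2 M :=
    mem_normalizer_iff_cj.1 (p.eqN ▸ (p.normR hy).1)
  rw [← cj_mul, e, mem_normalizer_iff_cj.1 hm] at hD
  exact p.D_ne_A hD.symm

theorem elem16 {E : Subgroup G} (hER : E ≤ R) (hE : Elem E) (hc : Nat.card E = 16) :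
    E = core2 M ∨ E = A :=
  (p.elem_le E hER hE).imp (fun h => eq_of_le_of_card_ge h (by rw [p.cardD, hc]))
    (fun h => eq_of_le_of_card_ge h (by rw [p.cardA, hc]))

theorem pt_elem {P : Subgroup G} (hP : IsPt A P) : Elem P ∧ Nat.card P = 16 := by
  obtain ⟨g, rfl⟩ := hP
  exact ⟨p.elemA.map _, (card_cj g A).trans p.cardA⟩

theorem pt_in_R {P : Subgroup G} (hP : IsPt A P) (hPR : P ≤ R) : P = A := by
  refine (p.elem16 hPR (p.pt_elem hP).1 (p.pt_elem hP).2).resolve_left fun e => ?_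
  obtain ⟨g, rfl⟩ := hP
  exact p.not_conj g⁻¹ (by rw [← e, cj_inv_cancel])

/-- Normalisation of one point by another is equality. -/
theorem pt_le {P Q : Subgroup G} (hP : IsPt A P) (hQ : IsPt A Q) (h : P ≤ normalizer (Q : Set G)) :
    P = Q := by
  obtain ⟨g, rfl⟩ := hQ
  have h1 : cj g⁻¹ P ≤ normalizer (A : Set G) := fun x hx => by
    have := mem_normalizer_cj.1 (h (mem_cj.1 hx))
    simpa [mul_assoc] using this
  obtain ⟨m, hm, hmR⟩ := p.syl_normA.conj_of_isPGroup h1 ((p.pt_elem (hP.cj _)).1.isPGroup)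
  have h2 := p.pt_in_R ((hP.cj g⁻¹).cj m) (by rintro _ ⟨x, hx, rfl⟩; exact hmR x hx)
  rw [← mem_normalizer_iff_cj.1 hm] at h2
  have h3 := cj_inj (h2.trans (by rw [mem_normalizer_iff_cj.1 hm]))
  rw [← h3, cj_cancel_inv]

theorem ln_elem {l : Subgroup G} (hl : IsPt (core2 M) l) : Elem l ∧ Nat.card l = 16 :=
  p.dual.pt_elem hl

theorem inc_dual {P l : Subgroup G} : Inc (normalizer (A : Set G)) (core2 M) l P ↔ Inc M A P l := by
  simp only [Inc, p.coreN]
  exact exists_congr fun g => and_comm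

theorem inc_le {P l : Subgroup G} (h : Inc M A P l) : l ≤ normalizer (P : Set G) := by
  obtain ⟨g, rfl, rfl⟩ := h
  rw [normalizer_cj]
  exact cj_mono g (p.D_le_R.trans p.R_le')

theorem inc_le' {P l : Subgroup G} (h : Inc M A P l) : P ≤ normalizer (l : Set G) :=
  p.dual.inc_le (p.inc_dual.2 h)

theorem invol_pt {i : G} (hi : orderOf i = 2) : ∃ P, IsPt A P ∧ i ∈ P := by
  obtain ⟨g, hg⟩ := p.conjU i hi
  exact ⟨cj g⁻¹ A, ⟨g⁻¹, rfl⟩, mem_cj.2 (by simpa using hg.1)⟩

theorem pt_unique {i : G} (hi : orderOf i = 2) {P Q : Subgroup G} (hP : IsPt A P) (hQ : IsPt A Q)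
    (hiP : i ∈ P) (hiQ : i ∈ Q) : P = Q := by
  obtain ⟨g, hg⟩ := p.conjU i hi
  have hne : g * i * g⁻¹ ≠ 1 := fun e => H65.ne_one_of_two hi (conj_eq_one_iff.1 e)
  have key : ∀ P, IsPt A P → i ∈ P → cj g P = A := by
    intro P hP hiP
    refine p.pt_in_R (hP.cj g) fun x hx => ?_
    rw [← p.centU _ hg hne]
    exact mem_cent.2 ((p.pt_elem (hP.cj g)).1.comm hx (mem_cj.2 (by simpa [mul_assoc] using hiP)))
  exact cj_inj ((key P hP hiP).trans (key Q hQ hiQ).symm)

theorem ln_unique {i : G} (hi : orderOf i = 2) {l l' : Subgroup G} (hl : IsPt (core2 M) l)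
    (hl' : IsPt (core2 M) l') (hil : i ∈ l) (hil' : i ∈ l') : l = l' :=
  p.dual.pt_unique hi hl hl' hil hil'

/-- A point and a line through a common involution are incident. -/
theorem inc_of_mem {i : G} (hi : orderOf i = 2) {P l : Subgroup G} (hP : IsPt A P)
    (hl : IsPt (core2 M) l) (hiP : i ∈ P) (hil : i ∈ l) : Inc M A P l := by
  obtain ⟨g, hg⟩ := p.conjU i hi
  refine ⟨g⁻¹, p.pt_unique hi hP ⟨g⁻¹, rfl⟩ hiP (mem_cj.2 (by simpa using hg.1)),
    p.ln_unique hi hl ⟨g⁻¹, rfl⟩ hil (mem_cj.2 (by simpa using hg.2))⟩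

/-- An involution fixes only the points of its line. -/
theorem inc_of_fix {i : G} (hi : orderOf i = 2) {P : Subgroup G} (hP : IsPt A P)
    (hn : i ∈ normalizer (P : Set G)) {l : Subgroup G} (hl : IsPt (core2 M) l) (hil : i ∈ l) :
    Inc M A P l := by
  obtain ⟨g, rfl⟩ := hP
  have h1 := mem_normalizer_cj.1 hn
  have hi2 : IsPGroup 2 (zpowers (g⁻¹ * i * g)) := IsPGroup.of_card (n := 1) (by
    rw [Nat.card_zpowers, show g⁻¹ * i * g = MulAut.conj g⁻¹ i by simp, MulEquiv.orderOf_eq, hi, pow_one])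
  obtain ⟨m, hm, hmR⟩ := p.syl_normA.conj_of_isPGroup (zpowers_le.2 h1) hi2
  have hj := hmR _ (mem_zpowers _)
  have hPm : cj g A = cj (g * m⁻¹) A := by
    rw [← cj_mul, mem_normalizer_iff_cj.1 (inv_mem hm)]
  set j := m * (g⁻¹ * i * g) * m⁻¹ with hjd
  have hij : (g * m⁻¹)⁻¹ * i * (g * m⁻¹) = j := by rw [hjd]; group
  have hjj : j * j = 1 := by
    rw [hjd, show m * (g⁻¹ * i * g) * m⁻¹ * (m * (g⁻¹ * i * g) * m⁻¹) = m * (g⁻¹ * (i * i) * g) * m⁻¹ by group,
      sq_eq_one hi]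
    group
  rcases p.invol j hj hjj with h | h
  · exact ⟨g * m⁻¹, hPm, p.ln_unique hi hl ⟨_, rfl⟩ hil (mem_cj.2 (hij ▸ h))⟩
  · exact p.inc_of_mem hi ⟨g, rfl⟩ hl (hPm ▸ mem_cj.2 (hij ▸ h)) hil

theorem card_inter {P l : Subgroup G} (h : Inc M A P l) : Nat.card (P ⊓ l : Subgroup G) = 4 := by
  obtain ⟨g, rfl, rfl⟩ := h
  rw [← cj_inf, card_cj, p.cardU]

/-- Two lines share at most one point. -/
theorem ln_share {P P' l l' : Subgroup G} (h1 : Inc M A P l) (h2 : Inc M A P' l)
    (h3 : Inc M A P l') (h4 : Inc M A P' l') (hne : l ≠ l') : P = P' := by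
  symm
  refine p.pt_le h2.isPt h1.isPt ?_
  set X := (P' ⊓ l) ⊔ (P' ⊓ l') with hX
  have hXP : X ≤ P' := sup_le inf_le_left inf_le_left
  have hXN : X ≤ normalizer (P : Set G) :=
    sup_le (inf_le_right.trans (p.inc_le h1)) (inf_le_right.trans (p.inc_le h3))
  suffices hc : Nat.card P' ≤ Nat.card X from (eq_of_le_of_card_ge hXP hc).symm.trans_le hXN
  have h16 : Nat.card ((P' ⊓ l : Subgroup G) × (P' ⊓ l' : Subgroup G)) = 16 := by
    rw [Nat.card_prod, p.card_inter h2, p.card_inter h4]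
  rw [(p.pt_elem h2.isPt).2, ← h16]
  refine Nat.card_le_card_of_injective (fun x => (⟨(x.1 : G) * x.2,
    mul_mem (mem_sup_left x.1.2) (mem_sup_right x.2.2)⟩ : X)) ?_
  rintro ⟨a, b⟩ ⟨a', b'⟩ e
  have e' : (a : G) * b = a' * b' := congrArg Subtype.val e
  have ha : a = a' := by
    refine Subtype.ext (inv_mul_eq_one.1 ?_).symm
    by_contra hne1
    have hmem : (a' : G)⁻¹ * a ∈ P' ⊓ l := mul_mem (inv_mem a'.2) a.2
    have hmem' : (a' : G)⁻¹ * a ∈ P' ⊓ l' := by
      rw [show (a' : G)⁻¹ * a = (b' : G) * (b : G)⁻¹ by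
        rw [eq_mul_inv_iff_mul_eq, mul_assoc, e', inv_mul_cancel_left]]
      exact mul_mem b'.2 (inv_mem b.2)
    exact hne (p.ln_unique (orderOf_two ((p.pt_elem h2.isPt).1 _ hmem.1) hne1) h1.isLn h3.isLn
      hmem.2 hmem'.2)
  subst ha
  exact Prod.ext rfl (Subtype.ext (mul_left_cancel e'))

open Classical in
/-- A line has five points. -/
theorem card_pts [Fintype (Subgroup G)] {l : Subgroup G} (hl : IsPt (core2 M) l) :
    (Finset.univ.filter fun P => Inc M A P l).card = 5 := by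
  letI := Fintype.ofFinite G
  set S := Finset.univ.filter (fun x : G => x ∈ l ∧ x ≠ 1) with hS
  have hcount : ∀ H : Subgroup G, (Finset.univ.filter fun x : G => x ∈ H ∧ x ≠ 1).card = Nat.card H - 1 := by
    intro H
    have e : (Finset.univ.filter fun x : G => x ∈ H ∧ x ≠ 1) =
        (Finset.univ.filter fun x : G => x ∈ H).erase 1 := by
      ext x; simp [and_comm]
    rw [e, Finset.card_erase_of_mem (by simp [one_mem]), ← Fintype.card_subtype, Nat.card_eq_fintype_card]
  have hinv : ∀ x : G, x ∈ l → x ≠ 1 → orderOf x = 2 := fun x hx hx1 =>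
    orderOf_two ((p.ln_elem hl).1 x hx) hx1
  let f : G → Subgroup G := fun x => if h : orderOf x = 2 then (p.invol_pt h).choose else ⊥
  have hf : ∀ x, orderOf x = 2 → IsPt A (f x) ∧ x ∈ f x := fun x hx => by
    simp only [f, dif_pos hx]
    exact (p.invol_pt hx).choose_spec
  have hmaps : ∀ x ∈ S, f x ∈ Finset.univ.filter fun P => Inc M A P l := by
    intro x hx
    obtain ⟨hxl, hx1⟩ := (Finset.mem_filter.1 hx).2
    have h2 := hinv x hxl hx1
    exact Finset.mem_filter.2 ⟨Finset.mem_univ _, p.inc_of_mem h2 (hf x h2).1 hl (hf x h2).2 hxl⟩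
  have hfib : ∀ P ∈ Finset.univ.filter (fun P => Inc M A P l), (S.filter fun x => f x = P).card = 3 := by
    intro P hP
    have hPl := (Finset.mem_filter.1 hP).2
    have e : (S.filter fun x => f x = P) =
        Finset.univ.filter fun x : G => x ∈ (P ⊓ l : Subgroup G) ∧ x ≠ 1 := by
      ext x
      simp only [hS, Finset.mem_filter, Finset.mem_univ, true_and, mem_inf]
      constructor
      · rintro ⟨⟨hxl, hx1⟩, rfl⟩
        exact ⟨⟨(hf x (hinv x hxl hx1)).2, hxl⟩, hx1⟩
      · rintro ⟨⟨hxP, hxl⟩, hx1⟩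
        have h2 := hinv x hxl hx1
        exact ⟨⟨hxl, hx1⟩, p.pt_unique h2 (hf x h2).1 hPl.isPt (hf x h2).2 hxP⟩
    rw [e, hcount, p.card_inter hPl]
  have h := Finset.card_eq_sum_card_fiberwise hmaps
  rw [Finset.sum_congr rfl hfib, Finset.sum_const, hS, hcount, (p.ln_elem hl).2, smul_eq_mul] at h
  omega

end Pair

end H11.CIT
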