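import Cfsg.Agent.H11.CIT.Core

/-!
Involutions outside the 2-core and odd elements inverted by them.
-/

set_option autoImplicit false
set_option linter.style.haveILetI false
set_option linter.unusedSectionVars false

namespace H11.CIT

open Subgroup

universe u

variable {H : Type u} [Group H] [Finite H]

theorem isPGroup_pair {y z : H} (hy : orderOf y = 2) (hz : orderOf z = 2) {k : ℕ}
    (hk : orderOf (y * z) = 2 ^ k) : IsPGroup 2 (closure ({y, z} : Set H)) := by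
  rintro ⟨g, hg⟩
  obtain ⟨j, rfl | rfl⟩ := (H65.mem_closure_pair_iff hy hz).1 hg
  · refine ⟨k, Subtype.ext ?_⟩
    show ((y * z) ^ j) ^ 2 ^ k = 1
    rw [← zpow_natCast, ← zpow_mul, mul_comm, zpow_mul, zpow_natCast, ← hk, pow_orderOf_eq_one,
      one_zpow]
  · refine ⟨1, Subtype.ext ?_⟩
    show (y * (y * z) ^ j) ^ 2 ^ 1 = 1
    rw [pow_one, sq, ← mul_assoc,
      show y * (y * z) ^ j * y = y * (y * z) ^ j * y⁻¹ by rw [H65.inv_of_two hy],
      H65.conj_prod_zpow hy hz, ← zpow_add, neg_add_cancel, zpow_zero]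

/-- A number which is not a power of two has an odd prime divisor. -/
theorem exists_odd_prime {n : ℕ} (hn : n ≠ 0) (h : ∀ k, n ≠ 2 ^ k) :
    ∃ p, p.Prime ∧ Odd p ∧ p ∣ n := by
  by_contra hcon
  push Not at hcon
  refine h n.primeFactorsList.length (Nat.eq_prime_pow_of_unique_prime_dvd hn fun {d} hd hdn => ?_)
  rcases hd.eq_two_or_odd' with h2 | h2
  · exact h2
  · exact absurd hdn (hcon d hd h2)

/-- An involution outside the 2-core inverts an element of odd prime order. -/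
theorem exists_inverted {a : H} (ha : orderOf a = 2) (hac : a ∉ Cfsg.pCore 2 H) :
    ∃ w : H, (orderOf w).Prime ∧ Odd (orderOf w) ∧ a * w * a⁻¹ = w⁻¹ := by
  haveI : Fact (Nat.Prime 2) := ⟨Nat.prime_two⟩
  by_contra hcon
  push Not at hcon
  refine hac (H65.baer_suzuki_set (C := {x : H | IsConj a x}) (p := 2)
    (fun g y hy => hy.trans (isConj_iff.2 ⟨g, rfl⟩)) ?_ (IsConj.refl a))
  intro y hy z hz
  have hy2 := H65.two_of_isConj ha hy
  have hz2 := H65.two_of_isConj ha hz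
  by_contra hne
  obtain ⟨p, hp, hpo, hpd⟩ := exists_odd_prime (orderOf_pos (y * z)).ne'
    fun k hk => hne (isPGroup_pair hy2 hz2 hk)
  obtain ⟨g, hg⟩ := isConj_iff.1 hy
  set w := (y * z) ^ (orderOf (y * z) / p) with hw
  have hwo : orderOf w = p := orderOf_pow_orderOf_div (orderOf_pos _).ne' hpd
  have hinv : y * w * y⁻¹ = w⁻¹ := by
    rw [hw, ← conj_pow, H65.conj_prod hy2 hz2, inv_pow]
  have hwo' : orderOf (g⁻¹ * w * g) = p := by
    rw [show g⁻¹ * w * g = MulAut.conj g⁻¹ w by simp, MulEquiv.orderOf_eq, hwo]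
  refine hcon (g⁻¹ * w * g) (hwo'.symm ▸ hp) (hwo'.symm ▸ hpo) ?_
  calc a * (g⁻¹ * w * g) * a⁻¹ = g⁻¹ * ((g * a * g⁻¹) * w * (g * a * g⁻¹)⁻¹) * g := by group
    _ = g⁻¹ * w⁻¹ * g := by rw [hg, hinv]
    _ = (g⁻¹ * w * g)⁻¹ := by group

/-- An element outside the 2-core whose square lies in it gives an involution outside the core. -/
theorem exists_invol_outside (hG : IsCIT H) {x : H} (hx2 : x * x ∈ Cfsg.pCore 2 H)
    (hx : x ∉ Cfsg.pCore 2 H) : ∃ a : H, orderOf a = 2 ∧ a ∉ Cfsg.pCore 2 H := by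
  haveI : Fact (Nat.Prime 2) := ⟨Nat.prime_two⟩
  haveI := H1.pCore_characteristic 2 H
  set D := Cfsg.pCore 2 H with hD
  have hD2 : IsPGroup 2 D := H1.isPGroup_pCore 2 H
  let π := QuotientGroup.mk' D
  have hC : ∀ y : H, IsConj x y → y ∉ D ∧ y * y ∈ D := by
    intro y hy
    obtain ⟨g, rfl⟩ := isConj_iff.1 hy
    refine ⟨fun h => hx ?_, ?_⟩
    · simpa [mul_assoc] using (inferInstance : D.Normal).conj_mem _ h g⁻¹
    · rw [show g * x * g⁻¹ * (g * x * g⁻¹) = g * (x * x) * g⁻¹ by group]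
      exact (inferInstance : D.Normal).conj_mem _ hx2 g
  have hπ : ∀ y : H, IsConj x y → orderOf (π y) = 2 := fun y hy =>
    orderOf_two (by rw [← map_mul]; exact (QuotientGroup.eq_one_iff _).2 (hC y hy).2)
      (fun e => (hC y hy).1 ((QuotientGroup.eq_one_iff _).1 e))
  obtain ⟨y, hy, z, hz, hne⟩ : ∃ y, IsConj x y ∧ ∃ z, IsConj x z ∧
      ¬ IsPGroup 2 (closure ({y, z} : Set H)) := by
    by_contra hcon
    push Not at hcon
    exact hx (H65.baer_suzuki_set (C := {v : H | IsConj x v}) (p := 2)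
      (fun g v hv => hv.trans (isConj_iff.2 ⟨g, rfl⟩)) hcon (IsConj.refl x))
  obtain ⟨p, hp, hpo, hpd⟩ := exists_odd_prime (orderOf_pos (π y * π z)).ne' fun k hk => hne (by
    rintro ⟨g, hg⟩
    have h1 : π g ∈ closure ({π y, π z} : Set (H ⧸ D)) := by
      have h2 := mem_map_of_mem π hg
      rwa [MonoidHom.map_closure, Set.image_pair] at h2
    obtain ⟨j, hj⟩ := isPGroup_pair (hπ y hy) (hπ z hz) hk ⟨π g, h1⟩
    obtain ⟨i, hi⟩ := hD2 ⟨g ^ 2 ^ j, (QuotientGroup.eq_one_iff _).1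
      (show π (g ^ 2 ^ j) = 1 by rw [map_pow]; exact congrArg Subtype.val hj)⟩
    exact ⟨j + i, Subtype.ext (by
      rw [SubmonoidClass.coe_pow, pow_add, pow_mul]
      exact congrArg Subtype.val hi)⟩)
  haveI := Fact.mk hp
  set c := (π y * π z) ^ (orderOf (π y * π z) / p) with hc
  have hco : orderOf c = p := orderOf_pow_orderOf_div (orderOf_pos _).ne' hpd
  have hcinv : π y * c * (π y)⁻¹ = c⁻¹ := by
    rw [hc, ← conj_pow, H65.conj_prod (hπ y hy) (hπ z hz), inv_pow]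
  set K := (zpowers c).comap π with hK
  have hKcard : Nat.card K = Nat.card D * p := by
    rw [hK, ← hco, ← Nat.card_zpowers]
    exact (Nat.card_congr (QuotientGroup.preimageMkEquivSubgroupProdSet D
      (zpowers c : Set (H ⧸ D)))).trans (Nat.card_prod _ _)
  obtain ⟨⟨w, hwK⟩, hw⟩ := exists_prime_orderOf_dvd_card' (G := K) p (hKcard ▸ dvd_mul_left p _)
  rw [orderOf_mk] at hw
  have hw1 : w ≠ 1 := fun e => hp.one_lt.ne' (by rw [← hw, e, orderOf_one])
  have hwD : w ∉ D := fun h => hw1 (eq_one_of_odd_mem hD2 h (hw ▸ hpo))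
  have hπw : orderOf (π w) = p :=
    orderOf_eq_prime (by rw [← map_pow, ← hw, pow_orderOf_eq_one, map_one])
      (fun e => hwD ((QuotientGroup.eq_one_iff _).1 e))
  obtain ⟨i₀, hi₀⟩ : ∃ i : ℤ, c ^ i = π w := id hwK
  have hwinv : π y * π w * (π y)⁻¹ = (π w)⁻¹ := by
    rw [← hi₀, ← conj_zpow, hcinv, inv_zpow]
  -- the conjugate of `⟨w⟩` under `y` is conjugate inside `K`
  have hyw : y * w * y⁻¹ ∈ K := by
    show π (y * w * y⁻¹) ∈ zpowers c
    rw [map_mul, map_mul, map_inv, hwinv]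
    exact inv_mem hwK
  have hD0 : (Nat.card D).Coprime p := by
    obtain ⟨m, hm⟩ := IsPGroup.iff_card.1 hD2
    rw [hm]
    exact Nat.Coprime.pow_left m ((Nat.coprime_primes Nat.prime_two hp).2
      (fun e => by rw [← e] at hpo; exact absurd hpo (by decide)))
  have hsyl : ∀ v : K, orderOf v = p → ∃ P : Sylow p K, (P : Subgroup K) = zpowers v := by
    intro v hv
    obtain ⟨P, hP⟩ := IsPGroup.exists_le_sylow (P := zpowers v) (p := p)
      (IsPGroup.of_card (n := 1) (by rw [Nat.card_zpowers, hv, pow_one]))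
    refine ⟨P, (eq_of_le_of_card_ge hP ?_).symm⟩
    obtain ⟨m, hm⟩ := IsPGroup.iff_card.1 P.isPGroup'
    rw [Nat.card_zpowers, hv, hm]
    rcases Nat.lt_or_ge m 2 with hm2 | hm2
    · interval_cases m <;> simp [hp.one_lt.le]
    · exfalso
      have h1 : p ^ 2 ∣ Nat.card D * p :=
        hKcard ▸ (pow_dvd_pow p hm2).trans (hm ▸ Subgroup.card_subgroup_dvd_card _)
      rw [sq] at h1
      exact hp.coprime_iff_not_dvd.1 hD0.symm ((Nat.mul_dvd_mul_iff_right hp.pos).1 h1)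
  obtain ⟨P₁, hP₁⟩ := hsyl ⟨w, hwK⟩ (by rw [orderOf_mk, hw])
  obtain ⟨P₂, hP₂⟩ := hsyl ⟨y * w * y⁻¹, hyw⟩ (by
    rw [orderOf_mk, ← hw]; exact MulEquiv.orderOf_eq (MulAut.conj y) w)
  obtain ⟨⟨k, hkK⟩, hk⟩ := MulAction.exists_smul_eq K P₁ P₂
  have hmem : k * w * k⁻¹ ∈ zpowers (y * w * y⁻¹) := by
    have h1 : (⟨k, hkK⟩ : K) * ⟨w, hwK⟩ * ⟨k, hkK⟩⁻¹ ∈ (P₂ : Subgroup K) := by
      rw [← hk, Sylow.coe_subgroup_smul]
      exact H2.conj_smul_mem (hP₁ ▸ mem_zpowers _)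
    rw [hP₂] at h1
    obtain ⟨j, hj⟩ := h1
    exact ⟨j, congrArg Subtype.val hj⟩
  obtain ⟨j, hj⟩ := hmem
  obtain ⟨i₁, hi₁⟩ : ∃ i : ℤ, c ^ i = π k := id hkK
  have hkw : π k * π w * (π k)⁻¹ = π w := by
    rw [← hi₁, ← hi₀, ← zpow_neg, ← zpow_add, ← zpow_add]
    congr 1
    omega
  have hwj : w ^ j = w⁻¹ := by
    have h1 : (π w)⁻¹ ^ j = π w := by
      rw [← hwinv, conj_zpow, ← map_zpow, ← map_inv, ← map_mul, ← map_mul, ← conj_zpow,
        show (y * w * y⁻¹) ^ j = k * w * k⁻¹ from hj, map_mul, map_mul, map_inv, hkw]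
    rw [← mul_eq_one_iff_eq_inv, ← zpow_add_one]
    refine orderOf_dvd_iff_zpow_eq_one.1 ?_
    rw [hw, ← hπw]
    refine orderOf_dvd_iff_zpow_eq_one.2 ?_
    rw [zpow_add_one, ← inv_inv ((π w) ^ j), ← inv_zpow, h1, inv_mul_cancel]
  -- strip the part of `k` outside `D`
  obtain ⟨d, hd, hdk⟩ : ∃ d ∈ D, d * w * d⁻¹ = k * w * k⁻¹ := by
    obtain ⟨i, hi⟩ : ∃ i : ℤ, (π w) ^ i = π k := by
      have hz : zpowers (π w) = zpowers c := eq_of_le_of_card_ge (zpowers_le.2 ⟨i₀, hi₀⟩)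
        (by rw [Nat.card_zpowers, Nat.card_zpowers, hπw, hco])
      exact (show π k ∈ zpowers (π w) by rw [hz]; exact ⟨i₁, hi₁⟩)
    refine ⟨k * (w ^ i)⁻¹, (QuotientGroup.eq_one_iff _).1 ?_, by group⟩
    show π (k * (w ^ i)⁻¹) = 1
    rw [map_mul, map_inv, map_zpow, hi, mul_inv_cancel]
  set a := d⁻¹ * y with ha
  have hainv : a * w⁻¹ * a⁻¹ = w := by
    have h1 : d * w * d⁻¹ = y * w⁻¹ * y⁻¹ := by
      rw [hdk, ← hwj, ← conj_zpow]; exact hj.symm
    calc a * w⁻¹ * a⁻¹ = d⁻¹ * (y * w⁻¹ * y⁻¹) * d := by rw [ha]; group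
      _ = w := by rw [← h1]; group
  have haD : a ∉ D := fun h => (hC y hy).1 (by
    rw [show y = d * a by rw [ha]; group]
    exact mul_mem hd h)
  have haa : a * a ∈ D := by
    rw [ha, show d⁻¹ * y * (d⁻¹ * y) = d⁻¹ * (y * d⁻¹ * y⁻¹) * (y * y) by group]
    exact mul_mem (mul_mem (inv_mem hd)
      ((inferInstance : D.Normal).conj_mem _ (inv_mem hd) y)) (hC y hy).2
  refine ⟨a, orderOf_two (hG.fpf' hD2 (hw ▸ hpo) hw1 haa ?_) (fun e => haD (e ▸ one_mem D)), haD⟩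
  have hainv' : a * w * a⁻¹ = w⁻¹ := by
    rw [show a * w * a⁻¹ = (a * w⁻¹ * a⁻¹)⁻¹ by group, hainv]
  have h2 : a * a * w * (a * a)⁻¹ = w := by
    rw [show a * a * w * (a * a)⁻¹ = a * (a * w * a⁻¹) * a⁻¹ by group, hainv', hainv]
  exact (mul_inv_eq_iff_eq_mul.1 h2).symm

variable {G : Type u} [Group G] [Finite G]

theorem mem_core2_iff {M : Subgroup G} {x : G} (hx : x ∈ M) :
    x ∈ core2 M ↔ (⟨x, hx⟩ : M) ∈ Cfsg.pCore 2 M :=
  ⟨fun ⟨y, hy, e⟩ => (show (⟨x, hx⟩ : M) = y from Subtype.ext e.symm) ▸ hy, fun h => ⟨_, h, rfl⟩⟩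

/-- An involution of `M` outside its 2-core inverts an element of odd prime order of `M`. -/
theorem exists_inverted_in {M : Subgroup G} {a : G} (haM : a ∈ M) (ha : orderOf a = 2)
    (hac : a ∉ core2 M) :
    ∃ w ∈ M, (orderOf w).Prime ∧ Odd (orderOf w) ∧ a * w * a⁻¹ = w⁻¹ := by
  obtain ⟨w, h1, h2, h3⟩ := exists_inverted (H := M) (a := ⟨a, haM⟩) (by rw [orderOf_mk, ha])
    (fun h => hac ((mem_core2_iff haM).2 h))
  exact ⟨w, w.2, by rwa [orderOf_coe], by rwa [orderOf_coe], congrArg Subtype.val h3⟩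

/-- A subgroup which is not 2-closed contains an involution outside its 2-core. -/
theorem exists_invol_out (hG : IsCIT G) {M R : Subgroup G} (hR : IsSyl R M) (hne : R ≠ core2 M) :
    ∃ a ∈ M, orderOf a = 2 ∧ a ∉ core2 M := by
  classical
  obtain ⟨x, hxR, hxD⟩ := SetLike.exists_of_lt (lt_of_le_of_ne hR.core2_le (Ne.symm hne))
  obtain ⟨k, hk⟩ := orderOf_eq_two_pow hR.2.1 hxR
  have hex : ∃ i, x ^ 2 ^ i ∈ core2 M := ⟨k, by rw [← hk, pow_orderOf_eq_one]; exact one_mem _⟩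
  have h0 : Nat.find hex ≠ 0 := fun h => hxD (by simpa [h] using Nat.find_spec hex)
  obtain ⟨i, hi⟩ := Nat.exists_eq_succ_of_ne_zero h0
  set v := x ^ 2 ^ i with hv
  have hvM : v ∈ M := pow_mem (hR.1 hxR) _
  have hvD : v ∉ core2 M := Nat.find_min hex (by omega)
  have hvv : v * v ∈ core2 M := by
    rw [hv, ← pow_add, ← two_mul, ← pow_succ', show i + 1 = Nat.find hex by omega]
    exact Nat.find_spec hex
  obtain ⟨a, ha2, haD⟩ := exists_invol_outside (hG.subgroup M) (x := ⟨v, hvM⟩)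
    ((mem_core2_iff (mul_mem hvM hvM)).1 hvv) (fun h => hvD ((mem_core2_iff hvM).2 h))
  exact ⟨a, a.2, by rwa [orderOf_coe], fun h => haD ((mem_core2_iff a.2).1 h)⟩

end H11.CIT
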