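import Cfsg.Agent.H11.CIT.Core
import Cfsg.Agent.H89.PSL2Inv
import Cfsg.Agent.H57.SzInvCount
import Cfsg.Agent.H37.PSL34

/-!
Elementary abelian 2-subgroups of `PSL₂(q)`, `q` odd, and of the Suzuki groups; a non-cyclic group
of order nine in `PSL₃(4)`.
-/

set_option autoImplicit false
set_option linter.style.haveILetI false
set_option linter.unusedSectionVars false

namespace H11.CIT

open Subgroup

theorem elem_map_hom {A : Type*} {B : Type*} [Group A] [Group B] {E : Subgroup A} (h : Elem E)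
    (f : A →* B) : Elem (E.map f) := by
  rintro _ ⟨x, hx, rfl⟩
  rw [← map_mul, h x hx, map_one]

theorem card_elem_psl_odd {F : Type*} [Field F] [Fintype F] (h2 : (2 : F) ≠ 0)
    (E : Subgroup (Matrix.ProjectiveSpecialLinearGroup (Fin 2) F)) (hE : Elem E) :
    Nat.card E ≤ 4 := by
  classical
  by_cases hEb : E = ⊥
  · rw [hEb, Subgroup.card_bot]; norm_num
  obtain ⟨z, hz, hz1⟩ := (Subgroup.ne_bot_iff_exists_ne_one.1 hEb).elim fun z hz =>
    (⟨z, z.2, fun e => hz (Subtype.ext e)⟩ : ∃ z, z ∈ E ∧ z ≠ 1)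
  obtain ⟨g, hg⟩ := H89.exists_conj_zEl h2 hz1 (hE z hz)
  set E' := E.map (MulAut.conj g⁻¹).toMonoidHom with hE'
  have hzE' : H89.zEl ∈ E' := ⟨z, hz, by rw [← hg]; simp [mul_assoc]⟩
  have hE'e : Elem E' := elem_map_hom hE _
  rw [← card_map_of_injective (K := E) (f := (MulAut.conj g⁻¹).toMonoidHom) (MulAut.conj g⁻¹).injective, ← hE']
  by_contra hgt
  letI := Fintype.ofFinite E'
  set T := E' ⊓ H89.rotSub
  have hT : Nat.card T ≤ 2 := by
    letI := Fintype.ofFinite T
    rw [Nat.card_eq_fintype_card]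
    by_contra h3
    rw [not_le, Fintype.two_lt_card_iff] at h3
    obtain ⟨a, b, c, hab, hac, hbc⟩ := h3
    have key : ∀ x : T, (x : Matrix.ProjectiveSpecialLinearGroup (Fin 2) F) = 1 ∨
        (x : Matrix.ProjectiveSpecialLinearGroup (Fin 2) F) = H89.zEl :=
      fun x => H89.rotSub_involution h2 x.2.2 (hE'e _ x.2.1)
    rcases key a with h1 | h1 <;> rcases key b with h3 | h3 <;> rcases key c with h5 | h5 <;>
      first
        | exact hab (Subtype.ext (h1.trans h3.symm))
        | exact hac (Subtype.ext (h1.trans h5.symm))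
        | exact hbc (Subtype.ext (h3.trans h5.symm))
  have hcen : ∀ x ∈ E', x ∈ centralizer ({H89.zEl} : Set _) := fun x hx =>
    mem_centralizer_singleton_iff.2 (hE'e.comm hx hzE')
  by_cases hall : ∀ x ∈ E', x ∈ H89.rotSub (F := F)
  · exact hgt ((Subgroup.card_le_of_le (show E' ≤ T from le_inf le_rfl hall)).trans
      (hT.trans (by norm_num)))
  push Not at hall
  obtain ⟨a, ha, haT⟩ := hall
  refine hgt (le_trans ?_ (Nat.mul_le_mul_left 2 hT))
  rw [two_mul, ← Nat.card_sum]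
  refine Nat.card_le_card_of_injective (fun b : E' =>
    if hb : (b : Matrix.ProjectiveSpecialLinearGroup (Fin 2) F) ∈ H89.rotSub then
      Sum.inl (⟨b, b.2, hb⟩ : T)
    else Sum.inr ⟨a * b, mul_mem ha b.2, H89.outer_mul h2 (hcen a ha) haT (hcen b b.2) hb⟩) ?_
  intro x y e
  by_cases hx : (x : Matrix.ProjectiveSpecialLinearGroup (Fin 2) F) ∈ H89.rotSub <;>
    by_cases hy : (y : Matrix.ProjectiveSpecialLinearGroup (Fin 2) F) ∈ H89.rotSub <;>
    simp [hx, hy] at e
  · exact Subtype.ext (congrArg Subtype.val e :)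
  · exact Subtype.ext (mul_left_cancel (congrArg Subtype.val e :))

theorem card_elem_sz {F : Type*} [Field F] [Fintype F] {m : ℕ} (hm : 1 ≤ m)
    (hF : Fintype.card F = 2 ^ (2 * m + 1)) (E : Subgroup (Cfsg.Sz F m)) (hE : Elem E) :
    Nat.card E ≤ 2 ^ (2 * m + 1) := by
  classical
  by_cases hEb : E = ⊥
  · rw [hEb, Subgroup.card_bot]; exact Nat.one_le_two_pow
  obtain ⟨z, hz, hz1⟩ := (Subgroup.ne_bot_iff_exists_ne_one.1 hEb).elim fun z hz =>
    (⟨z, z.2, fun e => hz (Subtype.ext e)⟩ : ∃ z, z ∈ E ∧ z ≠ 1)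
  obtain ⟨s, hs⟩ := isConj_iff.1 (H57.inv_isConj hm hF (orderOf_two (hE z hz) hz1))
  set E' := E.map (MulAut.conj s⁻¹).toMonoidHom with hE'
  have hzE' : H57.tEl hF 0 1 ∈ E' := ⟨z, hz, by rw [← hs]; simp [mul_assoc]⟩
  have hE'e : Elem E' := elem_map_hom hE _
  rw [← card_map_of_injective (K := E) (f := (MulAut.conj s⁻¹).toMonoidHom) (MulAut.conj s⁻¹).injective, ← hE',
    ← hF, ← Nat.card_eq_fintype_card]
  have hform : ∀ x ∈ E', ∃ c, x = H57.tEl hF 0 c := by
    intro x hx
    have hxc : x ∈ centralizer ({H57.tEl hF 0 1} : Set _) :=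
      mem_centralizer_singleton_iff.2 (hE'e.comm hx hzE')
    rw [H57.centralizer_tEl_zero hm hF one_ne_zero] at hxc
    obtain ⟨a, b, rfl⟩ := hxc
    have h2 : H57.tEl hF 0 (H57.th m a * a) = H57.tEl hF 0 0 := by
      rw [← H57.tEl_sq, sq, hE'e _ hx, H57.tEl_zero]
    have h3 := (H57.tEl_inj hF h2).2
    rcases mul_eq_zero.1 h3 with h4 | h4
    · refine ⟨b, ?_⟩
      rw [H57.th_eq_zero.1 h4]
    · exact ⟨b, by rw [h4]⟩
  choose c hc using fun x : E' => hform x x.2
  exact Nat.card_le_card_of_injective c fun x y e => Subtype.ext (by rw [hc x, hc y, e])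

/-- Two independent commuting elements of order three. -/
def HasNineGroup (A : Type*) [Group A] : Prop :=
  ∃ x y : A, orderOf x = 3 ∧ orderOf y = 3 ∧ x * y = y * x ∧ y ∉ zpowers x

theorem nineGroup_psl34 {F : Type*} [Field F] [Fintype F] (hF : Fintype.card F = 4) :
    HasNineGroup (Matrix.ProjectiveSpecialLinearGroup (Fin 3) F) := by
  classical
  haveI : Fact (Nat.Prime 3) := ⟨Nat.prime_three⟩
  haveI := H37.charP_two_of_card_four hF
  obtain ⟨ω, hω1, hω0⟩ : ∃ ω : F, ω ≠ 1 ∧ ω ≠ 0 := by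
    by_contra hcon
    push Not at hcon
    have h3 : 2 < Fintype.card F := by omega
    obtain ⟨a, b, c, hab, hac, hbc⟩ := Fintype.two_lt_card_iff.1 h3
    have key : ∀ x : F, x = 1 ∨ x = 0 := fun x => or_iff_not_imp_left.2 (hcon x)
    rcases key a with h1 | h1 <;> rcases key b with h2 | h2 <;> rcases key c with h4 | h4 <;>
      simp_all
  have hω3 : ω * ω * ω = 1 := by
    have := FiniteField.pow_card_sub_one_eq_one ω hω0
    rw [hF, show 4 - 1 = 3 from rfl, pow_succ, pow_two] at this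
    exact this
  let X : Matrix.SpecialLinearGroup (Fin 3) F :=
    ⟨!![1, 0, 0; 0, ω, 0; 0, 0, ω * ω], by simp [Matrix.det_fin_three]; rw [← mul_assoc]; exact hω3⟩
  let Y : Matrix.SpecialLinearGroup (Fin 3) F :=
    ⟨!![0, 0, 1; 1, 0, 0; 0, 1, 0], by simp [Matrix.det_fin_three]⟩
  have hX3 : X * X * X = 1 := by
    apply Subtype.ext
    show (X.1 * X.1 * X.1 : Matrix (Fin 3) (Fin 3) F) = 1
    ext i j
    fin_cases i <;> fin_cases j <;> simp [X, Matrix.mul_apply, Fin.sum_univ_three] <;>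
      first
        | exact hω3
        | linear_combination hω3 * (ω * ω * ω + 1)
  have hY3 : Y * Y * Y = 1 := by
    apply Subtype.ext
    show (Y.1 * Y.1 * Y.1 : Matrix (Fin 3) (Fin 3) F) = 1
    ext i j
    fin_cases i <;> fin_cases j <;> simp [Y, Matrix.mul_apply, Fin.sum_univ_three]
  have hcen : ∀ g : Matrix.SpecialLinearGroup (Fin 3) F,
      g ∈ center (Matrix.SpecialLinearGroup (Fin 3) F) → g 1 0 = 0 ∧ g 0 0 = g 1 1 := by
    intro g hg
    obtain ⟨r, -, hr⟩ := Matrix.SpecialLinearGroup.mem_center_iff.1 hg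
    constructor <;> rw [← hr] <;> simp [Matrix.scalar_apply]
  have hXc : X ∉ center _ := fun h => hω1 (by simpa [X] using (hcen X h).2.symm)
  have ho : ∀ g : Matrix.SpecialLinearGroup (Fin 3) F, g * g * g = 1 → g ∉ center _ →
      orderOf (QuotientGroup.mk g : Matrix.ProjectiveSpecialLinearGroup (Fin 3) F) = 3 := by
    intro g hg hgc
    refine orderOf_eq_prime ?_ fun e => hgc ((QuotientGroup.eq_one_iff g).1 e)
    rw [← QuotientGroup.mk_pow, pow_succ, pow_two, hg, QuotientGroup.mk_one]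
  refine ⟨QuotientGroup.mk X, QuotientGroup.mk Y, ho X hX3 hXc,
    ho Y hY3 fun h => by simpa [Y] using (hcen Y h).1, ?_, ?_⟩
  · rw [← QuotientGroup.mk_mul, ← QuotientGroup.mk_mul, QuotientGroup.eq,
      Matrix.SpecialLinearGroup.mem_center_iff]
    refine ⟨ω * ω, by simp only [Fintype.card_fin]; linear_combination (ω * ω * ω + 1) * hω3, ?_⟩
    have hXY : (((X * Y)⁻¹ * (Y * X) : Matrix.SpecialLinearGroup (Fin 3) F) : Matrix (Fin 3) (Fin 3) F) =
        Matrix.scalar (Fin 3) (ω * ω) := by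
      have e : (Y * X : Matrix.SpecialLinearGroup (Fin 3) F).1 =
          (X * Y).1 * Matrix.scalar (Fin 3) (ω * ω) := by
        show (Y.1 * X.1 : Matrix (Fin 3) (Fin 3) F) = X.1 * Y.1 * Matrix.scalar (Fin 3) (ω * ω)
        ext i j
        fin_cases i <;> fin_cases j <;> simp [X, Y, Matrix.mul_apply, Fin.sum_univ_three] <;>
          first
            | exact hω3.symm
            | linear_combination (-ω) * hω3
            | linear_combination hω3
            | linear_combination ω * hω3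
            | linear_combination (-1 : F) * hω3
            | linear_combination (-(1 + ω)) * hω3
      rw [Matrix.SpecialLinearGroup.coe_mul, e, ← mul_assoc, ← Matrix.SpecialLinearGroup.coe_mul,
        inv_mul_cancel, Matrix.SpecialLinearGroup.coe_one, one_mul]
    exact hXY.symm
  · intro hmem
    obtain ⟨k, hk⟩ := hmem
    let N : Subgroup (Matrix.SpecialLinearGroup (Fin 3) F) :=
      { carrier := {g | g 1 0 = 0 ∧ g 1 2 = 0 ∧ g 0 1 = 0 ∧ g 0 2 = 0 ∧ g 2 0 = 0 ∧ g 2 1 = 0}
        one_mem' := by simp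
        mul_mem' := fun {a b} ha hb => by
          obtain ⟨a1, a2, a3, a4, a5, a6⟩ := ha
          obtain ⟨b1, b2, b3, b4, b5, b6⟩ := hb
          simp [Matrix.mul_apply, Fin.sum_univ_three, a1, a2, a3, a4, a5, a6, b1, b2, b3, b4, b5, b6]
        inv_mem' := fun {a} ha => by
          obtain ⟨a1, a2, a3, a4, a5, a6⟩ := ha
          simp [Matrix.SpecialLinearGroup.coe_inv, Matrix.adjugate_fin_three, a1, a2, a3, a4, a5, a6] }
    have hXN : X ∈ N := by refine ⟨?_, ?_, ?_, ?_, ?_, ?_⟩ <;> simp [X]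
    have h1 : (X ^ k)⁻¹ * Y ∈ center _ := QuotientGroup.eq.1 hk
    have h2 : (X ^ k)⁻¹ * Y ∈ N := by
      obtain ⟨r, -, hr⟩ := Matrix.SpecialLinearGroup.mem_center_iff.1 h1
      refine ⟨?_, ?_, ?_, ?_, ?_, ?_⟩ <;> rw [← hr] <;> simp [Matrix.scalar_apply]
    have h3 : Y ∈ N := by
      have := mul_mem (zpow_mem hXN k) h2
      rwa [mul_inv_cancel_left] at this
    exact one_ne_zero (show (1 : F) = 0 by simpa [N, Y] using h3.1)

end H11.CIT
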