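import Cfsg.Agent.H11.CIT.Semi

/-!
The natural module: coordinates for a 2-local subgroup of 2-rank above one modulo its 2-core.
-/

set_option autoImplicit false
set_option linter.style.haveILetI false
set_option linter.unusedSectionVars false

open scoped MatrixGroups

namespace H11.CIT

open Subgroup

universe u

theorem upper2_eq_uT {F : Type*} [Field F] (x : F) : H37.upper2 x = H74.SL2.uT x := rfl

theorem hh_mem_normalizer {F : Type*} [Field F] [Finite F] (t : Fˣ) :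
    H78.Nat2.hh t ∈ normalizer (H74.SL2.upper F : Set SL(2, F)) :=
  H74.SL2.mem_normalizer_upper.2 (by simp [H78.Nat2.coe_hh])

section Odd

variable {X : Type u} [Group X] [Finite X]

/-- For `q ≥ 8` the index of a normal `SL₂(q)` is odd. -/
theorem card_two_le_q (hX : IsCIT X) {F : Type} [Field F] [Fintype F] {n : ℕ} (hn : 3 ≤ n)
    (hF : Fintype.card F = 2 ^ n) (N : Subgroup X) [N.Normal] (e : N ≃* SL(2, F))
    {P : Subgroup X} (hP : IsPGroup 2 P) : Nat.card P ≤ 2 ^ n := by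
  classical
  haveI : Fact (Nat.Prime 2) := ⟨Nat.prime_two⟩
  haveI : CharP F 2 := charP_of_card_eq_prime_pow hF
  set q := 2 ^ n with hq
  have hq8 : 8 ≤ q := (show 8 = 2 ^ 3 by norm_num).le.trans (Nat.pow_le_pow_right (by norm_num) hn)
  set f : SL(2, F) →* X := N.subtype.comp e.symm.toMonoidHom with hf
  have hfi : Function.Injective f := N.subtype_injective.comp e.symm.injective
  have hfN : ∀ g, f g ∈ N := fun g => (e.symm g).2
  have hsurj : ∀ x ∈ N, ∃ g, f g = x := fun x hx => ⟨e ⟨x, hx⟩, by simp [hf]⟩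
  have hNc : Nat.card N = q * (q ^ 2 - 1) :=
    (Nat.card_congr e.toEquiv).trans (card_SL2_char2 (by omega) hF)
  have hqodd : Odd (q ^ 2 - 1) := by
    have h2 : 2 ∣ q ^ 2 := dvd_pow (dvd_pow_self 2 (by omega)) two_ne_zero
    have : 4 ≤ q ^ 2 := by nlinarith
    exact ⟨q ^ 2 / 2 - 1, by omega⟩
  set U := (H74.SL2.upper F).map f with hU
  have hUc : Nat.card U = q := by
    rw [hU, card_map_of_injective hfi, H74.SL2.card_upper, Nat.card_eq_fintype_card, hF]
  have hU2 : IsPGroup 2 U := IsPGroup.of_card hUc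
  obtain ⟨S, hUS⟩ := hU2.exists_le_sylow
  obtain ⟨S', hPS⟩ := hP.exists_le_sylow
  refine (Subgroup.card_le_of_le hPS).trans ?_
  rw [Nat.card_congr (S'.equiv S).toEquiv]
  by_contra hgt
  have hSN : ∀ x ∈ (S : Subgroup X), x ∈ N → x ∈ U := by
    intro x hxS hxN
    have h1 : U = (S : Subgroup X) ⊓ N := eq_of_le_of_card_ge
      (le_inf hUS (by rintro _ ⟨g, -, rfl⟩; exact hfN g)) (by
        rw [hUc]
        obtain ⟨j, hj⟩ := IsPGroup.iff_card.1 (S.isPGroup'.to_le (inf_le_left :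
          (S : Subgroup X) ⊓ N ≤ S))
        have h2 : Nat.card ((S : Subgroup X) ⊓ N : Subgroup X) ∣ q * (q ^ 2 - 1) :=
          hNc ▸ Subgroup.card_dvd_of_le inf_le_right
        rw [hj] at h2 ⊢
        exact Nat.le_of_dvd (by positivity)
          ((Nat.Coprime.pow_left _ (Nat.coprime_two_left.2 hqodd)).dvd_of_dvd_mul_right h2))
    rw [h1]
    exact ⟨hxS, hxN⟩
  obtain ⟨y, hyS, hyU, hyn⟩ := exists_mem_normalizer S.isPGroup' hUS (fun e => hgt (by
    rw [← e, hUc]))
  -- an element whose square lies in `U`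
  obtain ⟨k, hk⟩ := orderOf_eq_two_pow S.isPGroup' hyS
  have hex : ∃ i, y ^ 2 ^ i ∈ U := ⟨k, by rw [← hk, pow_orderOf_eq_one]; exact one_mem _⟩
  obtain ⟨i, hi⟩ := Nat.exists_eq_succ_of_ne_zero (n := Nat.find hex)
    fun h0 => hyU (by simpa [h0] using Nat.find_spec hex)
  set v := y ^ 2 ^ i with hv
  have hvS : v ∈ (S : Subgroup X) := pow_mem hyS _
  have hvn : v ∈ normalizer (U : Set X) := pow_mem hyn _
  have hvU : v ∉ U := Nat.find_min hex (by omega)
  have hvv : v * v ∈ U := by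
    rw [hv, ← pow_add, ← two_mul, ← pow_succ', show i + 1 = Nat.find hex by omega]
    exact Nat.find_spec hex
  have hvN : v ∉ N := fun h => hvU (hSN v hvS h)
  -- the torus
  obtain ⟨t, ht⟩ := IsCyclic.exists_ofOrder_eq_natCard (α := Fˣ)
  rw [Nat.card_units, Nat.card_eq_fintype_card, hF] at ht
  let hhom : Fˣ →* SL(2, F) := MonoidHom.mk' H78.Nat2.hh H78.Nat2.hh_mul
  have hhi : Function.Injective hhom := fun a c hab => Units.ext (by
    simpa [hhom, H78.Nat2.coe_hh] using congrArg (fun g : SL(2, F) => g 0 0) hab)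
  obtain ⟨g, hg⟩ := hsurj (v * f (H78.Nat2.hh t) * v⁻¹)
    ((inferInstance : N.Normal).conj_mem _ (hfN _) v)
  have hgn : g ∈ normalizer (H74.SL2.upper F : Set SL(2, F)) := by
    have h1 : f g ∈ normalizer (U : Set X) := by
      rw [hg]
      exact mul_mem (mul_mem hvn (le_normalizer_map f (mem_map_of_mem _ (hh_mem_normalizer t))))
        (inv_mem hvn)
    rw [mem_normalizer_iff] at h1 ⊢
    intro x
    have h2 := h1 (f x)
    rwa [← map_inv, ← map_mul, ← map_mul, hU, mem_map_iff_mem hfi, mem_map_iff_mem hfi] at h2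
  have hgo : orderOf g = q - 1 := by
    rw [← orderOf_injective f hfi g, hg, show v * f (H78.Nat2.hh t) * v⁻¹ =
      MulAut.conj v (f (H78.Nat2.hh t)) from rfl, MulEquiv.orderOf_eq, orderOf_injective f hfi,
      show H78.Nat2.hh t = hhom t from rfl, orderOf_injective hhom hhi, ht]
  have h10 : g 1 0 = 0 := H74.SL2.mem_normalizer_upper.1 hgn
  have hdet : g 0 0 * g 1 1 = 1 := by
    have := g.2
    rw [Matrix.det_fin_two, h10, mul_zero, sub_zero] at this
    exact this
  have had : g 0 0 - g 1 1 ≠ 0 := fun e0 => by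
    have ha : g 0 0 = 1 := by
      rw [← sub_eq_zero.1 e0] at hdet
      have h' : (g 0 0 + 1) * (g 0 0 + 1) = 0 := by
        linear_combination hdet + (g 0 0 + 1) * (CharTwo.two_eq_zero (R := F))
      rw [eq_neg_of_add_eq_zero_left (mul_self_eq_zero.1 h'), CharTwo.neg_eq]
    have hmem : g ∈ H74.SL2.upper F :=
      H74.SL2.mem_upper_iff.2 ⟨ha, h10, by rwa [ha, one_mul] at hdet⟩
    have h2 : orderOf g ∣ q := by
      have := Subgroup.orderOf_dvd_natCard (H74.SL2.upper F) hmem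
      rwa [H74.SL2.card_upper, Nat.card_eq_fintype_card, hF] at this
    rw [hgo] at h2
    have h3 := Nat.dvd_sub h2 (dvd_refl (q - 1))
    rw [show q - (q - 1) = 1 by omega] at h3
    have := Nat.le_of_dvd one_pos h3
    omega
  set z : F := g 0 1 / (g 0 0 - g 1 1) with hz
  let a : Fˣ := Units.mk0 (g 0 0) (left_ne_zero_of_mul_eq_one hdet)
  have hconj : H37.upper2 z * g * (H37.upper2 z)⁻¹ = H78.Nat2.hh a := by
    rw [mul_inv_eq_iff_eq_mul]
    apply Subtype.ext
    ext r s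
    have h11 : g 1 1 = (g 0 0)⁻¹ := eq_inv_of_mul_eq_one_right hdet
    have hzz : z * (g 0 0 - g 1 1) = g 0 1 := div_mul_cancel₀ _ had
    fin_cases r <;> fin_cases s <;>
      simp [Matrix.SpecialLinearGroup.coe_mul, H78.Nat2.coe_hh, H37.coe_upper2, Matrix.mul_apply,
        Fin.sum_univ_two, a, h10, Units.val_inv_eq_inv_val, h11]
    all_goals grind
  set c := f (H37.upper2 z) * v with hc
  have hcU : ∀ s : F, f (H37.upper2 s) ∈ U := fun s =>
    ⟨_, upper2_eq_uT s ▸ H74.SL2.mem_upper.2 ⟨s, rfl⟩, rfl⟩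
  have hcn : c ∈ normalizer (U : Set X) := mul_mem (le_normalizer (hcU z)) hvn
  have hct : c * f (H78.Nat2.hh t) * c⁻¹ = f (H78.Nat2.hh a) := by
    rw [← hconj, map_mul, map_mul, map_inv, hg, hc]
    group
  set T := (hhom.range).map f with hT
  have hTm : ∀ s : Fˣ, f (H78.Nat2.hh s) ∈ T := fun s => ⟨_, ⟨s, rfl⟩, rfl⟩
  have hTz : T = zpowers (f (H78.Nat2.hh t)) := (eq_of_le_of_card_ge (zpowers_le.2 (hTm t)) (by
    rw [Nat.card_zpowers, orderOf_injective f hfi, show H78.Nat2.hh t = hhom t from rfl,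
      orderOf_injective hhom hhi, ht, hT, card_map_of_injective hfi,
      ← Nat.card_congr (hhom.ofInjective hhi).toEquiv, Nat.card_units, Nat.card_eq_fintype_card, hF])).symm
  have hcT : ∀ x ∈ T, c * x * c⁻¹ ∈ T := by
    intro x hx
    rw [hTz] at hx
    obtain ⟨j, rfl⟩ := hx
    show c * f (H78.Nat2.hh t) ^ j * c⁻¹ ∈ T
    rw [← conj_zpow, hct]
    exact zpow_mem (hTm a) j
  have hcc : c * c = 1 := by
    have h1 : c * c ∈ U := by
      rw [hc, show f (H37.upper2 z) * v * (f (H37.upper2 z) * v) =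
        f (H37.upper2 z) * (v * f (H37.upper2 z) * v⁻¹) * (v * v) by group]
      exact mul_mem (mul_mem (hcU z) ((mem_normalizer_iff.1 hvn _).1 (hcU z))) hvv
    obtain ⟨u, hu, hue⟩ := h1
    obtain ⟨s, rfl⟩ := H74.SL2.mem_upper.1 hu
    have h2 := hcT _ (hcT _ (hTm t))
    rw [show c * (c * f (H78.Nat2.hh t) * c⁻¹) * c⁻¹ = (c * c) * f (H78.Nat2.hh t) * (c * c)⁻¹ by group,
      ← hue, ← map_inv, ← map_mul, ← map_mul, hT, mem_map_iff_mem hfi] at h2
    obtain ⟨r, hr⟩ := h2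
    have h3 : hhom r * H74.SL2.uT s = H74.SL2.uT s * H78.Nat2.hh t := by
      rw [hr, inv_mul_cancel_right]
    have ht1 : t ≠ 1 := fun e1 => by rw [e1, orderOf_one] at ht; omega
    have e00 := congrArg (fun g : SL(2, F) => g 0 0) h3
    have e01 := congrArg (fun g : SL(2, F) => g 0 1) h3
    simp [hhom, Matrix.SpecialLinearGroup.coe_mul, H78.Nat2.coe_hh, H74.SL2.coe_uT, Matrix.mul_apply,
      Fin.sum_univ_two] at e00 e01
    rw [← hue]
    by_cases hs : s = 0
    · rw [hs, show H74.SL2.uT (0 : F) = H37.upper2 0 from rfl, H78.Nat2.up_zero, map_one]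
    · exfalso
      rw [e00] at e01
      have h4 : (t : F) * t = 1 := by
        field_simp at e01
        linear_combination e01
      apply ht1
      have h5 : ((t : F) + 1) * ((t : F) + 1) = 0 := by
        linear_combination h4 + ((t : F) + 1) * (CharTwo.two_eq_zero (R := F))
      exact Units.ext (by rw [eq_neg_of_add_eq_zero_left (mul_self_eq_zero.1 h5), CharTwo.neg_eq,
        Units.val_one])
  have hc1 : c ≠ 1 := fun e1 => hvN (by
    rw [show v = (f (H37.upper2 z))⁻¹ * c by rw [hc, inv_mul_cancel_left], e1, mul_one]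
    exact inv_mem (hfN _))
  have hinv : ∀ s : Fˣ, c * f (H78.Nat2.hh s) * c⁻¹ = f (H78.Nat2.hh s⁻¹) := by
    intro s
    have h1 : c * f (H78.Nat2.hh s) * c⁻¹ = (f (H78.Nat2.hh s))⁻¹ := by
      refine H93.conj_eq_inv_of_fixedPointFree hcc ?_ (fun x hx hcx => ?_) (hTm s)
      · rw [mem_normalizer_iff]
        intro x
        refine ⟨hcT x, fun hx => ?_⟩
        have := hcT _ hx
        rwa [show c * (c * x * c⁻¹) * c⁻¹ = (c * c) * x * (c * c)⁻¹ by group, hcc, inv_one, mul_one,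
          one_mul] at this
      · by_contra hx1
        refine hc1 (hX.fpf (w := x) (k := 1) ?_ hx1 (by rw [pow_one]; exact orderOf_two hcc hc1) hcx.symm)
        refine Odd.of_dvd_nat (n := q - 1) ⟨q / 2 - 1, ?_⟩ ?_
        · have : 2 ∣ q := dvd_pow_self 2 (by omega)
          omega
        · rw [hTz] at hx
          obtain ⟨j, rfl⟩ := hx
          refine (orderOf_dvd_iff_pow_eq_one.2 ?_)
          rw [← zpow_natCast, ← zpow_mul, mul_comm, zpow_mul, zpow_natCast, ← map_pow,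
            show H78.Nat2.hh t = hhom t from rfl, ← map_pow, ← ht, pow_orderOf_eq_one, map_one,
            map_one, one_zpow]
    rw [h1, ← map_inv]
    congr 1
    exact (map_inv hhom s).symm
  -- the twist
  have hex' : ∀ x : F, ∃ w : F, f (H37.upper2 w) = c * f (H37.upper2 x) * c⁻¹ := by
    intro x
    obtain ⟨u, hu, hue⟩ := (mem_normalizer_iff.1 hcn _).1 (hcU x)
    obtain ⟨w, rfl⟩ := H74.SL2.mem_upper.1 hu
    exact ⟨w, hue⟩
  choose θ hθ using hex'
  have hupi : ∀ x w : F, H37.upper2 x = H37.upper2 w → x = w := fun x w h => by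
    simpa [H37.coe_upper2] using congrArg (fun g : SL(2, F) => g 0 1) h
  have hadd : ∀ x w, θ (x + w) = θ x + θ w := by
    intro x w
    refine hupi _ _ (hfi ?_)
    rw [hθ, ← H78.Nat2.up_mul, ← H78.Nat2.up_mul, map_mul, map_mul, hθ, hθ]
    group
  have h4 := Semi.card_le_four_of_twist θ hadd ?_ ?_
  · rw [hF] at h4; omega
  · intro h0
    have h := hθ 1
    rw [h0, H78.Nat2.up_zero, map_one, eq_comm, conj_eq_one_iff, ← map_one f] at h
    have := hupi 1 0 (by rw [H78.Nat2.up_zero]; exact hfi h)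
    exact one_ne_zero this
  · intro s x
    refine hupi _ _ (hfi ?_)
    rw [hθ]
    have e1 : H37.upper2 ((s : F) ^ 2 * x) = H78.Nat2.hh s * H37.upper2 x * (H78.Nat2.hh s)⁻¹ := by
      rw [eq_mul_inv_iff_mul_eq, H78.Nat2.hh_up]
      congr 2
      field_simp
    have e2 : H37.upper2 (((s : F) ^ 2)⁻¹ * θ x) =
        H78.Nat2.hh s⁻¹ * H37.upper2 (θ x) * (H78.Nat2.hh s⁻¹)⁻¹ := by
      rw [eq_mul_inv_iff_mul_eq, H78.Nat2.hh_up]
      congr 2
      rw [Units.val_inv_eq_inv_val]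
      field_simp
    rw [e1, e2, map_mul, map_mul, map_mul, map_mul, map_inv, map_inv, hθ, ← hinv]
    group

end Odd

section Coordinates

variable {G : Type u} [Group G] [Finite G]

/-- The classification for the smaller simple groups. -/
def Below (G : Type u) [Group G] : Prop :=
  ∀ (H : Type u) [Group H] [Finite H] [IsSimpleGroup H], ¬ IsMulCommutative H → IsCIT H →
    Nat.card H < Nat.card G → CITList H

/-- Natural coordinates on the central involutions of the 2-core. -/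
structure Coord (M A : Subgroup G) {F : Type} [Field F] [Fintype F] (n : ℕ)
    (Ψ : (Fin 2 → F) → G) (lft : SL(2, F) → G) : Prop where
  two_le : 2 ≤ n
  cardF : Fintype.card F = 2 ^ n
  mem : ∀ v, Ψ v ∈ omegaZ (core2 M)
  map_add : ∀ v w, Ψ (v + w) = Ψ v * Ψ w
  inj : Function.Injective Ψ
  surj : ∀ x ∈ omegaZ (core2 M), ∃ v, Ψ v = x
  lft_mem : ∀ g, lft g ∈ M
  act : ∀ (g : SL(2, F)) (v : Fin 2 → F),
    lft g * Ψ v * (lft g)⁻¹ = Ψ ((g : Matrix (Fin 2) (Fin 2) F).mulVec v)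
  faithful : ∀ m ∈ M, (∀ v, m * Ψ v * m⁻¹ = Ψ v) → m ∈ core2 M
  upA : ∀ a ∈ A, ∃ x : F, ∀ v,
    a * Ψ v * a⁻¹ = Ψ ((H37.upper2 x : Matrix (Fin 2) (Fin 2) F).mulVec v)
  upSurj : ∀ x : F, ∃ a ∈ A, ∀ v,
    a * Ψ v * a⁻¹ = Ψ ((H37.upper2 x : Matrix (Fin 2) (Fin 2) F).mulVec v)
  two_part : ∀ P : Subgroup G, P ≤ M → IsPGroup 2 P → Nat.card P ≤ Nat.card (core2 M) * 2 ^ n
  top : n = 2 → ∀ m ∈ M, ∃ g : SL(2, F), ∀ v,
    m * Ψ v * m⁻¹ = Ψ ((g : Matrix (Fin 2) (Fin 2) F).mulVec v)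

theorem normalizer_le_omegaZ (M : Subgroup G) : M ≤ normalizer (omegaZ (core2 M) : Set G) := by
  have key : ∀ g ∈ M, ∀ x ∈ omegaZ (core2 M), g * x * g⁻¹ ∈ omegaZ (core2 M) := by
    intro g hg x hx
    refine ⟨(mem_normalizer_iff.1 (le_normalizer_core2 M hg) x).1 hx.1, ?_, fun d hd => ?_⟩
    · rw [show g * x * g⁻¹ * (g * x * g⁻¹) = g * (x * x) * g⁻¹ by group, hx.2.1]; group
    · have hd' : g⁻¹ * d * g ∈ core2 M :=
        (mem_normalizer_iff''.1 (le_normalizer_core2 M hg) d).1 hd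
      calc g * x * g⁻¹ * d = g * (x * (g⁻¹ * d * g)) * g⁻¹ := by group
        _ = g * ((g⁻¹ * d * g) * x) * g⁻¹ := by rw [hx.2.2 _ hd']
        _ = d * (g * x * g⁻¹) := by group
  intro g hg
  rw [mem_normalizer_iff]
  intro x
  refine ⟨key g hg x, fun hx => ?_⟩
  have := key g⁻¹ (inv_mem hg) _ hx
  rwa [inv_inv, show g⁻¹ * (g * x * g⁻¹) * g = x by group] at this

theorem omegaZ_ne_bot {M : Subgroup G} (hM : IsTwoLocal M) : omegaZ (core2 M) ≠ ⊥ := by
  obtain ⟨P, hP1, hP2, rfl⟩ := hM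
  set D := core2 (normalizer (P : Set G))
  have hD2 : IsPGroup 2 D := isPGroup_core2 _
  have hPD : P ≤ D := le_core2 le_normalizer le_rfl hP2
  have hDb : D ≠ ⊥ := fun e => hP1 (le_bot_iff.1 (e ▸ hPD))
  haveI : Fact (Nat.Prime 2) := ⟨Nat.prime_two⟩
  haveI : Nontrivial D := (nontrivial_iff_ne_bot D).2 hDb
  haveI := hD2.center_nontrivial
  obtain ⟨z, hzc, hz⟩ := exists_invol (P := (center D).map D.subtype)
    ((hD2.to_subgroup _).map _) (by
      rw [Ne, map_eq_bot_iff_of_injective _ D.subtype_injective]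
      exact (nontrivial_iff_ne_bot _).1 inferInstance)
  obtain ⟨z', hz', rfl⟩ := hzc
  intro e
  have : (z' : G) ∈ omegaZ D := ⟨z'.2, sq_eq_one hz, fun d hd =>
    (congrArg Subtype.val (mem_center_iff.1 hz' ⟨d, hd⟩)).symm⟩
  rw [e, mem_bot] at this
  exact H65.ne_one_of_two hz this

theorem IsTwoLocal.ne_top [IsSimpleGroup G] (hnc : ¬ IsMulCommutative G) {M : Subgroup G}
    (hM : IsTwoLocal M) : M ≠ ⊤ := by
  obtain ⟨P, hP1, hP2, rfl⟩ := hM
  intro e
  rcases (normalizer_eq_top_iff.1 e).eq_bot_or_eq_top with h | h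
  · exact hP1 h
  · haveI : Fact (Nat.Prime 2) := ⟨Nat.prime_two⟩
    exact H62.not_isPGroup_of_simple hnc 2
      (hP2.of_equiv ((MulEquiv.subgroupCongr h).trans Subgroup.topEquiv))

set_option maxHeartbeats 1000000 in
/-- Coordinates for a 2-local subgroup whose Thompson subgroup is not in its core. -/
theorem exists_coord (hG : IsCIT G) [IsSimpleGroup G] (hnc : ¬ IsMulCommutative G) (ih : Below G)
    {M R A : Subgroup G} (hM : IsTwoLocal M) (hR : IsSyl R M) (hA : MaxE R A) (hAD : ¬ A ≤ core2 M)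
    (hbad : ∃ A₀ : Subgroup G, A₀ ≤ M ∧ Elem A₀ ∧
      2 * Nat.card (A₀ ⊓ core2 M : Subgroup G) < Nat.card A₀) :
    ∃ (F : Type) (_ : Field F) (_ : Fintype F) (n : ℕ) (Ψ : (Fin 2 → F) → G) (lft : SL(2, F) → G),
      Coord M A n Ψ lft := by
  classical
  haveI : Fact (Nat.Prime 2) := ⟨Nat.prime_two⟩
  set D := core2 M with hD
  set V := omegaZ D with hV
  have hD2 := isPGroup_core2 M
  have hVD : V ≤ D := fun x hx => hx.1
  have hVe : Elem V := fun x hx => hx.2.1
  have hMV := normalizer_le_omegaZ M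
  set Dm := Cfsg.pCore 2 M with hDm
  haveI := H1.pCore_characteristic 2 M
  haveI : Dm.Normal := inferInstance
  have hDm2 : IsPGroup 2 Dm := H1.isPGroup_pCore 2 M
  let π := QuotientGroup.mk' Dm
  have hπ : ∀ m : M, π m = 1 ↔ (m : G) ∈ D := fun m =>
    (QuotientGroup.eq_one_iff m).trans (mem_core2_iff m.2).symm
  have hX : IsCIT (M ⧸ Dm) := (hG.subgroup M).quotient Dm hDm2
  have hX2 : NoNormalTwo (M ⧸ Dm) := by
    intro K hK hK2
    refine le_bot_iff.1 fun v hv => ?_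
    obtain ⟨x, rfl⟩ := QuotientGroup.mk'_surjective Dm v
    have h1 : IsPGroup 2 (K.comap π) := hK2.comap_of_ker_isPGroup _ (by rw [QuotientGroup.ker_mk']; exact hDm2)
    haveI := hK
    exact mem_bot.2 ((QuotientGroup.eq_one_iff x).2 (H1.le_pCore h1 hv))
  have heven : ∀ K : Subgroup (M ⧸ Dm), K.Normal → K ≠ ⊥ → ∃ t ∈ K, orderOf t = 2 := by
    intro K hK hKne
    by_contra hcon
    push Not at hcon
    have hKodd : ∀ k ∈ K, Odd (orderOf k) := by
      intro k hk
      rw [← Nat.not_even_iff_odd, even_iff_two_dvd]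
      intro h2
      exact hcon _ (pow_mem hk _) (orderOf_pow_orderOf_div (orderOf_pos k).ne' h2)
    obtain ⟨A₀, hA₀M, hA₀, hlt⟩ := hbad
    obtain ⟨a, haA, haD⟩ : ∃ a ∈ A₀, a ∉ D := by
      by_contra hall
      push Not at hall
      rw [inf_eq_left.2 (show A₀ ≤ D from hall)] at hlt
      omega
    obtain ⟨b, hbA, hbD, habD⟩ : ∃ b ∈ A₀, b ∉ D ∧ a * b ∉ D := by
      by_contra hall
      push Not at hall
      exact hlt.not_ge (card_le_two_mul_cit haA hall)
    have hinv : ∀ c : M, (c : G) ∈ A₀ → (c : G) ∉ D → ∀ k ∈ K, π c * k * (π c)⁻¹ = k⁻¹ := by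
      intro c hc hcD k hk
      have hc2 : π c * π c = 1 := by
        rw [← map_mul, show c * c = 1 from Subtype.ext (hA₀ _ hc), map_one]
      refine H93.conj_eq_inv_of_fixedPointFree hc2
        (by rw [normalizer_eq_top]; exact mem_top _) (fun k hk hk' => ?_) hk
      by_contra hk1
      refine hcD ((hπ c).1 (hX.fpf (w := k) (x := π c) (k := 1) (hKodd k hk) hk1 ?_ hk'.symm))
      rw [pow_one]
      exact orderOf_two hc2 fun e => hcD ((hπ c).1 e)
    obtain ⟨k, hk⟩ := (Subgroup.ne_bot_iff_exists_ne_one.1 hKne)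
    have e1 := hinv ⟨a, hA₀M haA⟩ haA haD k k.2
    have e2 := hinv ⟨b, hA₀M hbA⟩ hbA hbD k k.2
    have e3 := hinv ⟨a * b, hA₀M (mul_mem haA hbA)⟩ (mul_mem haA hbA) habD k k.2
    rw [show (⟨a * b, hA₀M (mul_mem haA hbA)⟩ : M) = ⟨a, hA₀M haA⟩ * ⟨b, hA₀M hbA⟩ from rfl, map_mul] at e3
    set α := π ⟨a, hA₀M haA⟩
    set β := π ⟨b, hA₀M hbA⟩
    have e4 : (k : M ⧸ Dm) = (k : M ⧸ Dm)⁻¹ := by
      calc (k : M ⧸ Dm) = (α * (k : M ⧸ Dm) * α⁻¹)⁻¹ := by rw [e1, inv_inv]
        _ = α * (β * (k : M ⧸ Dm) * β⁻¹) * α⁻¹ := by rw [e2]; group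
        _ = α * β * k * (α * β)⁻¹ := by group
        _ = _ := e3
    refine hk (Subtype.ext ?_)
    have h5 : (k : M ⧸ Dm) * k = 1 := mul_eq_one_iff_eq_inv.2 e4
    by_contra hk1
    exact hcon k k.2 (orderOf_two h5 hk1)
  -- the module
  letI : CommGroup V := { (inferInstance : Group V) with
    mul_comm := fun x y => Subtype.ext (hVe.comm x.2 y.2) }
  let φ : M →* MulAut V := V.normalizerMonoidHom.comp (Subgroup.inclusion hMV)
  let ρ0 : M →* AddMonoid.End (Additive V) :=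
    { toFun := fun m => MonoidHom.toAdditive (φ m).toMonoidHom
      map_one' := AddMonoidHom.ext fun w => by
        show Additive.ofMul ((φ 1) w.toMul) = w
        rw [map_one]; rfl
      map_mul' := fun a b => AddMonoidHom.ext fun w => by
        show Additive.ofMul ((φ (a * b)) w.toMul) = Additive.ofMul (φ a (φ b w.toMul))
        rw [map_mul]; rfl }
  have hρ0 : ∀ (m : M) (w : Additive V), (((ρ0 m w).toMul : V) : G) = (m : G) * (w.toMul : V) * (m : G)⁻¹ :=
    fun m w => rfl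
  let ρ : M ⧸ Dm →* AddMonoid.End (Additive V) := QuotientGroup.lift Dm ρ0 (fun d hd => by
    refine MonoidHom.mem_ker.2 (AddMonoidHom.ext fun w => Additive.toMul.injective (Subtype.ext ?_))
    show (d : G) * ((w.toMul : V) : G) * (d : G)⁻¹ = ((w.toMul : V) : G)
    exact mul_inv_eq_iff_eq_mul.2 (w.toMul.2.2.2 d ((mem_core2_iff d.2).2 hd)).symm)
  have hρ : ∀ (m : M) (w : Additive V), (((ρ (π m) w).toMul : V) : G) = (m : G) * (w.toMul : V) * (m : G)⁻¹ :=
    fun m w => rfl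
  have hfpf : ∀ x : M ⧸ Dm, Odd (orderOf x) → x ≠ 1 → ∀ w : Additive V, ρ x w = w → w = 0 := by
    intro x hxo hx1 w hw
    obtain ⟨m, rfl⟩ := QuotientGroup.mk'_surjective Dm x
    obtain ⟨k, j, hj, e⟩ := Nat.exists_eq_two_pow_mul_odd (orderOf_pos (m : G)).ne'
    have h1 : orderOf ((m : G) ^ 2 ^ k) = j := by
      rw [orderOf_pow' _ (by positivity), e, Nat.gcd_mul_right_left,
        Nat.mul_div_cancel_left _ (by positivity)]
    have h2 : Commute (m : G) ((w.toMul : V) : G) := by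
      have := hρ m w
      rw [hw] at this
      exact (eq_mul_inv_iff_mul_eq.1 this).symm
    by_contra hw0
    have hwne : ((w.toMul : V) : G) ≠ 1 := fun e' => hw0 (Additive.toMul.injective (Subtype.ext e'))
    refine hwne (hG.fpf' hD2 (w := (m : G) ^ 2 ^ k) (h1.symm ▸ hj) ?_ (hVD (w.toMul).2) (h2.pow_left _).eq)
    intro e'
    have h3 : (π m) ^ 2 ^ k = 1 := by
      rw [← map_pow, show m ^ 2 ^ k = 1 from Subtype.ext e', map_one]
    have h4 := (Nat.coprime_two_left.2 hxo).pow_left k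
    exact hx1 (orderOf_eq_one_iff.1 (Nat.dvd_one.1 (h4.gcd_eq_one ▸
      Nat.dvd_gcd (orderOf_dvd_of_pow_eq_one h3) dvd_rfl)))
  have hVb : V ≠ ⊥ := omegaZ_ne_bot hM
  have hpos : 1 < Nat.card (Additive V) := by
    rw [Nat.card_congr Additive.toMul]
    exact one_lt_card_iff_ne_bot V |>.2 hVb
  set Am := A.subgroupOf M with hAm
  have hAM : A ≤ M := hA.1.trans hR.1
  set B := Am.map π with hB
  have hBe : Elem B := by
    rintro _ ⟨a, ha, rfl⟩
    rw [← map_mul, show a * a = 1 from Subtype.ext (hA.2.1 _ ha), map_one]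
  have hBne : B ≠ ⊥ := fun e => hAD fun a ha => (hπ ⟨a, hAM ha⟩).1 (mem_bot.1 (e ▸ ⟨_, ha, rfl⟩))
  have hcardA : Nat.card A = Nat.card B * Nat.card (A ⊓ D : Subgroup G) := by
    set ψ := π.comp (Subgroup.inclusion hAM) with hψ
    have h1 : Nat.card A = Nat.card ψ.ker * Nat.card ψ.range := by
      rw [← Subgroup.index_ker, Subgroup.card_mul_index]
    have h2 : ψ.range = B := by rw [hψ, MonoidHom.range_comp, inclusion_range]
    have h3 : ψ.ker = (A ⊓ D).subgroupOf A := by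
      ext a
      rw [hψ, MonoidHom.mem_ker, mem_subgroupOf]
      exact (hπ _).trans ⟨fun h => ⟨a.2, h⟩, fun h => h.2⟩
    rw [h1, h2, h3, Nat.card_congr (subgroupOfEquivOfLe inf_le_left).toEquiv, mul_comm]
  have hff : Nat.card (Additive V) ≤ Nat.card B * Nat.card (fixOf ρ B) := by
    set A₀ := A ⊓ D with hA₀
    have hW : Elem (V ⊔ A₀ : Subgroup G) := by
      rw [sup_eq_closure]
      refine elem_closure ?_ ?_
      · rintro x (hx | hx)
        exacts [hVe x hx, hA.2.1 x hx.1]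
      · rintro x (hx | hx) y (hy | hy)
        exacts [hVe.comm hx hy, hx.2.2 y hy.2, (hy.2.2 x hx.2).symm, hA.2.1.comm hx.1 hy.1]
    have h1 := hA.2.2 _ (sup_le (hVD.trans hR.core2_le) (inf_le_left.trans hA.1)) hW
    have h2 := card_eq_mul_relIndex (le_sup_left : V ≤ V ⊔ A₀)
    have h3 := card_eq_mul_relIndex (inf_le_right : V ⊓ A₀ ≤ A₀)
    have h4 : (V ⊓ A₀).relIndex A₀ ≤ V.relIndex (V ⊔ A₀) := by
      rw [inf_relIndex_right]
      exact relIndex_le_of_le_right le_sup_right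
        (by rw [relIndex]; exact FiniteIndex.index_ne_zero)
    have h5 : Nat.card (V ⊓ A₀ : Subgroup G) ≤ Nat.card (fixOf ρ B) := by
      refine Nat.card_le_card_of_injective (fun x : (V ⊓ A₀ : Subgroup G) =>
        (⟨Additive.ofMul (⟨x, x.2.1⟩ : V), ?_⟩ : fixOf ρ B)) ?_
      · rintro _ ⟨a, ha, rfl⟩
        refine Additive.toMul.injective (Subtype.ext ?_)
        rw [hρ]
        exact mul_inv_eq_iff_eq_mul.2 (hA.2.1.comm ha x.2.2.1)
      · intro x y exy
        exact Subtype.ext (congrArg (fun z : fixOf ρ B => (((z : Additive V).toMul : V) : G)) exy :)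
    rw [Nat.card_congr Additive.toMul]
    refine Nat.le_of_mul_le_mul_left ?_ (Nat.card_pos (α := A₀))
    calc Nat.card A₀ * Nat.card V
        = Nat.card (V ⊓ A₀ : Subgroup G) * ((V ⊓ A₀).relIndex A₀ * Nat.card V) := by
          rw [h3, mul_assoc]
      _ ≤ Nat.card (fixOf ρ B) * (V.relIndex (V ⊔ A₀) * Nat.card V) :=
          Nat.mul_le_mul h5 (Nat.mul_le_mul h4 le_rfl)
      _ ≤ Nat.card (fixOf ρ B) * Nat.card A := by
          refine Nat.mul_le_mul le_rfl ?_
          rw [mul_comm, ← h2]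
          exact h1
      _ = _ := by rw [hcardA, hA₀]; ring
  have hhalf : ∀ b : M ⧸ Dm, orderOf b = 2 → Nat.card (fixOf ρ (zpowers b)) *
      Nat.card (fixOf ρ (zpowers b)) ≤ Nat.card (Additive V) := by
    intro b hb
    have hbc : b ∉ Cfsg.pCore 2 (M ⧸ Dm) := fun h => by
      haveI := H1.pCore_characteristic 2 (M ⧸ Dm)
      rw [hX2 _ inferInstance (H1.isPGroup_pCore 2 _), mem_bot] at h
      exact H65.ne_one_of_two hb h
    obtain ⟨x, hxp, hxo, hbx⟩ := exists_inverted hb hbc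
    rw [← Nat.card_prod]
    refine Nat.card_le_card_of_injective (fun p => (p.1 : Additive V) + ρ x (p.2 : Additive V)) ?_
    rintro ⟨p, q⟩ ⟨p', q'⟩ e
    simp only at e
    set r : Additive V := (q : Additive V) - q' with hr
    have hrf : ρ b r = r := by rw [hr, map_sub, q.2 b (mem_zpowers b), q'.2 b (mem_zpowers b)]
    have hxr : ρ x r = (p' : Additive V) - p := by
      rw [hr, map_sub, sub_eq_sub_iff_add_eq_add, add_comm, e]
    have hbxr : ρ b (ρ x r) = ρ x r := by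
      rw [hxr, map_sub, p'.2 b (mem_zpowers b), p.2 b (mem_zpowers b)]
    have h1 : ρ b (ρ x r) = ρ x⁻¹ r := by
      show (ρ b * ρ x) r = _
      rw [← map_mul, show b * x = x⁻¹ * b by rw [← hbx, inv_mul_cancel_right], map_mul]
      show ρ x⁻¹ (ρ b r) = _
      rw [hrf]
    have h2 : ρ (x * x) r = r := by
      rw [map_mul]
      show ρ x (ρ x r) = r
      rw [← hbxr, h1]
      show (ρ x * ρ x⁻¹) r = r
      rw [← map_mul, mul_inv_cancel, map_one]; rfl
    have hxx : x * x ≠ 1 := fun e1 => by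
      have hd := orderOf_dvd_of_pow_eq_one (n := 2) (show x ^ 2 = 1 by rw [sq]; exact e1)
      rw [(Nat.prime_dvd_prime_iff_eq hxp Nat.prime_two).1 hd] at hxo
      exact absurd hxo (by decide)
    have h0 := hfpf (x * x) (hxo.of_dvd_nat (by rw [← sq]; exact orderOf_pow_dvd 2)) hxx r h2
    have hq : q = q' := Subtype.ext (sub_eq_zero.1 h0)
    subst hq
    exact Prod.ext (Subtype.ext (add_right_cancel e)) rfl
  have hMlt : Nat.card M < Nat.card G := by
    refine lt_of_le_of_ne (Subgroup.card_le_card_group M) fun e => hM.ne_top hnc ?_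
    exact eq_top_of_card_eq M e
  have hcls : ∀ N : Subgroup (M ⧸ Dm), IsSimpleGroup N → ¬ IsMulCommutative N → CITList N := by
    intro N hN hNc
    haveI := hN
    refine ih N hNc (hX.subgroup N) (lt_of_le_of_lt ?_ hMlt)
    exact (Subgroup.card_le_card_group N).trans
      (Nat.card_le_card_of_surjective π (QuotientGroup.mk'_surjective Dm))
  have hFF : FF ρ B := ⟨hX, hX2, heven, hfpf, hpos, fun w => Additive.toMul.injective
    (Subtype.ext (hVe _ (w.toMul).2)), hBe, hBne, hff, hhalf, hcls⟩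
  haveI : Nontrivial (M ⧸ Dm) := by
    obtain ⟨b, hb⟩ := Subgroup.ne_bot_iff_exists_ne_one.1 hBne
    exact ⟨⟨b, 1, fun e => hb (Subtype.ext e)⟩⟩
  obtain ⟨N, F, iF, iFt, n, e, hNn, hn, hF, hBN, hBq, hWq, hfixq, -, htop⟩ := hFF.main
  haveI := hNn
  letI := iF
  letI := iFt
  haveI : CharP F 2 := charP_of_card_eq_prime_pow hF
  set q := 2 ^ n with hq
  have hq4 : 4 ≤ q := (show 4 = 2 ^ 2 by norm_num).le.trans (Nat.pow_le_pow_right (by norm_num) hn)
  have hNc : Nat.card N = q * (q ^ 2 - 1) :=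
    (Nat.card_congr e.toEquiv).trans (card_SL2_char2 (by omega) hF)
  have hqev : 2 ∣ q := dvd_pow_self 2 (by omega)
  have hqodd : Odd (q ^ 2 - 1) := by
    have h2 : 2 ∣ q ^ 2 := dvd_pow hqev two_ne_zero
    have : 4 ≤ q ^ 2 := by nlinarith
    exact ⟨q ^ 2 / 2 - 1, by omega⟩
  -- the upper unitriangular group is the image of `A`
  obtain ⟨e', he'⟩ : ∃ e' : N ≃* SL(2, F), (B.subgroupOf N).map e'.toMonoidHom = H74.SL2.upper F := by
    set B₁ := (B.subgroupOf N).map e.toMonoidHom with hB₁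
    have hB₁c : Nat.card B₁ = q := by
      rw [hB₁, card_map_of_injective e.injective, Nat.card_congr (subgroupOfEquivOfLe hBN).toEquiv, hBq]
    obtain ⟨P, hP⟩ := (IsPGroup.of_card hB₁c : IsPGroup 2 B₁).exists_le_sylow
    obtain ⟨g, hg⟩ := MulAction.exists_smul_eq SL(2, F) P (H74.SL2.upperSylow (F := F) 2)
    refine ⟨e.trans (MulAut.conj g), eq_of_le_of_card_ge ?_ ?_⟩
    · rintro _ ⟨b, hb, rfl⟩
      show g * e b * g⁻¹ ∈ _
      have h1 : g * e b * g⁻¹ ∈ ((H74.SL2.upperSylow (F := F) 2 : Sylow 2 SL(2, F)) : Subgroup _) := by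
        rw [← hg, Sylow.coe_subgroup_smul]
        exact H2.conj_smul_mem (hP (mem_map_of_mem _ hb))
      exact h1
    · rw [card_map_of_injective (e.trans (MulAut.conj g)).injective,
        Nat.card_congr (subgroupOfEquivOfLe hBN).toEquiv, hBq, H74.SL2.card_upper,
        Nat.card_eq_fintype_card, hF]
  set f : SL(2, F) →* M ⧸ Dm := N.subtype.comp e'.symm.toMonoidHom with hf
  have hfi : Function.Injective f := N.subtype_injective.comp e'.symm.injective
  have hfB : ∀ b ∈ B, ∃ x : F, f (H37.upper2 x) = b := by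
    intro b hb
    have h1 : e' ⟨b, hBN hb⟩ ∈ H74.SL2.upper F := he' ▸ mem_map_of_mem _ (show (⟨b, hBN hb⟩ : N) ∈ B.subgroupOf N from hb)
    obtain ⟨x, hx⟩ := H74.SL2.mem_upper.1 h1
    exact ⟨x, by rw [upper2_eq_uT, hx]; simp [hf]⟩
  have hBup : ∀ x : F, f (H37.upper2 x) ∈ B := by
    intro x
    have h1 : H37.upper2 x ∈ (B.subgroupOf N).map e'.toMonoidHom := by
      rw [he', upper2_eq_uT]; exact H74.SL2.mem_upper.2 ⟨x, rfl⟩
    obtain ⟨b, hb, hbe⟩ := h1
    rw [← hbe]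
    show ((e'.symm (e' b) : N) : M ⧸ Dm) ∈ B
    rw [MulEquiv.symm_apply_apply]
    exact hb
  set ρN := ρ.comp f with hρN
  have hfpfN : ∀ g : SL(2, F), Odd (orderOf g) → g ≠ 1 → ∀ w, ρN g w = w → w = 0 := fun g hgo hg1 w hw =>
    hfpf (f g) (by rwa [orderOf_injective f hfi]) (fun h => hg1 (hfi (by rw [h, map_one]))) w hw
  have hirr : ∀ S : AddSubgroup (Additive V), (∀ g, ∀ a ∈ S, ρN g a ∈ S) → S = ⊥ ∨ S = ⊤ := by
    intro S hS
    by_cases hS0 : S = ⊥
    · exact Or.inl hS0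
    right
    let ρS : SL(2, F) →* AddMonoid.End S :=
      { toFun := fun g => AddMonoidHom.mk' (fun s => (⟨ρN g s, hS g s s.2⟩ : S))
          fun a b => Subtype.ext (map_add (ρN g) (a : Additive V) b)
        map_one' := AddMonoidHom.ext fun s => Subtype.ext (by show ρN 1 (s : Additive V) = s; rw [map_one]; rfl)
        map_mul' := fun g g' => AddMonoidHom.ext fun s => Subtype.ext (by
          show ρN (g * g') (s : Additive V) = ρN g (ρN g' s); rw [map_mul]; rfl) }
    have hSpos : 1 < Nat.card S := AddSubgroup.one_lt_card_iff_ne_bot _ |>.2 hS0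
    have h1 := odd_dvd_of_fpf (X := N) (ρ := ρS.comp e'.toMonoidHom) (fun g hgo hg1 s hs => Subtype.ext
      (hfpfN (e' g) (by rwa [MulEquiv.orderOf_eq]) (fun h => hg1 (e'.map_eq_one_iff.1 h)) s
        (congrArg Subtype.val hs))) hSpos hqodd (hNc ▸ dvd_mul_left _ _)
    refine AddSubgroup.eq_top_of_le_card _ ?_
    have h2 := Nat.le_of_dvd (by omega) h1
    rw [hWq]
    have : q * q = q ^ 2 := (sq q).symm
    omega
  have hnt : ∃ g w, ρN g w ≠ w := by
    obtain ⟨w₁, -, hw₁, -, h31, -⟩ := Semi.exists_commutator (F := F) (by rw [hF]; exact hq4)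
    haveI : Nontrivial (Additive V) := Finite.one_lt_card_iff_nontrivial.1 hpos
    obtain ⟨w, hw⟩ := exists_ne (0 : Additive V)
    refine ⟨w₁, w, fun h => hw (hfpfN w₁ ?_ hw₁ w h)⟩
    exact (show Odd 3 by decide).of_dvd_nat (orderOf_dvd_of_pow_eq_one h31)
  have hyp : H78.Nat2.Hyp ρN := Or.inr (by
    have : Nat.card (fixOf ρ B) ≤ Nat.card (H78.Nat2.M0 ρN) :=
      Nat.card_le_card_of_injective _ (AddSubgroup.inclusion_injective
        (show fixOf ρ B ≤ H78.Nat2.M0 ρN from fun w hw t => hw _ (hBup t)))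
    rw [hfixq] at this
    rw [hWq, sq]
    exact Nat.mul_le_mul this this)
  obtain ⟨Φ, hΦ⟩ := H78.Nat2.natural ρN (p := 2) (fun w => by rw [two_nsmul]; exact hFF.two w) hirr hnt hyp
  choose sec hsec using QuotientGroup.mk'_surjective Dm
  have hacts : ∀ (m : M) (g : SL(2, F)), π m = f g → ∀ v : Fin 2 → F,
      (m : G) * ((Φ v).toMul : V) * (m : G)⁻¹ =
        ((Φ ((g : Matrix (Fin 2) (Fin 2) F).mulVec v)).toMul : V) := by
    intro m g hmg v
    rw [← hρ, hmg, ← hΦ]
    rfl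
  refine ⟨F, iF, iFt, n, fun v => (((Φ v).toMul : V) : G), fun g => ((sec (f g) : M) : G), hn, hF,
    fun v => (Φ v).toMul.2, fun v w => ?_, fun v w h => ?_, fun x hx => ⟨Φ.symm (Additive.ofMul ⟨x, hx⟩), ?_⟩,
    fun g => (sec (f g)).2, fun g v => hacts _ g (hsec _) v, fun m hm hfix => ?_, fun a ha => ?_,
    fun x => ?_, fun P hPM hP => ?_, fun hn2 m hm => ?_⟩
  · rw [map_add]; rfl
  · exact Φ.injective (Additive.toMul.injective (Subtype.ext h))
  · rw [AddEquiv.apply_symm_apply]; rfl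
  · have hC2 : IsPGroup 2 (M ⊓ centralizer (V : Set G) : Subgroup G) := by
      by_contra hne
      obtain ⟨w, hw, hwo, hw1⟩ := exists_odd_mem_ne hne
      obtain ⟨v, hv⟩ := Subgroup.ne_bot_iff_exists_ne_one.1 hVb
      exact hv (Subtype.ext (hG.fpf' hD2 hwo hw1 (hVD v.2) (mem_centralizer_iff.1 hw.2 v v.2).symm))
    have hn' : M ≤ normalizer ((M ⊓ centralizer (V : Set G) : Subgroup G) : Set G) := by
      have key : ∀ g ∈ M, ∀ c ∈ (M ⊓ centralizer (V : Set G) : Subgroup G),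
          g * c * g⁻¹ ∈ (M ⊓ centralizer (V : Set G) : Subgroup G) := by
        intro g hg c hc
        refine ⟨M.mul_mem (M.mul_mem hg hc.1) (M.inv_mem hg), mem_centralizer_iff.2 fun x hx => ?_⟩
        have hx' : g⁻¹ * x * g ∈ V := (mem_normalizer_iff''.1 (hMV hg) x).1 hx
        calc x * (g * c * g⁻¹) = g * ((g⁻¹ * x * g) * c) * g⁻¹ := by group
          _ = g * (c * (g⁻¹ * x * g)) * g⁻¹ := by rw [mem_centralizer_iff.1 hc.2 _ hx']
          _ = g * c * g⁻¹ * x := by group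
      intro g hg
      rw [mem_normalizer_iff]
      intro x
      refine ⟨key g hg x, fun h => ?_⟩
      have := key g⁻¹ (inv_mem hg) _ h
      rwa [inv_inv, show g⁻¹ * (g * x * g⁻¹) * g = x by group] at this
    refine le_core2 inf_le_left hn' hC2 ⟨hm, mem_centralizer_iff.2 fun x hx => ?_⟩
    have := hfix (Φ.symm (Additive.ofMul ⟨x, hx⟩))
    simp only [AddEquiv.apply_symm_apply] at this
    exact (mul_inv_eq_iff_eq_mul.1 this).symm
  · obtain ⟨x, hx⟩ := hfB (π ⟨a, hAM ha⟩) ⟨_, ha, rfl⟩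
    exact ⟨x, fun v => hacts ⟨a, hAM ha⟩ _ hx.symm v⟩
  · obtain ⟨a, ha, hax⟩ := hBup x
    exact ⟨a, ha, fun v => hacts a _ hax v⟩
  · set ψ := π.comp (Subgroup.inclusion hPM) with hψ
    have h1 : Nat.card P = Nat.card ψ.ker * Nat.card ψ.range := by
      rw [← Subgroup.index_ker, Subgroup.card_mul_index]
    have hr2 : IsPGroup 2 ψ.range := hP.of_surjective ψ.rangeRestrict ψ.rangeRestrict_surjective
    rw [h1]
    refine Nat.mul_le_mul ?_ ?_
    · refine Nat.card_le_card_of_injective (fun p : ψ.ker => (⟨((p : P) : G), (hπ _).1 p.2⟩ : D)) ?_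
      intro p p' h
      exact Subtype.ext (Subtype.ext (congrArg Subtype.val h :))
    · rcases Nat.lt_or_ge n 3 with hlt | hge
      · have hn2 : n = 2 := by omega
        obtain ⟨j, hj⟩ := IsPGroup.iff_card.1 hr2
        have h2 : Nat.card ψ.range ∣ q * (q ^ 2 - 1) :=
          hNc ▸ Subgroup.card_dvd_of_le (htop hn2 ▸ le_top)
        rw [hj] at h2 ⊢
        exact Nat.le_of_dvd (by positivity)
          ((Nat.Coprime.pow_left _ (Nat.coprime_two_left.2 hqodd)).dvd_of_dvd_mul_right h2)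
      · exact card_two_le_q hX hge hF N e hr2
  · obtain ⟨g, hg⟩ : ∃ g, f g = π ⟨m, hm⟩ :=
      ⟨e' ⟨π ⟨m, hm⟩, htop hn2 ▸ mem_top _⟩, by simp [hf]⟩
    exact ⟨g, fun v => hacts ⟨m, hm⟩ g hg.symm v⟩

end Coordinates

end H11.CIT
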