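import Cfsg.Agent.H11.CIT.Socle
import Cfsg.Agent.H11.CIT.Lists
import Cfsg.Agent.H11.CIT.Interface
import Cfsg.Agent.H2.FPFSubgroup

/-!
Groups acting on an elementary abelian 2-group with all odd elements fixed-point-free.
-/

set_option autoImplicit false
set_option linter.style.haveILetI false
set_option linter.unusedSectionVars false

namespace H11.CIT

open Subgroup

universe u

/-- A semiregular action. -/
theorem card_dvd_of_free {A : Type*} [Group A] {Ω : Type*} [MulAction A Ω] [Finite Ω]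
    (h : ∀ (a : A) (ω : Ω), a • ω = ω → a = 1) : Nat.card A ∣ Nat.card Ω := by
  have hs : ∀ ω : Ω, MulAction.stabilizer A ω = ⊥ := fun ω => by
    rw [eq_bot_iff]
    exact fun a ha => mem_bot.2 (h a ω ha)
  rw [Nat.card_congr (MulAction.selfEquivOrbitsQuotientProd hs), Nat.card_prod]
  exact dvd_mul_left _ _

variable {X : Type u} [Group X] [Finite X]

/-- Outside the socle there is no four-group. -/
theorem card_le_two_mul_inf (hX : IsCIT X) (N : Subgroup X) [N.Normal] {r : ℕ} [Fact r.Prime]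
    (hr2 : r ≠ 2) (P : Sylow r N) [IsCyclic (P : Subgroup N)] (hP : (P : Subgroup N) ≠ ⊥)
    {B : Subgroup X} (hB : Elem B) : Nat.card B ≤ 2 * Nat.card (B ⊓ N : Subgroup X) := by
  classical
  haveI : Fact (Nat.Prime 2) := ⟨Nat.prime_two⟩
  set P' := (P : Subgroup N).map N.subtype with hP'
  set Q := normalizer (P' : Set X) with hQ
  haveI : IsCyclic P' :=
    isCyclic_of_surjective ((P : Subgroup N).equivMapOfInjective N.subtype N.subtype_injective).toMonoidHom
      ((P : Subgroup N).equivMapOfInjective N.subtype N.subtype_injective).surjective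
  let π := QuotientGroup.mk' N
  let f : Q →* X ⧸ N := π.comp Q.subtype
  have hf : Function.Surjective f := by
    intro y
    obtain ⟨x, rfl⟩ := QuotientGroup.mk'_surjective N y
    have hx : x ∈ Q ⊔ N := by rw [hQ, hP', Sylow.normalizer_sup_eq_top P]; exact mem_top x
    obtain ⟨a, ha, n, hn, rfl⟩ := Subgroup.mem_sup_of_normal_right.1 hx
    exact ⟨⟨a, ha⟩, by
      show π a = π (a * n)
      rw [map_mul, show π n = 1 from (QuotientGroup.eq_one_iff n).2 hn, mul_one]⟩
  obtain ⟨S⟩ := (inferInstance : Nonempty (Sylow 2 Q))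
  haveI hScyc : IsCyclic (S : Subgroup Q) := by
    let ψ : (S : Subgroup Q) →* MulAut P' := P'.normalizerMonoidHom.comp (S : Subgroup Q).subtype
    have hψ : Function.Injective ψ := by
      rw [← MonoidHom.ker_eq_bot_iff, eq_bot_iff]
      intro x hx
      rw [MonoidHom.mem_ker] at hx
      have h1 : (((x : Q) : X)) ∈ centralizer (P' : Set X) := by
        have h2 : (x : Q) ∈ P'.normalizerMonoidHom.ker := hx
        rw [normalizerMonoidHom_ker] at h2
        exact mem_subgroupOf.1 h2
      haveI : Nontrivial P' := (nontrivial_iff_ne_bot P').2 (by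
        rw [hP', Ne, map_eq_bot_iff_of_injective _ N.subtype_injective]; exact hP)
      obtain ⟨⟨y, hy⟩, hy1⟩ := exists_ne (1 : P')
      obtain ⟨k, hk⟩ := IsPGroup.iff_orderOf.1 (P.isPGroup'.map N.subtype) ⟨y, hy⟩
      rw [orderOf_mk] at hk
      obtain ⟨j, hj⟩ := orderOf_eq_two_pow (P := (⊤ : Subgroup (S : Subgroup Q))) (fun g => by
        obtain ⟨i, hi⟩ := S.isPGroup' (g : (S : Subgroup Q))
        exact ⟨i, Subtype.ext hi⟩) (mem_top x)
      refine mem_bot.2 (Subtype.ext (Subtype.ext (hX.fpf (w := y) (k := j) ?_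
        (fun e => hy1 (Subtype.ext e)) ?_ (mem_centralizer_iff.1 h1 y hy))))
      · rw [hk]; exact ((Fact.out : r.Prime).odd_of_ne_two hr2).pow
      · rw [orderOf_coe, orderOf_coe, hj]
    haveI : IsCyclic (MulAut P') := by
      obtain ⟨k, hk⟩ := IsPGroup.iff_card.1 (P.isPGroup'.map N.subtype)
      haveI : IsCyclic (ZMod (Nat.card P'))ˣ := by
        rw [hP', hk]; exact ZMod.isCyclic_units_of_prime_pow r Fact.out hr2 k
      exact isCyclic_of_surjective (IsCyclic.mulAutMulEquiv P').symm.toMonoidHom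
        (IsCyclic.mulAutMulEquiv P').symm.surjective
    exact isCyclic_of_injective ψ hψ
  let T : Sylow 2 (X ⧸ N) := S.mapSurjective hf
  haveI hTcyc : IsCyclic (T : Subgroup (X ⧸ N)) :=
    isCyclic_of_surjective (f.subgroupMap (S : Subgroup Q)) (f.subgroupMap_surjective _)
  set E := B.map π with hE
  have hEe : Elem E := elem_map_hom hB π
  have hEc : Nat.card E ≤ 2 := by
    obtain ⟨T', hT'⟩ := hEe.isPGroup.exists_le_sylow
    obtain ⟨g, hg⟩ := MulAction.exists_smul_eq (X ⧸ N) T T'
    haveI : IsCyclic (T' : Subgroup (X ⧸ N)) := by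
      rw [← hg]
      exact isCyclic_of_surjective (Sylow.equiv T (g • T)).toMonoidHom (Sylow.equiv T (g • T)).surjective
    haveI : IsCyclic E := isCyclic_of_injective (inclusion hT') (inclusion_injective hT')
    obtain ⟨e, he⟩ := IsCyclic.exists_ofOrder_eq_natCard (α := E)
    rw [← he]
    exact Nat.le_of_dvd two_pos (orderOf_dvd_of_pow_eq_one (by
      rw [sq]; exact Subtype.ext (hEe _ e.2)))
  set φ := π.comp B.subtype with hφ
  have h1 : Nat.card B = Nat.card φ.ker * Nat.card φ.range := by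
    rw [← Subgroup.index_ker, Subgroup.card_mul_index]
  have h2 : φ.range = E := by rw [hφ, MonoidHom.range_comp, range_subtype]
  have h3 : Nat.card φ.ker = Nat.card (B ⊓ N : Subgroup X) := by
    have h4 : φ.ker = (B ⊓ N).subgroupOf B := by
      ext b
      rw [hφ, MonoidHom.mem_ker, mem_subgroupOf]
      exact ⟨fun e => ⟨b.2, (QuotientGroup.eq_one_iff _).1 e⟩,
        fun e => (QuotientGroup.eq_one_iff _).2 e.2⟩
    rw [h4, Nat.card_congr (subgroupOfEquivOfLe inf_le_left).toEquiv]
  rw [h1, h2, h3, mul_comm]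
  exact Nat.mul_le_mul hEc le_rfl

variable {W : Type u} [AddCommGroup W] [Finite W]

/-- The fixed points of a subgroup. -/
def fixOf (ρ : X →* AddMonoid.End W) (B : Subgroup X) : AddSubgroup W where
  carrier := {w | ∀ b ∈ B, ρ b w = w}
  zero_mem' := fun b _ => map_zero _
  add_mem' := fun ha hc b hb => by rw [map_add, ha b hb, hc b hb]
  neg_mem' := fun ha b hb => by rw [map_neg, ha b hb]

theorem fixOf_anti (ρ : X →* AddMonoid.End W) {B C : Subgroup X} (h : C ≤ B) :
    fixOf ρ B ≤ fixOf ρ C := fun _ hw c hc => hw c (h hc)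

/-- Every odd prime power dividing `|X|` divides `|W| - 1`. -/
theorem odd_dvd_of_fpf {ρ : X →* AddMonoid.End W}
    (hfpf : ∀ x : X, Odd (orderOf x) → x ≠ 1 → ∀ w : W, ρ x w = w → w = 0) (hpos : 1 < Nat.card W)
    {m : ℕ} (hm : Odd m) (hd : m ∣ Nat.card X) : m ∣ Nat.card W - 1 := by
  classical
  rw [← Nat.factorization_prime_le_iff_dvd hm.pos.ne' (by have := hpos; omega)]
  intro r hr
  rcases Nat.eq_zero_or_pos (m.factorization r) with h0 | h0
  · omega
  haveI := Fact.mk hr
  have hr2 : r ≠ 2 := by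
    rintro rfl
    exact Nat.not_even_iff_odd.2 hm (even_iff_two_dvd.2 ((Nat.dvd_of_factorization_pos h0.ne')))
  obtain ⟨P, hP⟩ := Sylow.exists_subgroup_card_pow_prime (G := X) r
    ((Nat.ordProj_dvd m r).trans hd)
  have hodd : ∀ x ∈ P, Odd (orderOf x) := fun x hx => by
    have h1 : orderOf x ∣ Nat.card P := Subgroup.orderOf_dvd_natCard _ hx
    rw [hP] at h1
    exact ((hr.odd_of_ne_two hr2).pow).of_dvd_nat h1
  letI : MulAction P {w : W // w ≠ 0} :=
    { smul := fun p w => ⟨ρ p w, fun e => w.2 (by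
        have h1 : ρ (p : X)⁻¹ (ρ p w) = w := by
          show (ρ (p : X)⁻¹ * ρ p) w.1 = w
          rw [← map_mul, inv_mul_cancel, map_one]; rfl
        rwa [e, map_zero, eq_comm] at h1)⟩
      one_smul := fun w => Subtype.ext (by show ρ ((1 : P) : X) w.1 = w.1; rw [Subgroup.coe_one, map_one]; rfl)
      mul_smul := fun p q w => Subtype.ext (by
        show ρ ((p * q : P) : X) w.1 = ρ p (ρ q w.1); rw [Subgroup.coe_mul, map_mul]; rfl) }
  have hfree : ∀ (p : P) (w : {w : W // w ≠ 0}), p • w = w → p = 1 := by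
    intro p w hpw
    by_contra hp1
    exact w.2 (hfpf p (hodd p p.2) (fun e => hp1 (Subtype.ext e)) w (congrArg Subtype.val hpw))
  have h2 := card_dvd_of_free hfree
  letI := Fintype.ofFinite W
  rw [hP, Nat.card_eq_fintype_card, Fintype.card_subtype_compl, Fintype.card_subtype_eq,
    ← Nat.card_eq_fintype_card] at h2
  exact (hr.pow_dvd_iff_le_factorization (by have := hpos; omega)).1 h2

/-- An offender on a module in which odd elements act fixed-point-freely. -/
structure FF (ρ : X →* AddMonoid.End W) (B : Subgroup X) : Prop where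
  cit : IsCIT X
  h2 : NoNormalTwo X
  heven : ∀ K : Subgroup X, K.Normal → K ≠ ⊥ → ∃ t ∈ K, orderOf t = 2
  fpf : ∀ x : X, Odd (orderOf x) → x ≠ 1 → ∀ w : W, ρ x w = w → w = 0
  pos : 1 < Nat.card W
  two : ∀ w : W, w + w = 0
  elem : Elem B
  bne : B ≠ ⊥
  ff : Nat.card W ≤ Nat.card B * Nat.card (fixOf ρ B)
  half : ∀ b : X, orderOf b = 2 →
    Nat.card (fixOf ρ (zpowers b)) * Nat.card (fixOf ρ (zpowers b)) ≤ Nat.card W
  cls : ∀ N : Subgroup X, IsSimpleGroup N → ¬ IsMulCommutative N → CITList N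

namespace FF

variable {ρ : X →* AddMonoid.End W} {B : Subgroup X} (h : FF ρ B)
include h

theorem fix_sq_le {b : X} (hb : b ∈ B) (hb1 : b ≠ 1) :
    Nat.card (fixOf ρ B) * Nat.card (fixOf ρ B) ≤ Nat.card W := by
  refine le_trans ?_ (h.half b (orderOf_two (h.elem b hb) hb1))
  have h1 : Nat.card (fixOf ρ B) ≤ Nat.card (fixOf ρ (zpowers b)) :=
    Nat.card_le_card_of_injective _ (AddSubgroup.inclusion_injective (fixOf_anti ρ (zpowers_le.2 hb)))
  exact Nat.mul_le_mul h1 h1

theorem card_le_sq : Nat.card W ≤ Nat.card B * Nat.card B := by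
    obtain ⟨b, hb, hb1⟩ := (Subgroup.ne_bot_iff_exists_ne_one.1 h.bne).elim fun z hz =>
      (⟨z, z.2, fun e => hz (Subtype.ext e)⟩ : ∃ z, z ∈ B ∧ z ≠ 1)
    have h1 := h.fix_sq_le hb hb1
    have h2 := h.ff
    have h3 : Nat.card (fixOf ρ B) ≤ Nat.card B :=
      Nat.le_of_mul_le_mul_right (h1.trans h2) Nat.card_pos
    exact h2.trans (Nat.mul_le_mul le_rfl h3)

/-- Every odd prime power dividing `|X|` divides `|W| - 1`. -/
theorem odd_dvd {m : ℕ} (hm : Odd m) (hd : m ∣ Nat.card X) : m ∣ Nat.card W - 1 :=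
  odd_dvd_of_fpf h.fpf h.pos hm hd

/-- Abelian subgroups of odd order, and those of order `pq`, are cyclic. -/
theorem isCyclic_odd {A : Subgroup X} (hA : Odd (Nat.card A))
    (hA' : (∀ a b : A, a * b = b * a) ∨ ∃ p q : ℕ, p.Prime ∧ q.Prime ∧ Nat.card A = p * q) :
    IsCyclic A := by
  letI : CommGroup (Multiplicative W) := inferInstance
  letI : MulDistribMulAction A (Multiplicative W) :=
    { smul := fun a w => Multiplicative.ofAdd (ρ a w.toAdd)
      one_smul := fun w => by
        show Multiplicative.ofAdd (ρ ((1 : A) : X) w.toAdd) = w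
        rw [Subgroup.coe_one, map_one]; rfl
      mul_smul := fun a b w => by
        show Multiplicative.ofAdd (ρ ((a * b : A) : X) w.toAdd) = Multiplicative.ofAdd (ρ a (ρ b w.toAdd))
        rw [Subgroup.coe_mul, map_mul]; rfl
      smul_mul := fun a x y => congrArg Multiplicative.ofAdd (map_add (ρ a) x.toAdd y.toAdd)
      smul_one := fun a => congrArg Multiplicative.ofAdd (map_zero (ρ a)) }
  have hfpf : ∀ a : A, a ≠ 1 → ∀ w : Multiplicative W, a • w = w → w = 1 := by
    intro a ha w hw
    exact Multiplicative.toAdd.injective (h.fpf a (hA.of_dvd_nat (Subgroup.orderOf_dvd_natCard _ a.2))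
      (fun e => ha (Subtype.ext e)) w.toAdd (congrArg Multiplicative.toAdd hw))
  haveI : Nontrivial (Multiplicative W) := Finite.one_lt_card_iff_nontrivial.1 h.pos
  rcases hA' with hc | ⟨p, q, hp, hq, hcard⟩
  · exact H2.isCyclic_of_fpf_comm hfpf hc
  · exact H2.isCyclic_of_fpf_prime_mul hfpf hp hq hcard

/-- There is no non-cyclic group of order nine. -/
theorem no_nine {A : Type*} [Group A] (f : A →* X) (hf : Function.Injective f) (h9 : HasNineGroup A) :
    False := by
  obtain ⟨x, y, hx, hy, hxy, hmem⟩ := h9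
  haveI : Finite A := Finite.of_injective f hf
  set C := closure ({f x, f y} : Set X) with hC
  haveI : IsMulCommutative C := isMulCommutative_closure (by
    rintro a (rfl | rfl) b (rfl | rfl)
    exacts [rfl, by rw [← map_mul, hxy, map_mul], by rw [← map_mul, ← hxy, map_mul], rfl])
  have h3 : ∀ c ∈ C, c ^ 3 = 1 := by
    intro c hc
    induction hc using closure_induction with
    | mem z hz =>
      rcases hz with rfl | rfl
      · rw [← map_pow, ← hx, pow_orderOf_eq_one, map_one]
      · rw [← map_pow, ← hy, pow_orderOf_eq_one, map_one]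
    | one => rw [one_pow]
    | mul a b ha hb iha ihb =>
      rw [(show Commute a b from congrArg Subtype.val (mul_comm' (⟨a, ha⟩ : C) ⟨b, hb⟩)).mul_pow, iha, ihb,
        one_mul]
    | inv a _ iha => rw [inv_pow, iha, inv_one]
  have hodd : Odd (Nat.card C) := by
    rw [← Nat.not_even_iff_odd, even_iff_two_dvd]
    intro h2
    haveI : Fact (Nat.Prime 2) := ⟨Nat.prime_two⟩
    obtain ⟨c, hc⟩ := exists_prime_orderOf_dvd_card' 2 h2
    have := orderOf_dvd_of_pow_eq_one (show c ^ 3 = 1 from Subtype.ext (h3 c c.2))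
    rw [hc] at this
    norm_num at this
  haveI := h.isCyclic_odd hodd (Or.inl fun a b => mul_comm' a b)
  obtain ⟨g, hg⟩ := IsCyclic.exists_ofOrder_eq_natCard (α := C)
  have hle : Nat.card C ≤ 3 :=
    hg ▸ Nat.le_of_dvd (by norm_num) (orderOf_dvd_of_pow_eq_one (show g ^ 3 = 1 from Subtype.ext (h3 g g.2)))
  have heq : zpowers (f x) = C := eq_of_le_of_card_ge (zpowers_le.2 (subset_closure (by simp))) (by
    rw [Nat.card_zpowers, orderOf_injective f hf, hx]; exact hle)
  obtain ⟨k, hk⟩ : f y ∈ zpowers (f x) := heq ▸ subset_closure (by simp)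
  exact hmem ⟨k, hf (by rw [map_zpow]; exact hk)⟩

end FF

end H11.CIT
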