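import Cfsg.Agent.H11.CIT.Two

/-!
For `q = 4`: `R` is a Sylow 2-subgroup, the two locals have order 960, and there is one class of
involutions.
-/

set_option autoImplicit false
set_option linter.style.haveILetI false
set_option linter.unusedSectionVars false

open scoped MatrixGroups
open Matrix

namespace H11.CIT

open Subgroup

universe u

variable {G : Type u} [Group G] [Finite G]

namespace Cfg

variable {M R A : Subgroup G} {F : Type} [Field F] [Fintype F]
  {Ψ : (Fin 2 → F) → G} {lft : SL(2, F) → G} (c : Cfg M R A 2 Ψ lft)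
include c

theorem card_F : Fintype.card F = 4 := c.coord.cardF.trans (by norm_num)

theorem card_M : Nat.card M = 960 := by
  classical
  haveI := c.coord.charTwo
  let μ : SL(2, F) × core2 M → M := fun p => ⟨lft p.1 * p.2, mul_mem (c.coord.lft_mem _) (core2_le M p.2.2)⟩
  have hμ : Function.Bijective μ := by
    constructor
    · rintro ⟨g, d⟩ ⟨g', d'⟩ e
      have e' : lft g * (d : G) = lft g' * d' := congrArg Subtype.val e
      have hg : g = g' := by
        have h1 := c.coord.acts_mul (c.coord.acts_lft g) (c.coord.acts_core d.2)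
        have h2 := c.coord.acts_mul (c.coord.acts_lft g') (c.coord.acts_core d'.2)
        rw [e'] at h1
        simpa using c.coord.acts_unique h1 h2
      subst hg
      exact Prod.ext rfl (Subtype.ext (mul_left_cancel e'))
    · rintro ⟨m, hm⟩
      obtain ⟨g, hg⟩ := c.coord.top rfl m hm
      have h1 := c.coord.acts_mul (c.coord.acts_inv (c.coord.acts_lft g)) (show c.coord.Acts m g from hg)
      rw [inv_mul_cancel] at h1
      exact ⟨(g, ⟨(lft g)⁻¹ * m,
        c.coord.mem_core_of_acts_one (mul_mem (inv_mem (c.coord.lft_mem g)) hm) h1⟩),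
        Subtype.ext (mul_inv_cancel_left _ _)⟩
  rw [← Nat.card_eq_of_bijective μ hμ, Nat.card_prod, card_SL2_char2 le_add_self c.coord.cardF, c.cardD]
  norm_num

theorem exists_unit : ∃ t : Fˣ, t ≠ 1 ∧ orderOf t = 3 := by
  classical
  haveI : Fact (Nat.Prime 3) := ⟨Nat.prime_three⟩
  have h3 : Nat.card Fˣ = 3 := by rw [Nat.card_units, Nat.card_eq_fintype_card, c.card_F]
  obtain ⟨t, ht⟩ := IsCyclic.exists_ofOrder_eq_natCard (α := Fˣ)
  rw [h3] at ht
  exact ⟨t, fun e => by rw [e, orderOf_one] at ht; norm_num at ht, ht⟩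

theorem swap_mul_mem {x y : G} (hx : x ∈ normalizer (R : Set G)) (hxM : x ∉ M)
    (hy : y ∈ normalizer (R : Set G)) (hyM : y ∉ M) : x * y ∈ M := by
  obtain ⟨-, h1⟩ := (c.norm_cases hx).resolve_left fun h => hxM h.1
  obtain ⟨h2, -⟩ := (c.norm_cases hy).resolve_left fun h => hyM h.1
  rw [c.eqN, mem_normalizer_iff_map_conj_eq, map_mul]
  show (core2 M).map ((MulAut.conj x).toMonoidHom.comp (MulAut.conj y).toMonoidHom) = _
  rw [← Subgroup.map_map, h2, h1]

theorem swap_U {y : G} (hy : y ∈ normalizer (R : Set G)) (s : F) :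
    ∃ s' : F, y * Ψ ![s, 0] * y⁻¹ = Ψ ![s', 0] := by
  rcases c.norm_cases hy with ⟨h1, h2⟩ | ⟨h1, h2⟩
  · refine c.inf_eq _ ?_ ((mem_normalizer_iff.1 (le_normalizer_core2 M h1) _).1 (c.coord.mem_core _))
    rw [← h2]; exact mem_map_of_mem _ (c.mem_inf s)
  · refine c.inf_eq _ ?_ ?_
    · rw [← h1]; exact mem_map_of_mem (MulAut.conj y).toMonoidHom (c.coord.mem_core _)
    · rw [← h2]; exact mem_map_of_mem (MulAut.conj y).toMonoidHom (c.mem_inf s)

variable (hG : IsCIT G)
include hG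

/-- An element exchanging `D` and `A` moves their intersection. -/
theorem swap_moves {y : G} (hy : y ∈ normalizer (R : Set G)) (hyM : y ∉ M) :
    ∃ s : F, y * Ψ ![s, 0] * y⁻¹ ≠ Ψ ![s, 0] := by
  by_contra hall
  push Not at hall
  obtain ⟨t, -, ht3⟩ := c.exists_unit
  set τ := lft (H78.Nat2.hh t)
  set g := τ * y with hg
  have hτM : τ ∈ M := c.coord.lft_mem _
  have hgn : g ∈ normalizer (R : Set G) := mul_mem (c.torus_normR t) hy
  have hgM : g ∉ M := fun h => hyM ((mul_mem_cancel_left hτM).1 h)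
  have hact : ∀ (k : ℕ) (s : F), g ^ k * Ψ ![s, 0] * (g ^ k)⁻¹ = Ψ ![(t : F) ^ k * s, 0] := by
    intro k
    induction k with
    | zero => intro s; simp
    | succ k ih =>
      intro s
      rw [pow_succ, show g ^ k * g * Ψ ![s, 0] * (g ^ k * g)⁻¹ =
        g ^ k * (τ * (y * Ψ ![s, 0] * y⁻¹) * τ⁻¹) * (g ^ k)⁻¹ by rw [hg]; group, hall, c.torus_U, ih,
        ← mul_assoc, pow_succ]
  have h1 := hact (orderOf g) 1
  rw [pow_orderOf_eq_one, one_mul, inv_one, mul_one, mul_one] at h1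
  have h3 : 3 ∣ orderOf g := by
    rw [← ht3]
    refine orderOf_dvd_of_pow_eq_one (Units.ext ?_)
    simpa using (congrFun (c.coord.inj h1) 0).symm
  have h2 : 2 ∣ orderOf g := by
    rw [← even_iff_two_dvd, ← Nat.not_odd_iff_even]
    rintro ⟨k, hk⟩
    refine hgM ?_
    have : g = (g * g) ^ (k + 1) := by
      rw [← pow_two, ← pow_mul, show 2 * (k + 1) = orderOf g + 1 by omega, pow_succ, pow_orderOf_eq_one,
        one_mul]
    rw [this]
    exact pow_mem (c.swap_mul_mem hgn hgM hgn hgM) _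
  exact hG.no_two_mult Nat.prime_three (by norm_num) (g := g)
    (Nat.Coprime.mul_dvd_of_dvd_of_dvd (by norm_num) h3 h2)

theorem elem_cent {z : G} (hz : z ∈ R) (hz2 : z * z = 1) :
    ∃ E : Subgroup G, Elem E ∧ Nat.card E = 16 ∧ ∀ e ∈ E, e * z = z * e := by
  rcases c.invol z hz hz2 with h | h
  · exact ⟨core2 M, c.elemD, c.cardD.trans (by norm_num), fun e he => c.elemD.comm he h⟩
  · exact ⟨A, c.maxE.2.1, c.cardA.trans (by norm_num), fun e he => c.maxE.2.1.comm he h⟩

set_option maxHeartbeats 400000 in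
/-- Nothing exchanges `D` and `A`. -/
theorem normR_le [IsSimpleGroup G] (hnc : ¬ IsMulCommutative G) : normalizer (R : Set G) ≤ M := by
  classical
  haveI : Fact (Nat.Prime 2) := ⟨Nat.prime_two⟩
  haveI := c.coord.charTwo
  set L := normalizer (R : Set G) with hL
  intro y₀ hy₀
  by_contra hy₀M
  -- a 2-element outside `M`
  obtain ⟨k₀, j₀, hj₀, e₀⟩ := Nat.exists_eq_two_pow_mul_odd (orderOf_pos y₀).ne'
  set y₁ := y₀ ^ j₀
  have hy₁ : y₁ ∈ L := pow_mem hy₀ _
  have hy₁M : y₁ ∉ M := by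
    intro h
    obtain ⟨i, rfl⟩ := hj₀
    refine hy₀M ((mul_mem_cancel_left (pow_mem (c.swap_mul_mem hy₀ hy₀M hy₀ hy₀M) i)).1 ?_)
    rwa [← pow_two, ← pow_mul, ← pow_succ]
  have hy₁o : orderOf y₁ = 2 ^ k₀ := by
    rw [orderOf_pow' _ hj₀.pos.ne', e₀, Nat.gcd_mul_left_left, Nat.mul_div_cancel _ hj₀.pos]
  obtain ⟨R', hRR', hR'⟩ := exists_isSyl (le_normalizer : R ≤ L) c.syl.2.1
  have hcore : core2 L = R := by
    refine le_antisymm (fun y hy => ?_) (le_core2 le_normalizer le_rfl c.syl.2.1)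
    by_contra hyR
    have hyL : y ∈ L := core2_le L hy
    have htwo : ∀ x ∈ core2 L, x ∈ M → x ∈ R := fun x hx hxM => by
      obtain ⟨k, hk⟩ := orderOf_eq_two_pow (isPGroup_core2 L) hx
      exact c.syl.mem_of_two hxM (core2_le L hx) hk
    have hyM : y ∉ M := fun h => hyR (htwo y hy h)
    choose η hη using c.swap_U hyL
    have hlin : ∀ (t : Fˣ) (s : F), η ((t : F) * s) = (t : F) * η s := by
      intro t s
      set τ := lft (H78.Nat2.hh t) with hτd
      have hτL : τ ∈ L := c.torus_normR t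
      have hτy : τ * y * τ⁻¹ ∈ core2 L := (mem_normalizer_iff.1 (le_normalizer_core2 L hτL) y).1 hy
      have hτM : τ ∈ M := c.coord.lft_mem _
      have hr : τ * y * τ⁻¹ * y⁻¹ ∈ R := htwo _ (mul_mem hτy (inv_mem hy))
        (c.swap_mul_mem (core2_le L hτy) (fun h => hyM (by
          simpa [mul_assoc] using mul_mem (mul_mem (inv_mem hτM) h) hτM))
          (inv_mem hyL) (fun h => hyM (inv_mem_iff.1 h)))
      have h1 := mem_cent.1 (c.R_le_cent ⟨c.mem_inf (η ((t : F) * s)), c.coord.mem_core _⟩ hr)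
      have h2 : τ * y * τ⁻¹ * y⁻¹ * Ψ ![η ((t : F) * s), 0] * (τ * y * τ⁻¹ * y⁻¹)⁻¹ =
          Ψ ![(t : F) * η s, 0] := by
        rw [← c.torus_U t (η s), ← hη, ← hη, ← c.torus_U t s, ← hτd]
        group
      rw [h1, mul_inv_cancel_right] at h2
      simpa using congrFun (c.coord.inj h2) 0
    have hyy : y * y ∈ R := htwo _ (mul_mem hy hy) (c.swap_mul_mem hyL hyM hyL hyM)
    have hinv : η (η 1) = 1 := by
      have h1 := mem_cent.1 (c.R_le_cent ⟨c.mem_inf 1, c.coord.mem_core _⟩ hyy)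
      have h2 : y * y * Ψ ![1, 0] * (y * y)⁻¹ = Ψ ![η (η 1), 0] := by
        rw [← hη (η 1), ← hη 1]; group
      rw [h1, mul_inv_cancel_right] at h2
      simpa using (congrFun (c.coord.inj h2) 0).symm
    have h0 : η 0 = 0 := by
      have h2 := hη 0
      rw [show (![0, 0] : Fin 2 → F) = 0 by simp, c.coord.map_zero, mul_one, mul_inv_cancel,
        ← c.coord.map_zero] at h2
      simpa using (congrFun (c.coord.inj h2) 0).symm
    have hη1 : η 1 = 1 := by
      by_cases h1 : η 1 = 0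
      · rw [h1, h0] at hinv
        exact absurd hinv zero_ne_one
      · have h2 := hlin (Units.mk0 _ h1) 1
        rw [Units.val_mk0, mul_one, hinv] at h2
        have h3 : (η 1 + 1) * (η 1 + 1) = 0 := by
          linear_combination -h2 + (η 1 + 1) * (CharTwo.two_eq_zero (R := F))
        rw [eq_neg_of_add_eq_zero_left (mul_self_eq_zero.1 h3), CharTwo.neg_eq]
    obtain ⟨s, hs⟩ := c.swap_moves hG hyL hyM
    apply hs
    rw [hη]
    by_cases hs0 : s = 0
    · rw [hs0, h0]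
    · have := hlin (Units.mk0 s hs0) 1
      rw [Units.val_mk0, mul_one, hη1, mul_one] at this
      rw [this]
  have hR'ne : R' ≠ core2 L := by
    rw [hcore]
    intro e
    have hR'' : IsSyl R L := e ▸ hR'
    exact hy₁M (c.syl.1 (hR''.mem_of_two hy₁ hy₁ hy₁o))
  obtain ⟨y, hyL, hy, hyR⟩ := exists_invol_out hG hR' hR'ne
  rw [hcore] at hyR
  have hyM : y ∉ M := fun h => hyR (c.syl.mem_of_two h hyL (k := 1) (by rw [hy, pow_one]))
  have hyy : y * y = 1 := sq_eq_one hy
  have hyi : y⁻¹ = y := inv_eq_of_mul_eq_one_right hyy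
  obtain ⟨hDA, hAD⟩ := (c.norm_cases hyL).resolve_left fun h => hyM h.1
  have hmemA : ∀ d ∈ core2 M, y * d * y⁻¹ ∈ A := fun d hd => by
    rw [← hDA]; exact mem_map_of_mem _ hd
  choose η hη using c.swap_U hyL
  obtain ⟨s₀, hs₀⟩ := c.swap_moves hG hyL hyM
  have hηη : ∀ s, η (η s) = s := fun s => by
    have h2 : y * y * Ψ ![s, 0] * (y * y)⁻¹ = Ψ ![η (η s), 0] := by
      rw [← hη (η s), ← hη s]; group
    rw [hyy, one_mul, inv_one, mul_one] at h2
    simpa using (congrFun (c.coord.inj h2) 0).symm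
  have hηadd : ∀ s s', η (s + s') = η s + η s' := fun s s' => by
    have h2 : Ψ ![η (s + s'), 0] = Ψ ![η s + η s', 0] := by
      rw [← hη, show (![η s + η s', 0] : Fin 2 → F) = ![η s, 0] + ![η s', 0] by simp, c.coord.map_add,
        ← hη, ← hη, show (![s + s', 0] : Fin 2 → F) = ![s, 0] + ![s', 0] by simp, c.coord.map_add]
      group
    simpa using congrFun (c.coord.inj h2) 0
  have hs₀η : η s₀ ≠ s₀ := fun e => hs₀ (by rw [hη, e])
  set e₁ : F := s₀ + η s₀ with he₁
  have he₁0 : e₁ ≠ 0 := fun e => hs₀η (by rw [← CharTwo.neg_eq (η s₀)]; exact (eq_neg_of_add_eq_zero_left e).symm)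
  have he₁f : η e₁ = e₁ := by rw [he₁, hηadd, hηη, add_comm]
  have hfix : ∀ s, η s = s → s = 0 ∨ s = e₁ := by
    intro s hs
    by_contra hcon
    push Not at hcon
    -- four fixed points would be everything
    have hall : (Finset.univ : Finset F) = {0, s, e₁, s + e₁} := by
      refine (Finset.eq_univ_of_card _ ?_).symm
      rw [c.card_F]
      have h4 : s + e₁ ≠ 0 := fun e => hcon.2 (by rw [eq_neg_of_add_eq_zero_left e, CharTwo.neg_eq])
      rw [Finset.card_insert_of_notMem, Finset.card_insert_of_notMem, Finset.card_insert_of_notMem,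
        Finset.card_singleton]
      · simp only [Finset.mem_singleton]; intro e; exact hcon.1 (by simpa using e)
      · simp only [Finset.mem_insert, Finset.mem_singleton, not_or]
        exact ⟨hcon.2, fun e => he₁0 (by simpa using e)⟩
      · simp only [Finset.mem_insert, Finset.mem_singleton, not_or]
        exact ⟨hcon.1.symm, he₁0.symm, h4.symm⟩
    have hmem : s₀ ∈ ({0, s, e₁, s + e₁} : Finset F) := hall ▸ Finset.mem_univ s₀
    simp only [Finset.mem_insert, Finset.mem_singleton] at hmem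
    rcases hmem with rfl | rfl | e | e
    · exact hs₀η (by simpa using hηadd 0 0)
    · exact hs₀η hs
    · exact hs₀η (by rw [e, he₁f])
    · exact hs₀η (by rw [e, hηadd, hs, he₁f])
  set z := Ψ ![e₁, 0] with hz
  have hz1 : z ≠ 1 := fun e => he₁0 (by
    simpa using congrFun (c.coord.inj (e.trans c.coord.map_zero.symm)) 0)
  have hzy : y * z = z * y := mul_inv_eq_iff_eq_mul.1 (by rw [hz, hη, he₁f])
  have hUfix : ∀ x ∈ R, x * x = 1 → x * y = y * x → x = 1 ∨ x = z := by
    intro x hx hx2 hxy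
    have hyx : y * x * y⁻¹ = x := mul_inv_eq_iff_eq_mul.2 hxy.symm
    have hboth : x ∈ A ∧ x ∈ core2 M := by
      rcases c.invol x hx hx2 with h | h
      · exact ⟨hyx ▸ hmemA x h, h⟩
      · refine ⟨h, ?_⟩
        rw [← hAD, ← hyx]
        exact mem_map_of_mem _ h
    obtain ⟨s, rfl⟩ := c.inf_eq x hboth.1 hboth.2
    rw [hη] at hyx
    rcases hfix s (by simpa using congrFun (c.coord.inj hyx) 0) with h | h
    · left
      rw [h, show (![0, 0] : Fin 2 → F) = 0 by simp, c.coord.map_zero]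
    · exact Or.inr (by rw [hz, h])
  have hRsq : ∀ r ∈ R, r * r ∈ (A ⊓ core2 M : Subgroup G) := by
    intro r hr
    obtain ⟨d, hd, a, ha, rfl⟩ := c.decomp r hr
    have := c.conj_omega ha hd
    rwa [show d * a * d⁻¹ * a⁻¹ = d * a * (d * a) by
      rw [inv_eq_of_mul_eq_one_right (c.elemD d hd), inv_eq_of_mul_eq_one_right (c.maxE.2.1 a ha)]; group] at this
  -- a fixed element of order four
  obtain ⟨d, hd, hdA⟩ := SetLike.not_le_iff_exists.1 fun h : core2 M ≤ A =>
    c.D_ne_A (eq_of_le_of_card_ge h (by rw [c.cardA, c.cardD]))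
  set a := y * d * y⁻¹ with ha'
  have ha : a ∈ A := hmemA d hd
  have hyay : y * a * y⁻¹ = d := by
    rw [ha', hyi]
    calc y * (y * d * y) * y = (y * y) * d * (y * y) := by group
      _ = d := by rw [hyy]; group
  have hk : a * d * (a * d) = z := by
    have haR : a * d ∈ R := mul_mem (c.A_le_R ha) (c.D_le_R hd)
    have hU := hRsq _ haR
    have hU2 : a * d * (a * d) * (a * d * (a * d)) = 1 := c.maxE.2.1 _ hU.1
    refine (hUfix _ (mul_mem haR haR) hU2 ?_).resolve_left fun e => hdA ?_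
    · refine (mul_inv_eq_iff_eq_mul.1 ?_).symm
      rw [show y * (a * d * (a * d)) * y⁻¹ = (y * a * y⁻¹) * (y * d * y⁻¹) * ((y * a * y⁻¹) * (y * d * y⁻¹)) by
        group, hyay, ← ha']
      calc d * a * (d * a) = (a * d * (a * d))⁻¹ := by
            rw [_root_.mul_inv_rev, _root_.mul_inv_rev, inv_eq_of_mul_eq_one_right (c.elemD d hd),
              inv_eq_of_mul_eq_one_right (c.maxE.2.1 a ha)]
        _ = a * d * (a * d) := inv_eq_of_mul_eq_one_right hU2
    · have hcomm : a * d = d * a := mul_sq_comm (c.maxE.2.1 a ha) (c.elemD d hd) e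
      refine c.centA a ha (fun haD => hdA ?_) d (c.D_le_R hd) hcomm.symm
      have h5 := mem_map_of_mem (MulAut.conj y).toMonoidHom haD
      rw [hDA] at h5
      exact hyay ▸ h5
  set r₀ := d * a * Ψ ![s₀, 0] with hr₀
  have hr₀R : r₀ ∈ R := mul_mem (mul_mem (c.D_le_R hd) (c.A_le_R ha)) (c.A_le_R (c.mem_inf _))
  have hr₀y : r₀ * y = y * r₀ := by
    refine (mul_inv_eq_iff_eq_mul.1 ?_).symm
    rw [hr₀, show y * (d * a * Ψ ![s₀, 0]) * y⁻¹ =
      (y * d * y⁻¹) * (y * a * y⁻¹) * (y * Ψ ![s₀, 0] * y⁻¹) by group, hyay, ← ha', hη]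
    have hcU : ∀ s, Ψ ![s, 0] * a = a * Ψ ![s, 0] := fun s => c.maxE.2.1.comm (c.mem_inf s) ha
    have hcD : ∀ s, Ψ ![s, 0] * d = d * Ψ ![s, 0] := fun s => c.elemD.comm (c.coord.mem_core _) hd
    have had : a * d = d * a * z := by
      rw [← hk]
      calc a * d = d * ((d * d)⁻¹ * d) * (a * a)⁻¹ * (a * d) := by
            rw [c.elemD d hd, c.maxE.2.1 a ha]; simp [c.elemD d hd]
        _ = d * a * (a * d * (a * d)) := by
            rw [c.elemD d hd, c.maxE.2.1 a ha]
            simp only [inv_one, one_mul, mul_one]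
            rw [show d * a * (a * d * (a * d)) = d * (a * a) * d * (a * d) by group, c.maxE.2.1 a ha, mul_one,
              c.elemD d hd, one_mul]
    rw [had, mul_assoc, hz, ← c.coord.map_add]
    congr 2
    funext i
    fin_cases i
    · show e₁ + η s₀ = s₀
      rw [he₁, add_assoc, CharTwo.add_self_eq_zero, add_zero]
    · simp
  have hr₀2 : r₀ * r₀ = z := by
    have hu : Ψ ![s₀, 0] ∈ R := c.A_le_R (c.mem_inf _)
    have hcomm : Ψ ![s₀, 0] * (d * a) = d * a * Ψ ![s₀, 0] :=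
      (mem_cent.1 (c.R_le_cent ⟨c.mem_inf s₀, c.coord.mem_core _⟩ (mul_mem (c.D_le_R hd) (c.A_le_R ha)))).symm
    rw [hr₀, show d * a * Ψ ![s₀, 0] * (d * a * Ψ ![s₀, 0]) =
      d * a * (Ψ ![s₀, 0] * (d * a)) * Ψ ![s₀, 0] by group, hcomm,
      show d * a * (d * a * Ψ ![s₀, 0]) * Ψ ![s₀, 0] = (d * a * (d * a)) * (Ψ ![s₀, 0] * Ψ ![s₀, 0]) by group,
      c.coord.sq, mul_one]
    calc d * a * (d * a) = (a * d * (a * d))⁻¹ := by
          rw [_root_.mul_inv_rev, _root_.mul_inv_rev, inv_eq_of_mul_eq_one_right (c.elemD d hd),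
            inv_eq_of_mul_eq_one_right (c.maxE.2.1 a ha)]
      _ = z := by rw [hk, c.coord.inv_eq]
  have hy_two : ∀ {Q : Subgroup G}, IsPGroup 2 Q → ∀ x ∈ Q, y ∈ Q → x ∈ L → x ∈ R ∨ y * x ∈ R := by
    intro Q hQ x hx hyQ hxL
    by_cases hxM : x ∈ M
    · obtain ⟨k, hk⟩ := orderOf_eq_two_pow hQ hx
      exact Or.inl (c.syl.mem_of_two hxM hxL hk)
    · obtain ⟨k, hk⟩ := orderOf_eq_two_pow hQ (mul_mem hyQ hx)
      exact Or.inr (c.syl.mem_of_two (c.swap_mul_mem hyL hyM hxL hxM) (mul_mem hyL hxL) hk)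
  -- elementary subgroups centralised by `y`
  have hsmall : ∀ E : Subgroup G, Elem E → (∀ e ∈ E, e * y = y * e) → E ≤ L → Nat.card E ≤ 4 := by
    intro E hE hEy hEL
    have hC2 := hG y hy
    have hmem : ∀ e ∈ E, e = 1 ∨ e = z ∨ e = y ∨ e = y * z := by
      intro e he
      rcases hy_two hC2 e (mem_cent.2 (hEy e he)) (mem_cent.2 rfl) (hEL he) with h | h
      · exact (hUfix e h (hE e he) (hEy e he)).imp_right Or.inl
      · have h2 : y * e * (y * e) = 1 := by
          calc y * e * (y * e) = y * (e * y) * e := by group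
            _ = (y * y) * (e * e) := by rw [hEy e he]; group
            _ = 1 := by rw [hyy, hE e he, one_mul]
        have hcy : y * e * y = y * (y * e) := by rw [mul_assoc, hEy e he]
        have he' : e = y * (y * e) := by rw [← mul_assoc, hyy, one_mul]
        rcases hUfix _ h h2 hcy with h3 | h3
        · exact Or.inr (Or.inr (Or.inl (by rw [he', h3, mul_one])))
        · exact Or.inr (Or.inr (Or.inr (by rw [he', h3])))
    have hsub : (E : Set G) ⊆ ↑({1, z, y, y * z} : Finset G) := fun e he => by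
      simpa using hmem e he
    have := (Set.ncard_le_ncard hsub).trans ((Set.ncard_coe_finset _).le.trans Finset.card_le_four)
    rwa [← Nat.card_coe_set_eq] at this
  -- the 2-groups containing `R` and `y` normalise `R`
  have hQL : ∀ Q : Subgroup G, IsPGroup 2 Q → R ≤ Q → y ∈ Q → Q ≤ L := by
    intro Q hQ hRQ hyQ
    by_contra hne
    set S := Q ⊓ L with hS
    have hRS : R ≤ S := le_inf hRQ le_normalizer
    obtain ⟨v, hvQ, hvS, hvn⟩ := exists_mem_normalizer hQ (inf_le_left : S ≤ Q) fun e =>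
      hne (e ▸ inf_le_right)
    have hER : ∀ E : Subgroup G, Elem E → Nat.card E = 16 → E ≤ S → E ≤ R := by
      intro E hE hE16 hES e he
      rcases hy_two hQ e (hES he).1 hyQ (hES he).2 with h | h
      · exact h
      · exfalso
        -- `y e` lies in `R`, so `e` exchanges `D` and `A`
        have heM : e ∉ M := fun hm => hyM ((mul_mem_cancel_right hm).1 (c.syl.1 h))
        obtain ⟨h1, h2⟩ := (c.norm_cases (hES he).2).resolve_left fun hh => heM hh.1
        have hsub : (E ⊓ R : Subgroup G) ≤ (A ⊓ core2 M : Subgroup G) := by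
          rintro x ⟨hxE, hxR⟩
          have hxe : e * x * e⁻¹ = x := mul_inv_eq_iff_eq_mul.2 (hE.comm he hxE)
          rcases c.invol x hxR (hE x hxE) with hx | hx
          · exact ⟨hxe ▸ h1 ▸ mem_map_of_mem (MulAut.conj e).toMonoidHom hx, hx⟩
          · exact ⟨hx, hxe ▸ h2 ▸ mem_map_of_mem (MulAut.conj e).toMonoidHom hx⟩
        have hidx : (E ⊓ R : Subgroup G).relIndex E ≤ 2 := by
          have hall : ∀ b ∈ E, b ∉ R → e * b ∈ R := by
            intro b hb hbR
            have hby : y * b ∈ R := (hy_two hQ b (hES hb).1 hyQ (hES hb).2).resolve_left hbR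
            rw [show e * b = (y * e)⁻¹ * (y * b) * 1 * (1 : G) * 1 * 1 * 1 * 1 * 1 by
              rw [_root_.mul_inv_rev, inv_eq_of_mul_eq_one_right (hE e he)]; group] 
            simpa using mul_mem (inv_mem h) hby
          have h5 := card_le_two_mul_cit he hall
          rw [card_eq_mul_relIndex (inf_le_left : E ⊓ R ≤ E)] at h5
          exact Nat.le_of_mul_le_mul_left (h5.trans_eq (mul_comm _ _)) Nat.card_pos
        have h6 := card_eq_mul_relIndex (inf_le_left : E ⊓ R ≤ E)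
        have h7 := Nat.mul_le_mul (Subgroup.card_le_of_le hsub) hidx
        rw [← h6, hE16, c.cardU] at h7
        norm_num at h7
    have hv : ∀ K : Subgroup G, K ≤ R → Elem K → Nat.card K = 16 →
        K.map (MulAut.conj v).toMonoidHom ≤ R := fun K hK hKe hK16 => by
      refine hER _ (hKe.map (MulAut.conj v).toMonoidHom) ?_ ?_
      · rw [card_map_of_injective (f := (MulAut.conj v).toMonoidHom) (MulAut.conj v).injective, hK16]
      · exact (map_mono (hK.trans hRS)).trans (mem_normalizer_iff_map_conj_eq.1 hvn).le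
    refine hvS ⟨hvQ, mem_normalizer_of_conj fun x hx => ?_⟩
    obtain ⟨d, hd, a, ha, rfl⟩ := c.decomp x hx
    rw [show v * (d * a) * v⁻¹ = (v * d * v⁻¹) * (v * a * v⁻¹) by group]
    exact mul_mem (hv _ c.D_le_R c.elemD (c.cardD.trans (by norm_num)) (mem_map_of_mem _ hd))
      (hv _ c.A_le_R c.maxE.2.1 (c.cardA.trans (by norm_num)) (mem_map_of_mem _ ha))
  -- the centraliser of `y` normalises `R`
  have hCyL : centralizer ({y} : Set G) ≤ L := by
    by_contra hne
    set E := centralizer ({y} : Set G) ⊓ L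
    obtain ⟨v, hvC, hvE, hvn⟩ := exists_mem_normalizer (hG y hy) (inf_le_left : E ≤ _) fun e =>
      hne (e ▸ inf_le_right)
    have hr₀E : r₀ ∈ E := ⟨mem_cent.2 hr₀y, le_normalizer hr₀R⟩
    have hv0 := (mem_normalizer_iff.1 hvn r₀).1 hr₀E
    set w := v * r₀ * v⁻¹ with hw
    have hwc : w * y = y * w := mem_cent.1 hv0.1
    have hw2 : w * w = v * z * v⁻¹ := by rw [hw, ← hr₀2]; group
    have hsq : ∀ r ∈ R, r * y = y * r → r * r = 1 ∨ r * r = z := fun r hr hry =>
      hUfix _ (mul_mem hr hr) (c.maxE.2.1 _ (hRsq r hr).1) ((show Commute r y from hry).mul_left hry).eq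
    have hvz : v * z * v⁻¹ = z := by
      have h1 : w * w = 1 ∨ w * w = z := by
        rcases hy_two (hG y hy) w hv0.1 (mem_cent.2 rfl) hv0.2 with h | h
        · exact hsq w h hwc
        · have h2 := hsq _ h ((show Commute y y from rfl).mul_left hwc).eq
          rwa [show y * w * (y * w) = (y * y) * (w * w) by
            calc y * w * (y * w) = y * (w * y) * w := by group
              _ = _ := by rw [hwc]; group, hyy, one_mul] at h2
      rw [← hw2]
      exact h1.resolve_left fun e => hz1 (conj_eq_one_iff.1 (hw2 ▸ e))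
    refine hvE ⟨hvC, hQL _ (hG z (orderOf_two (c.coord.sq _) hz1))
      (c.R_le_cent ⟨c.mem_inf _, c.coord.mem_core _⟩) (mem_cent.2 hzy) ?_⟩
    exact mem_cent.2 (mul_inv_eq_iff_eq_mul.1 hvz)
  -- transfer
  set S := R ⊔ zpowers y with hSdef
  have hS2 : IsPGroup 2 S := IsPGroup.to_sup_of_normal_left' c.syl.2.1
    (IsPGroup.of_card (n := 1) (by rw [Nat.card_zpowers, hy, pow_one])) (zpowers_le.2 hyL)
  have hyS : y ∈ S := le_sup_right (a := R) (mem_zpowers y)
  obtain ⟨P, hP⟩ := hS2.exists_le_sylow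
  have hRP : R ≤ (P : Subgroup G) := le_sup_left.trans hP
  have hPL := hQL _ P.isPGroup' hRP (hP hyS)
  have hidx : R.relIndex (P : Subgroup G) = 2 := by
    rw [relIndex, Subgroup.index_eq_two_iff]
    refine ⟨⟨y, hP hyS⟩, fun b => ?_⟩
    rw [mem_subgroupOf, mem_subgroupOf, Subgroup.coe_mul]
    rcases hy_two P.isPGroup' b b.2 (hP hyS) (hPL b.2) with h | h
    · refine Or.inr ⟨h, fun hby => hyR ?_⟩
      exact (mul_mem_cancel_left h).1 hby
    · refine Or.inl ⟨?_, fun hb => hyR ((mul_mem_cancel_right hb).1 h)⟩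
      have hbn : y * (y * b) * y⁻¹ ∈ R := (mem_normalizer_iff.1 hyL _).1 h
      rwa [← mul_assoc, hyy, one_mul, hyi] at hbn
  rcases H6.thompson_transfer P R hRP hidx y hy with ⟨K, hK, hKi, -⟩ | ⟨g, hg⟩
  · exact simple_index_ne_two hnc K hK hKi
  · obtain ⟨E, hE, hE16, hEc⟩ := c.elem_cent hG hg
      (by rw [show g * y * g⁻¹ * (g * y * g⁻¹) = g * (y * y) * g⁻¹ by group, hyy]; group)
    set E' := E.map (MulAut.conj g⁻¹).toMonoidHom
    have hE'c : ∀ e ∈ E', e * y = y * e := by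
      rintro _ ⟨e, he, rfl⟩
      show g⁻¹ * e * g⁻¹⁻¹ * y = y * (g⁻¹ * e * g⁻¹⁻¹)
      calc g⁻¹ * e * g⁻¹⁻¹ * y = g⁻¹ * (e * (g * y * g⁻¹)) * g := by group
        _ = g⁻¹ * (g * y * g⁻¹ * e) * g := by rw [hEc e he]
        _ = _ := by group
    have h1 := hsmall E' (hE.map (MulAut.conj g⁻¹).toMonoidHom) hE'c fun e he =>
      hCyL (mem_cent.2 (hE'c e he))
    rw [card_map_of_injective (f := (MulAut.conj g⁻¹).toMonoidHom) (MulAut.conj g⁻¹).injective, hE16] at h1
    norm_num at h1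

/-- An element of order three normalising `R`, inverted by an involution of `M`. -/
theorem exists_tor : ∃ τ r : G, orderOf τ = 3 ∧ τ ∈ normalizer (R : Set G) ∧ r ∈ M ∧ orderOf r = 2 ∧
    r * τ * r⁻¹ = τ⁻¹ := by
  haveI := c.coord.charTwo
  obtain ⟨t, ht1, ht3⟩ := c.exists_unit
  obtain ⟨a, ha, hax⟩ := c.coord.upSurj 1
  set l := lft (H37.lower2 1) with hl
  set r := l * a * l⁻¹ with hr
  have haM : a ∈ M := c.syl.1 (c.A_le_R ha)
  have hrM : r ∈ M := mul_mem (mul_mem (c.coord.lft_mem _) haM) (inv_mem (c.coord.lft_mem _))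
  have hract : c.coord.Acts r H78.Nat2.ww := by
    have h1 := c.coord.acts_mul (c.coord.acts_mul (c.coord.acts_lft (H37.lower2 1)) (c.coord.acts_up hax))
      (c.coord.acts_inv (c.coord.acts_lft (H37.lower2 1)))
    have e : H37.lower2 (1 : F) * H37.upper2 1 * (H37.lower2 1)⁻¹ = H78.Nat2.ww := by
      rw [mul_inv_eq_iff_eq_mul]
      apply Subtype.ext
      ext i j
      fin_cases i <;> fin_cases j <;>
        simp [Matrix.SpecialLinearGroup.coe_mul, H78.Nat2.coe_ww, H37.coe_upper2, H37.coe_lower2,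
          Matrix.mul_apply, Fin.sum_univ_two, CharTwo.add_self_eq_zero, CharTwo.neg_eq]
    rwa [e] at h1
  have hr2 : r * r = 1 := by
    rw [hr, show l * a * l⁻¹ * (l * a * l⁻¹) = l * (a * a) * l⁻¹ by group, c.maxE.2.1 a ha]; group
  have hr1 : r ≠ 1 := fun e => by
    have := c.coord.acts_unique (e ▸ hract) c.coord.acts_one
    simpa [H78.Nat2.coe_ww] using congrArg (fun g : SL(2, F) => g 0 0) this
  set τ₀ := lft (H78.Nat2.hh t) with hτ₀
  set τ := τ₀ * r * τ₀⁻¹ * r⁻¹ with hτ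
  have hτM : τ ∈ M :=
    mul_mem (mul_mem (mul_mem (c.coord.lft_mem _) hrM) (inv_mem (c.coord.lft_mem _))) (inv_mem hrM)
  have hτact : c.coord.Acts τ (H78.Nat2.hh (t * t)) := by
    have h1 := c.coord.acts_mul (c.coord.acts_mul (c.coord.acts_mul (c.coord.acts_lft (H78.Nat2.hh t)) hract)
      (c.coord.acts_inv (c.coord.acts_lft (H78.Nat2.hh t)))) (c.coord.acts_inv hract)
    have e : H78.Nat2.hh t * H78.Nat2.ww * (H78.Nat2.hh t)⁻¹ * (H78.Nat2.ww : SL(2, F))⁻¹ =
        H78.Nat2.hh (t * t) := by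
      rw [mul_inv_eq_iff_eq_mul, mul_inv_eq_iff_eq_mul, H78.Nat2.hh_mul, mul_assoc, mul_assoc,
        H78.Nat2.ww_hh, ← mul_assoc (H78.Nat2.hh t) (H78.Nat2.hh t⁻¹), ← H78.Nat2.hh_mul,
        mul_inv_cancel, H78.Nat2.hh_one, one_mul]
    rwa [e] at h1
  have ht2 : t * t ≠ 1 := fun e => by
    have := orderOf_dvd_of_pow_eq_one (n := 2) (show t ^ 2 = 1 by rw [pow_two]; exact e)
    rw [ht3] at this
    norm_num at this
  have h3 : H78.Nat2.hh (t * t) ^ 3 = (1 : SL(2, F)) := by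
    rw [pow_three', ← H78.Nat2.hh_mul, ← H78.Nat2.hh_mul, show t * t * (t * t) * (t * t) = (t ^ 3) ^ 2 by
      simp [pow_succ, mul_assoc], ← ht3, pow_orderOf_eq_one, one_pow, H78.Nat2.hh_one]
  refine ⟨τ, r, c.coord.orderOf_three hG hτM hτact h3 (Semi.hh_ne_one_of_ne ht2), ?_, hrM,
    orderOf_two hr2 hr1, ?_⟩
  · have h1 := c.coord.acts_mul hτact (c.coord.acts_inv (c.coord.acts_lft (H78.Nat2.hh (t * t))))
    rw [mul_inv_cancel] at h1
    have hd := c.coord.mem_core_of_acts_one (mul_mem hτM (inv_mem (c.coord.lft_mem _))) h1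
    rw [show τ = τ * (lft (H78.Nat2.hh (t * t)))⁻¹ * lft (H78.Nat2.hh (t * t)) by group]
    exact mul_mem (le_normalizer (c.D_le_R hd)) (c.torus_normR _)
  · have key : ∀ p q : G, q * q = 1 → q * (p * q * p⁻¹ * q⁻¹) * q⁻¹ = (p * q * p⁻¹ * q⁻¹)⁻¹ := by
      intro p q hq
      have hqi : q⁻¹ = q := inv_eq_of_mul_eq_one_right hq
      calc q * (p * q * p⁻¹ * q⁻¹) * q⁻¹ = q * p * q * p⁻¹ * (q⁻¹ * q⁻¹) := by group
        _ = q * p * q⁻¹ * p⁻¹ := by rw [hqi, hq, mul_one]
        _ = _ := by group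
    exact key τ₀ r hr2

/-- No element of order fifteen. -/
theorem orderOf_ne_fifteen {x : G} (hx : x ∈ M) : orderOf x ≠ 15 := by
  classical
  haveI := c.coord.charTwo
  haveI : Fact (Nat.Prime 3) := ⟨Nat.prime_three⟩
  intro h15
  obtain ⟨g, hg⟩ := c.coord.top rfl x hx
  have hga : c.coord.Acts x g := hg
  have hne : ∀ k : ℕ, g ^ k = 1 → 15 ∣ k := by
    intro k hk
    have hd := c.coord.mem_core_of_acts_one (pow_mem hx k) (hk ▸ c.coord.acts_pow hga k)
    refine h15 ▸ orderOf_dvd_of_pow_eq_one (eq_one_of_odd_mem (isPGroup_core2 M) hd ?_)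
    exact (h15.symm ▸ (by decide : Odd 15)).of_dvd_nat (orderOf_pow_dvd k)
  have hg15 : g ^ 15 = 1 := by
    have hx15 : x ^ 15 = 1 := by rw [← h15]; exact pow_orderOf_eq_one x
    have h := c.coord.acts_pow hga 15
    rw [hx15] at h
    exact c.coord.acts_unique h c.coord.acts_one
  have h5 : orderOf (g ^ 5) = 3 := orderOf_eq_prime (by rw [← pow_mul]; exact hg15)
    (fun e => absurd (hne 5 e) (by norm_num))
  obtain ⟨t, ht1, ht3⟩ := c.exists_unit
  let hhom : Fˣ →* SL(2, F) := MonoidHom.mk' H78.Nat2.hh H78.Nat2.hh_mul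
  have hhi : Function.Injective hhom := fun a b hab => Units.ext (by
    simpa [hhom, H78.Nat2.coe_hh] using congrArg (fun g : SL(2, F) => g 0 0) hab)
  have hsyl : ∀ w : SL(2, F), orderOf w = 3 → ∃ P : Sylow 3 SL(2, F), (P : Subgroup SL(2, F)) = zpowers w := by
    intro w hw
    refine ⟨Sylow.ofCard (zpowers w) ?_, rfl⟩
    rw [Nat.card_zpowers, hw, card_SL2_char2 (n := 2) (by norm_num) c.coord.cardF,
      show 2 ^ 2 * ((2 ^ 2) ^ 2 - 1) = 3 ^ 1 * 20 by norm_num, Nat.factorization_mul (by norm_num) (by norm_num),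
      Finsupp.add_apply, Nat.prime_three.factorization_pow, Finsupp.single_eq_same,
      Nat.factorization_eq_zero_of_not_dvd (by norm_num)]
    norm_num
  obtain ⟨P, hP⟩ := hsyl _ h5
  obtain ⟨Q, hQ⟩ := hsyl (hhom t) (by rw [orderOf_injective hhom hhi, ht3])
  obtain ⟨k, hk⟩ := MulAction.exists_smul_eq SL(2, F) P Q
  have h1 : k * g ^ 5 * k⁻¹ ∈ (Q : Subgroup SL(2, F)) := by
    rw [← hk, Sylow.coe_subgroup_smul]
    exact H2.conj_smul_mem (hP ▸ mem_zpowers _)
  rw [hQ] at h1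
  obtain ⟨i, hi⟩ := h1
  set y := k * g ^ 3 * k⁻¹ with hy
  set u : Fˣ := t ^ i with hu
  have hiu : hhom u = k * g ^ 5 * k⁻¹ := by rw [hu, map_zpow]; exact hi
  have hu1 : u ≠ 1 := fun e => by
    rw [e, map_one, eq_comm, conj_eq_one_iff] at hiu
    rw [hiu, orderOf_one] at h5
    norm_num at h5
  have hu2 : (u : F) ≠ ((u⁻¹ : Fˣ) : F) := fun e => hu1 (by
    have e' : u = u⁻¹ := Units.ext e
    have h3' : orderOf u ∣ 3 := by
      rw [hu]
      refine orderOf_dvd_of_pow_eq_one ?_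
      rw [← zpow_natCast, ← _root_.zpow_mul, mul_comm, _root_.zpow_mul, zpow_natCast, ← ht3, pow_orderOf_eq_one, _root_.one_zpow]
    have h2' : orderOf u ∣ 2 := orderOf_dvd_of_pow_eq_one (by
      rw [pow_two]; exact mul_eq_one_iff_eq_inv.2 e')
    exact orderOf_eq_one_iff.1 (Nat.dvd_one.1 (by simpa using Nat.dvd_gcd h3' h2')))
  have hcomm : hhom u * y = y * hhom u := by
    rw [hiu, hy]
    calc k * g ^ 5 * k⁻¹ * (k * g ^ 3 * k⁻¹) = k * (g ^ 5 * g ^ 3) * k⁻¹ := by group
      _ = k * (g ^ 3 * g ^ 5) * k⁻¹ := by rw [← pow_add, ← pow_add, add_comm]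
      _ = k * g ^ 3 * k⁻¹ * (k * g ^ 5 * k⁻¹) := by group
  have e01 := congrArg (fun g : SL(2, F) => g 0 1) hcomm
  have e10 := congrArg (fun g : SL(2, F) => g 1 0) hcomm
  simp [hhom, Matrix.SpecialLinearGroup.coe_mul, H78.Nat2.coe_hh, Matrix.mul_apply, Fin.sum_univ_two]
    at e01 e10
  have hu2' : (u : F) ≠ (u : F)⁻¹ := by rwa [Units.val_inv_eq_inv_val] at hu2
  have y01 : y 0 1 = 0 := by
    by_contra h0
    exact hu2' (mul_right_cancel₀ h0 (by rw [e01, mul_comm]))
  have y10 : y 1 0 = 0 := by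
    by_contra h0
    exact hu2' (mul_right_cancel₀ h0 (by rw [e10, mul_comm]))
  have hdet : y 0 0 * y 1 1 = 1 := by
    have := y.2
    rw [Matrix.det_fin_two, y01, zero_mul, sub_zero] at this
    exact this
  have hyd : y = hhom (Units.mk0 (y 0 0) (left_ne_zero_of_mul_eq_one hdet)) := by
    apply Subtype.ext
    ext a b
    fin_cases a <;> fin_cases b <;>
      simp [hhom, H78.Nat2.coe_hh, y01, y10, eq_inv_of_mul_eq_one_right hdet]
  have hy3 : y ^ 3 = 1 := by
    rw [hyd, ← map_pow, show 3 = Nat.card Fˣ by rw [Nat.card_units, Nat.card_eq_fintype_card, c.card_F],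
      pow_card_eq_one', map_one]
  rw [hy, conj_pow, conj_eq_one_iff, ← pow_mul] at hy3
  exact absurd (hne _ hy3) (by norm_num)

/-- Conjugation is transitive on the non-trivial elements of `D`. -/
theorem transD {x y : G} (hx : x ∈ core2 M) (hx1 : x ≠ 1) (hy : y ∈ core2 M) (hy1 : y ≠ 1) :
    ∃ m ∈ M, m * x * m⁻¹ = y := by
  have key : ∀ v : Fin 2 → F, v ≠ 0 → ∃ g : SL(2, F), g.1.mulVec ![1, 0] = v := by
    intro v hv
    by_cases h0 : v 0 = 0
    · have h1 : v 1 ≠ 0 := fun h => hv (by funext i; fin_cases i <;> simp [h0, h])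
      refine ⟨⟨!![0, -(v 1)⁻¹; v 1, 0], by simp [det_fin_two_of, h1]⟩, ?_⟩
      funext i
      fin_cases i <;> simp [Matrix.mulVec, dotProduct, Fin.sum_univ_two, h0]
    · refine ⟨⟨!![v 0, 0; v 1, (v 0)⁻¹], by simp [det_fin_two_of, h0]⟩, ?_⟩
      funext i
      fin_cases i <;> simp [Matrix.mulVec, dotProduct, Fin.sum_univ_two]
  obtain ⟨v, rfl⟩ := c.surj x hx
  obtain ⟨w, rfl⟩ := c.surj y hy
  obtain ⟨g, hg⟩ := key v fun e => hx1 (by rw [e, c.coord.map_zero])
  obtain ⟨g', hg'⟩ := key w fun e => hy1 (by rw [e, c.coord.map_zero])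
  refine ⟨lft g' * (lft g)⁻¹, mul_mem (c.coord.lft_mem _) (inv_mem (c.coord.lft_mem _)), ?_⟩
  rw [← hg, ← hg', ← c.coord.act, ← c.coord.act]
  group

end Cfg

/-- Two 2-locals of order 960 on a common Sylow 2-subgroup of order 64, one class of involutions. -/
structure Pair (M R A : Subgroup G) : Prop where
  eqN : M = normalizer (core2 M : Set G)
  elemD : Elem (core2 M)
  elemA : Elem A
  cardD : Nat.card (core2 M) = 16
  cardA : Nat.card A = 16
  cardU : Nat.card (A ⊓ core2 M : Subgroup G) = 4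
  cardR : Nat.card R = 64
  cardM : Nat.card M = 960
  cardN : Nat.card (normalizer (A : Set G)) = 960
  coreN : core2 (normalizer (A : Set G)) = A
  R_eq : R = core2 M ⊔ A
  R_le : R ≤ M
  R_le' : R ≤ normalizer (A : Set G)
  two : IsPGroup 2 R
  full : ∀ Q : Subgroup G, IsPGroup 2 Q → R ≤ Q → Q = R
  elem_le : ∀ E : Subgroup G, E ≤ R → Elem E → E ≤ core2 M ∨ E ≤ A
  invol : ∀ r ∈ R, r * r = 1 → r ∈ core2 M ∨ r ∈ A
  normR : normalizer (R : Set G) ≤ M ⊓ normalizer (A : Set G)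
  centU : ∀ z ∈ (A ⊓ core2 M : Subgroup G), z ≠ 1 → centralizer ({z} : Set G) = R
  transD : ∀ x ∈ core2 M, ∀ y ∈ core2 M, x ≠ 1 → y ≠ 1 → ∃ m ∈ M, m * x * m⁻¹ = y
  transA : ∀ x ∈ A, ∀ y ∈ A, x ≠ 1 → y ≠ 1 → ∃ m ∈ normalizer (A : Set G), m * x * m⁻¹ = y
  conjU : ∀ i : G, orderOf i = 2 → ∃ g : G, g * i * g⁻¹ ∈ (A ⊓ core2 M : Subgroup G)
  tor : ∃ τ r : G, orderOf τ = 3 ∧ τ ∈ normalizer (R : Set G) ∧ r ∈ M ∧ orderOf r = 2 ∧ r * τ * r⁻¹ = τ⁻¹
  tor' : ∃ τ r : G, orderOf τ = 3 ∧ τ ∈ normalizer (R : Set G) ∧ r ∈ normalizer (A : Set G) ∧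
    orderOf r = 2 ∧ r * τ * r⁻¹ = τ⁻¹
  noFifteen : ∀ x ∈ normalizer (A : Set G), orderOf x ≠ 15
  noFifteen' : ∀ x ∈ M, orderOf x ≠ 15

/-- The configuration is symmetric. -/
theorem Pair.dual {M R A : Subgroup G} (p : Pair M R A) : Pair (normalizer (A : Set G)) R (core2 M) where
  eqN := by rw [p.coreN]
  elemD := by rw [p.coreN]; exact p.elemA
  elemA := p.elemD
  cardD := by rw [p.coreN]; exact p.cardA
  cardA := p.cardD
  cardU := by rw [p.coreN, inf_comm]; exact p.cardU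
  cardR := p.cardR
  cardM := p.cardN
  cardN := by rw [← p.eqN]; exact p.cardM
  coreN := by rw [← p.eqN]
  R_eq := by rw [p.coreN, sup_comm]; exact p.R_eq
  R_le := p.R_le'
  R_le' := by rw [← p.eqN]; exact p.R_le
  two := p.two
  full := p.full
  elem_le := fun E h1 h2 => by rw [p.coreN]; exact (p.elem_le E h1 h2).symm
  invol := fun r h1 h2 => by rw [p.coreN]; exact (p.invol r h1 h2).symm
  normR := by rw [← p.eqN, inf_comm]; exact p.normR
  centU := by rw [p.coreN, inf_comm]; exact p.centU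
  transD := by rw [p.coreN]; exact p.transA
  transA := by rw [← p.eqN]; exact p.transD
  conjU := by rw [p.coreN, inf_comm]; exact p.conjU
  tor := p.tor'
  tor' := by rw [← p.eqN]; exact p.tor
  noFifteen := by rw [← p.eqN]; exact p.noFifteen'
  noFifteen' := p.noFifteen

/-- A bad 2-local subgroup gives the pair. -/
theorem exists_pair (hG : IsCIT G) [IsSimpleGroup G] (hnc : ¬ IsMulCommutative G) (ih : Below G)
    {M₀ : Subgroup G} (hM₀ : IsTwoLocal M₀) (hnJ : ¬ JClosed M₀) (hnp : ¬ Progress M₀)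
    (hnexc : ¬ Exc G) : ∃ M R A : Subgroup G, Pair M R A := by
  classical
  haveI : Fact (Nat.Prime 2) := ⟨Nat.prime_two⟩
  obtain ⟨M, R, A, F, iF, iFt, n, Ψ, lft, c⟩ := exists_cfg hG hnc ih hM₀ hnJ hnp hnexc
  letI := iF
  letI := iFt
  obtain ⟨F', iF', iFt', Ψ', lft', c', hcore⟩ := c.exists_dual hG hnc ih
  letI := iF'
  letI := iFt'
  obtain rfl := c.n_eq_two hG c' hcore
  have hNR := c.normR_le hG hnc
  have hfull : ∀ Q : Subgroup G, IsPGroup 2 Q → R ≤ Q → Q = R := by
    intro Q hQ hRQ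
    by_contra hne
    obtain ⟨y, hyQ, hyR, hyn⟩ := exists_mem_normalizer hQ hRQ (Ne.symm hne)
    obtain ⟨k, hk⟩ := orderOf_eq_two_pow hQ hyQ
    exact hyR (c.syl.mem_of_two (hNR hyn) hyn hk)
  refine ⟨M, R, A, c.eqN, c.elemD, c.maxE.2.1, c.cardD.trans (by norm_num), c.cardA.trans (by norm_num),
    c.cardU.trans (by norm_num), c.cardR.trans (by norm_num), c.card_M, c'.card_M, hcore, c.R_eq,
    c.syl.1, c.R_le_normA, c.syl.2.1, hfull, fun E h1 h2 => c.elem_le h1 h2, c.invol, ?_, ?_,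
    fun x hx y hy h1 h2 => c.transD hG hx h1 hy h2, ?_, ?_, c.exists_tor hG, c'.exists_tor hG,
    fun _ hx => c'.orderOf_ne_fifteen hG hx, fun _ hx => c.orderOf_ne_fifteen hG hx⟩
  · intro y hy
    refine ⟨hNR hy, ?_⟩
    rcases c.norm_cases hy with h | h
    · exact mem_normalizer_iff_map_conj_eq.2 h.2
    · exact absurd ((mem_normalizer_iff_map_conj_eq.1
        (le_normalizer_core2 M (hNR hy))).symm.trans h.1) c.D_ne_A
  · exact fun z hz hz1 => hfull _ (hG z (orderOf_two (c.maxE.2.1 z hz.1) hz1)) (c.R_le_cent hz)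
  · intro x hx y hy h1 h2
    exact c'.transD hG (hcore.symm ▸ hx) h1 (hcore.symm ▸ hy) h2
  · intro i hi
    obtain ⟨P, hP⟩ := (IsPGroup.of_card (n := 1) (by rw [Nat.card_zpowers, hi, pow_one]) :
      IsPGroup 2 (zpowers i)).exists_le_sylow
    obtain ⟨PR, hPR⟩ := c.syl.2.1.exists_le_sylow
    obtain ⟨g, hg⟩ := MulAction.exists_smul_eq G P PR
    have hgi : g * i * g⁻¹ ∈ R := by
      rw [← hfull _ PR.isPGroup' hPR, ← hg, Sylow.coe_subgroup_smul]
      exact H2.conj_smul_mem (hP (mem_zpowers i))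
    have hne : g * i * g⁻¹ ≠ 1 := fun e => H65.ne_one_of_two hi (conj_eq_one_iff.1 e)
    obtain ⟨⟨z, hz⟩, hz1⟩ := Subgroup.ne_bot_iff_exists_ne_one.1 c.cardU_ne_bot
    have hz1' : z ≠ 1 := fun e => hz1 (Subtype.ext e)
    have hii : g * i * g⁻¹ * (g * i * g⁻¹) = 1 := by
      rw [show g * i * g⁻¹ * (g * i * g⁻¹) = g * (i * i) * g⁻¹ by group, sq_eq_one hi]; group
    rcases c.invol _ hgi hii with h | h
    · obtain ⟨m, -, hm⟩ := c.transD hG h hne hz.2 hz1'
      exact ⟨m * g, by rw [show m * g * i * (m * g)⁻¹ = m * (g * i * g⁻¹) * m⁻¹ by group, hm]; exact hz⟩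
    · obtain ⟨m, -, hm⟩ := c'.transD hG (hcore.symm ▸ h) hne (hcore.symm ▸ hz.1) hz1'
      exact ⟨m * g, by rw [show m * g * i * (m * g)⁻¹ = m * (g * i * g⁻¹) * m⁻¹ by group, hm]; exact hz⟩

end H11.CIT
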