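import Cfsg.Agent.H11.CIT.Closed
import Cfsg.Agent.H9.CITPlane
import Cfsg.Agent.H67.SECount
import Cfsg.Agent.H17.OrderSixty

/-!
Twenty-one closed points make a projective plane of order four whose stabiliser is the whole group.
-/

set_option autoImplicit false
set_option linter.style.haveILetI false
set_option linter.unusedSectionVars false

namespace H11.CIT

open Subgroup

universe u

variable {G : Type u} [Group G] [Finite G]

/-- The stabiliser of a set of subgroups under conjugation. -/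
def stabSet (P₀ : Finset (Subgroup G)) : Subgroup G where
  carrier := {g | ∀ P, cj g P ∈ P₀ ↔ P ∈ P₀}
  one_mem' := fun P => by rw [cj_one]
  mul_mem' := fun {a b} ha hb P => by rw [← cj_mul, ha, hb]
  inv_mem' := fun {a} ha P => by rw [← ha, cj_cancel_inv]

theorem mem_stabSet_of {P₀ : Finset (Subgroup G)} {g : G} (h : ∀ P ∈ P₀, cj g P ∈ P₀) :
    g ∈ stabSet P₀ := by
  classical
  have himg : P₀.image (cj g) = P₀ := Finset.eq_of_subset_of_card_le
    (fun Q hQ => by
      obtain ⟨P, hP, rfl⟩ := Finset.mem_image.1 hQ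
      exact h P hP)
    (Finset.card_image_of_injective _ fun P Q e => cj_inj e).ge
  intro P
  refine ⟨fun hP => ?_, h P⟩
  rw [← himg] at hP
  obtain ⟨Q, hQ, e⟩ := Finset.mem_image.1 hP
  exact cj_inj e ▸ hQ

/-- Twenty-one points closed under joining. -/
structure Closed21 (M A : Subgroup G) (P₀ : Finset (Subgroup G)) : Prop where
  card : P₀.card = 21
  base : A ∈ P₀
  isPt : ∀ P ∈ P₀, IsPt A P
  stabM : ∀ m ∈ M, ∀ P ∈ P₀, cj m P ∈ P₀
  closed : ∀ P ∈ P₀, ∀ Q l, Inc M A P l → Inc M A Q l → Q ∈ P₀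

namespace Closed21

variable {M R A : Subgroup G} {P₀ : Finset (Subgroup G)} (c : Closed21 M A P₀) (p : Pair M R A)
include c p

open Classical in
theorem joined {P Q : Subgroup G} (hP : P ∈ P₀) (hQ : Q ∈ P₀) (hne : P ≠ Q) :
    ∃ l, Inc M A P l ∧ Inc M A Q l := by
  letI := Fintype.ofFinite (Subgroup G)
  set LP := Finset.univ.filter fun l => Inc M A P l with hLP
  have hLP5 : LP.card = 5 := by
    rw [← p.dual.card_pts (l := P) (by rw [p.coreN]; exact c.isPt P hP)]
    congr 1
    ext l'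
    simp [hLP, p.inc_dual]
  set f := fun l => (Finset.univ.filter fun X => Inc M A X l).erase P with hf
  have hdisj : (LP : Set (Subgroup G)).PairwiseDisjoint f := by
    intro l hl l' hl' hll
    refine Finset.disjoint_left.2 fun X hX hX' => ?_
    obtain ⟨hne', hXl⟩ := Finset.mem_erase.1 hX
    obtain ⟨-, hXl'⟩ := Finset.mem_erase.1 hX'
    exact hne' (p.ln_share (Finset.mem_filter.1 (Finset.mem_coe.1 hl)).2 (Finset.mem_filter.1 hXl).2
      (Finset.mem_filter.1 (Finset.mem_coe.1 hl')).2 (Finset.mem_filter.1 hXl').2 hll).symm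
  have hsub : LP.biUnion f ⊆ P₀.erase P := by
    intro X hX
    obtain ⟨l, hl, hXf⟩ := Finset.mem_biUnion.1 hX
    obtain ⟨hXP, hXl⟩ := Finset.mem_erase.1 hXf
    exact Finset.mem_erase.2 ⟨hXP, c.closed P hP X l (Finset.mem_filter.1 hl).2 (Finset.mem_filter.1 hXl).2⟩
  have hc4 : ∀ l ∈ LP, (f l).card = 4 := by
    intro l hl
    have hl' := (Finset.mem_filter.1 hl).2
    have hmem : P ∈ Finset.univ.filter fun X => Inc M A X l := Finset.mem_filter.2 ⟨Finset.mem_univ _, hl'⟩
    simp only [hf]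
    rw [Finset.card_erase_of_mem hmem, p.card_pts hl'.isLn]
  have hcard : (LP.biUnion f).card = 20 := by
    rw [Finset.card_biUnion hdisj, Finset.sum_congr rfl hc4, Finset.sum_const, hLP5, smul_eq_mul]
  have heq := Finset.eq_of_subset_of_card_le hsub
    (by rw [hcard, Finset.card_erase_of_mem hP, c.card])
  obtain ⟨l, hl, hQl⟩ := Finset.mem_biUnion.1
    (show Q ∈ LP.biUnion f from heq.symm ▸ Finset.mem_erase.2 ⟨hne.symm, hQ⟩)
  exact ⟨l, (Finset.mem_filter.1 hl).2, (Finset.mem_filter.1 (Finset.mem_erase.1 hQl).2).2⟩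

theorem normalizer_le {P : Subgroup G} (hP : P ∈ P₀) : normalizer (P : Set G) ≤ stabSet P₀ := by
  intro g hg
  have hgP := mem_normalizer_iff_cj.1 hg
  refine mem_stabSet_of fun Q hQ => ?_
  by_cases hQP : P = Q
  · rwa [← hQP, hgP]
  obtain ⟨l, hPl, hQl⟩ := c.joined p hP hQ hQP
  have h := hPl.cj g
  rw [hgP] at h
  exact c.closed P hP _ _ h (hQl.cj g)

theorem trans {P : Subgroup G} (hP : P ∈ P₀) : ∃ g ∈ stabSet P₀, cj g A = P := by
  by_cases hAP : A = P
  · exact ⟨1, one_mem _, by rw [cj_one, hAP]⟩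
  obtain ⟨l, ⟨g, hgA, rfl⟩, hPl⟩ := c.joined p c.base hP hAP
  have hg : g ∈ stabSet P₀ := c.normalizer_le p c.base (mem_normalizer_iff_cj.2 hgA.symm)
  have h := hPl.cj g⁻¹
  rw [cj_inv_cancel] at h
  obtain ⟨k, hk1, hk2⟩ := h
  have hkM : k ∈ M := p.eqN.symm ▸ mem_normalizer_iff_cj.2 hk2.symm
  refine ⟨g * k, mul_mem hg (mem_stabSet_of (c.stabM k hkM)), ?_⟩
  rw [← cj_mul, ← hk1, cj_cancel_inv]

theorem card_stab : Nat.card (stabSet P₀) = 20160 := by
  classical
  letI := Fintype.ofFinite G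
  letI := Fintype.ofFinite (Subgroup G)
  have h := card_orbit (stabSet P₀) A
  have himg : (Finset.univ.filter fun x => x ∈ stabSet P₀).image (fun x => cj x A) = P₀ := by
    ext Q
    simp only [Finset.mem_image, Finset.mem_filter, Finset.mem_univ, true_and]
    exact ⟨fun ⟨x, hx, e⟩ => e ▸ (hx A).2 c.base, c.trans p⟩
  rw [himg, c.card, inf_eq_right.2 (c.normalizer_le p c.base), p.cardN] at h
  omega

theorem pt_mem {t : G} (ht : orderOf t = 2) (htS : t ∈ stabSet P₀) {P : Subgroup G} (hP : IsPt A P)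
    (htP : t ∈ P) : P ∈ P₀ := by
  obtain ⟨Q, hQ, hQt⟩ : ∃ Q ∈ P₀, cj t Q = Q := by
    by_contra hcon
    push Not at hcon
    have h := Finset.sum_involution (s := P₀) (f := fun _ => (1 : ZMod 2)) (fun Q _ => cj t Q)
      (fun _ _ => by decide) (fun Q hQ _ => hcon Q hQ) (fun Q hQ => (htS Q).2 hQ)
      (fun Q _ => by rw [cj_mul, sq_eq_one ht, cj_one])
    rw [Finset.sum_const, c.card] at h
    exact absurd h (by decide)
  obtain ⟨l, hl, htl⟩ := p.dual.invol_pt ht
  exact c.closed Q hQ P l (p.inc_of_fix ht (c.isPt Q hQ) (mem_normalizer_iff_cj.2 hQt) hl htl)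
    (p.inc_of_mem ht hP hl htP htl)

theorem stab_se (hne : stabSet P₀ ≠ ⊤) : Cfsg.IsStronglyEmbedded (stabSet P₀) := by
  refine (H65.se_iff hne (by rw [c.card_stab p]; decide)).2 fun t g ht htS hgt => ?_
  have hs : orderOf (g⁻¹ * t * g) = 2 := by
    rw [show g⁻¹ * t * g = MulAut.conj g⁻¹ t by simp, MulEquiv.orderOf_eq, ht]
  obtain ⟨Pt, hPt, htPt⟩ := p.invol_pt ht
  obtain ⟨Ps, hPs, hsPs⟩ := p.invol_pt hs
  have e : cj g Ps = Pt := p.pt_unique ht (hPs.cj g) hPt (mem_cj.2 hsPs) htPt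
  obtain ⟨a, ha, haA⟩ := c.trans p (c.pt_mem p ht htS hPt htPt)
  obtain ⟨b, hb, hbA⟩ := c.trans p (c.pt_mem p hs hgt hPs hsPs)
  have hm : a⁻¹ * g * b ∈ stabSet P₀ := c.normalizer_le p c.base (mem_normalizer_iff_cj.2 (by
    rw [← cj_mul, hbA, ← cj_mul, e, ← haA, cj_inv_cancel]))
  have := mul_mem (mul_mem ha hm) (inv_mem hb)
  rwa [show a * (a⁻¹ * g * b) * b⁻¹ = g by group] at this

theorem card_involIn : Nat.card (H67.involIn (stabSet P₀)) = 315 := by
  classical
  letI := Fintype.ofFinite G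
  letI := Fintype.ofFinite (Subgroup G)
  show Nat.card {t : G // orderOf t = 2 ∧ t ∈ stabSet P₀} = 315
  rw [Nat.card_eq_fintype_card, Fintype.card_subtype]
  set S := Finset.univ.filter fun t : G => orderOf t = 2 ∧ t ∈ stabSet P₀ with hS
  let f : G → Subgroup G := fun x => if h : orderOf x = 2 then (p.invol_pt h).choose else ⊥
  have hf : ∀ x, orderOf x = 2 → IsPt A (f x) ∧ x ∈ f x := fun x hx => by
    simp only [f, dif_pos hx]
    exact (p.invol_pt hx).choose_spec
  have hmaps : ∀ x ∈ S, f x ∈ P₀ := fun x hx => by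
    obtain ⟨hx2, hxS⟩ := (Finset.mem_filter.1 hx).2
    exact c.pt_mem p hx2 hxS (hf x hx2).1 (hf x hx2).2
  have hfib : ∀ P ∈ P₀, (S.filter fun x => f x = P).card = 15 := by
    intro P hP
    have e : (S.filter fun x => f x = P) = (Finset.univ.filter fun x : G => x ∈ P).erase 1 := by
      ext x
      simp only [hS, Finset.mem_filter, Finset.mem_univ, true_and, Finset.mem_erase]
      constructor
      · rintro ⟨⟨hx2, -⟩, rfl⟩
        exact ⟨H65.ne_one_of_two hx2, (hf x hx2).2⟩
      · rintro ⟨hx1, hxP⟩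
        have hx2 : orderOf x = 2 := orderOf_two ((p.pt_elem (c.isPt P hP)).1 x hxP) hx1
        exact ⟨⟨hx2, c.normalizer_le p hP (le_normalizer (H := P) hxP)⟩,
          p.pt_unique hx2 (hf x hx2).1 (c.isPt P hP) (hf x hx2).2 hxP⟩
    rw [e, Finset.card_erase_of_mem (by simp [one_mem]), ← Fintype.card_subtype, ← Nat.card_eq_fintype_card]
    show Nat.card P - 1 = 15
    rw [(p.pt_elem (c.isPt P hP)).2]
  rw [Finset.card_eq_sum_card_fiberwise hmaps, Finset.sum_congr rfl hfib, Finset.sum_const, c.card,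
    smul_eq_mul]

theorem stab_top : stabSet P₀ = ⊤ := by
  classical
  letI := Fintype.ofFinite G
  letI := Fintype.ofFinite (Subgroup G)
  by_contra hne
  have hse := c.stab_se p hne
  set L := stabSet P₀ with hL
  obtain ⟨g, -, hg⟩ := SetLike.exists_of_lt (lt_top_iff_ne_top.mpr hne)
  set K := L ⊓ cj g L with hK
  have hodd : Odd (Nat.card K) := hse.2.2 g hg
  have hI : Nat.card (H67.involTo L g) = 315 := (H67.card_involTo hse hg).trans (c.card_involIn p)
  obtain ⟨u, hu, hug⟩ : Nonempty (H67.involTo L g) := (Nat.card_pos_iff.1 (by rw [hI]; norm_num)).1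
  have hK315 : 315 ≤ Nat.card K := by
    rw [← hI]
    refine Nat.card_le_card_of_injective (fun i : H67.involTo L g => (⟨u * i.1,
      H67.mul_mem_of_involTo hu hug i.2.2, mem_cj.2 ?_⟩ : K))
      fun i j e => Subtype.ext (mul_left_cancel (congrArg Subtype.val e))
    have h := mul_mem hug (inv_mem i.2.2)
    rw [mul_inv_rev, inv_inv, inv_eq_of_mul_eq_one_right (sq_eq_one i.2.1)] at h
    simpa [mul_assoc] using h
  have hKd : Nat.card K ∣ 315 := by
    have h : Nat.card K ∣ 64 * 315 := by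
      rw [show 64 * 315 = Nat.card L by rw [hL, c.card_stab p]]
      exact Subgroup.card_dvd_of_le inf_le_left
    exact ((Nat.coprime_two_right.2 hodd).pow_right 6).dvd_of_dvd_mul_left h
  have hKeq : Nat.card K = 315 := le_antisymm (Nat.le_of_dvd (by norm_num) hKd) hK315
  have horb := card_orbit K A
  rw [hKeq] at horb
  set K' := K ⊓ normalizer (A : Set G) with hK'
  have himg : ((Finset.univ.filter fun x => x ∈ K).image fun x => cj x A).card ≤ 21 := by
    rw [← c.card]
    refine Finset.card_le_card fun Q hQ => ?_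
    obtain ⟨x, hx, rfl⟩ := Finset.mem_image.1 hQ
    exact ((Finset.mem_filter.1 hx).2.1 A).2 c.base
  have hd1 : Nat.card K' ∣ 315 := hKeq ▸ Subgroup.card_dvd_of_le inf_le_left
  have hd2 : Nat.card K' ∣ 960 := p.cardN ▸ Subgroup.card_dvd_of_le inf_le_right
  have hd : Nat.card K' ∣ 15 := by simpa using Nat.dvd_gcd hd1 hd2
  have h15 : Nat.card K' = 15 := by
    have hle := Nat.le_of_dvd (by norm_num) hd
    by_contra h
    have h14 : Nat.card K' ≤ 14 := by omega
    have := Nat.mul_le_mul himg h14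
    omega
  haveI : Fact (Nat.Prime 3) := ⟨Nat.prime_three⟩
  obtain ⟨x, hx⟩ := exists_prime_orderOf_dvd_card' (G := K') 3 (by rw [h15]; norm_num)
  obtain ⟨y, hy⟩ := H17.exists_fifteen_of_small (H := (⊤ : Subgroup K'))
    (by rw [Subgroup.card_top, h15]; norm_num) (by rw [Subgroup.card_top, h15]; norm_num) hx
    (fun a _ => mem_top _)
  exact p.noFifteen y y.2.2 (by rw [orderOf_coe]; exact hy)

theorem recognition [IsSimpleGroup G] :
    ∃ (F : Type) (_ : Field F) (_ : Fintype F), Fintype.card F = 4 ∧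
      Nonempty (G ≃* Matrix.ProjectiveSpecialLinearGroup (Fin 3) F) := by
  classical
  letI := Fintype.ofFinite (Subgroup G)
  have htop := c.stab_top p
  have hall : ∀ g : G, ∀ P, cj g P ∈ P₀ ↔ P ∈ P₀ := fun g =>
    (htop ▸ mem_top g : g ∈ stabSet P₀)
  have hptP : ∀ P, IsPt A P → P ∈ P₀ := fun P ⟨g, hg⟩ => hg ▸ (hall g A).2 c.base
  have hG : Nat.card G = 20160 := by
    rw [← c.card_stab p, htop, Subgroup.card_top]
  let α : Type u := {P : Subgroup G // P ∈ P₀}
  letI : MulAction G α :=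
    { smul := fun g P => ⟨cj g P.1, (hall g P.1).2 P.2⟩
      one_smul := fun P => Subtype.ext (cj_one P.1)
      mul_smul := fun g k P => Subtype.ext (cj_mul g k P.1).symm }
  have hinj : Function.Injective (MulAction.toPermHom G α) := by
    rw [← MonoidHom.ker_eq_bot_iff]
    refine (IsSimpleGroup.eq_bot_or_eq_top_of_normal _ inferInstance).resolve_right fun htop' => ?_
    have hN : normalizer (A : Set G) = ⊤ := eq_top_iff.2 fun g _ => by
      have hg : g ∈ (MulAction.toPermHom G α).ker := htop' ▸ mem_top g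
      exact mem_normalizer_iff_cj.2 (congrArg Subtype.val (Equiv.Perm.congr_fun hg ⟨A, c.base⟩))
    have h := p.cardN
    rw [hN, Subgroup.card_top, hG] at h
    norm_num at h
  haveI : FaithfulSMul G α := ⟨fun h => hinj (Equiv.ext h)⟩
  have hline : ∀ l, IsPt (core2 M) l →
      (Finset.univ.filter fun P : α => Inc M A P.1 l).card = 5 := by
    intro l hl
    rw [← p.card_pts hl]
    refine Finset.card_bij (fun P _ => P.1) (fun P hP => ?_) (fun P _ Q _ e => Subtype.ext e) fun P hP => ?_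
    · exact Finset.mem_filter.2 ⟨Finset.mem_univ _, (Finset.mem_filter.1 hP).2⟩
    · have h := (Finset.mem_filter.1 hP).2
      exact ⟨⟨P, hptP P h.isPt⟩, Finset.mem_filter.2 ⟨Finset.mem_univ _, h⟩, rfl⟩
  set L : Set (Finset α) :=
    {s | ∃ l, IsPt (core2 M) l ∧ s = Finset.univ.filter fun P : α => Inc M A P.1 l}
  refine Cfsg.Agent.H9.CITPlane.planeRecognition G α L ⟨?_, ?_, fun s hs => ?_⟩ ?_ hG
  · rw [Fintype.card_coe, c.card]
  · rintro s ⟨l, hl, rfl⟩
    exact hline l hl
  · obtain ⟨a, b, hab, rfl⟩ := Finset.card_eq_two.1 hs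
    obtain ⟨l, hal, hbl⟩ := c.joined p a.2 b.2 fun e => hab (Subtype.ext e)
    refine ⟨_, ⟨⟨l, hal.isLn, rfl⟩, ?_⟩, ?_⟩
    · simp [Finset.insert_subset_iff, hal, hbl]
    · rintro _ ⟨⟨l', -, rfl⟩, hsub⟩
      simp only [Finset.insert_subset_iff, Finset.singleton_subset_iff, Finset.mem_filter, Finset.mem_univ,
        true_and] at hsub
      by_cases hll : l' = l
      · rw [hll]
      · exact absurd (Subtype.ext (p.ln_share hsub.1 hsub.2 hal hbl hll)) hab
  · rintro g _ ⟨l, hl, rfl⟩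
    refine ⟨cj g l, hl.cj g, ?_⟩
    ext Q
    simp only [Finset.mem_image, Finset.mem_filter, Finset.mem_univ, true_and]
    constructor
    · rintro ⟨P, hP, rfl⟩
      exact hP.cj g
    · intro hQ
      refine ⟨g⁻¹ • Q, ?_, smul_inv_smul g Q⟩
      have h := hQ.cj g⁻¹
      rwa [cj_inv_cancel] at h

end Closed21

/-- A pair of locals of the exceptional kind gives `PSL₃(4)`. -/
theorem Pair.psl34 {M R A : Subgroup G} (p : Pair M R A) (hG : IsCIT G) [IsSimpleGroup G] :
    ∃ (F : Type) (_ : Field F) (_ : Fintype F), Fintype.card F = 4 ∧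
      Nonempty (G ≃* Matrix.ProjectiveSpecialLinearGroup (Fin 3) F) := by
  obtain ⟨P₀, h1, h2, h3, h4, h5⟩ := p.exists_closed hG
  exact Closed21.recognition (P₀ := P₀) ⟨h1, h2, h3, h4, h5⟩ p

end H11.CIT
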