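import Cfsg.Agent.H11.CIT.Main
import Cfsg.Agent.H64.SL2Spectrum
import Cfsg.Agent.H93.Basic
import Cfsg.Agent.H64.ThreePrimes
import Cfsg.Agent.H62.Basic
import Cfsg.Agent.H1.Hall

/-!
Quotients of groups with 2-group involution centralisers by normal 2-subgroups, and the 2-rank of
solvable 2-local subgroups.
-/

set_option autoImplicit false
set_option linter.style.haveILetI false
set_option linter.unusedSectionVars false

namespace H11.CIT

open Subgroup

universe u

variable {G : Type u} [Group G] [Finite G]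

theorem IsCIT.no_two_mult (hG : IsCIT G) {g : G} {q : ℕ} (hq : q.Prime) (hq2 : q ≠ 2)
    (hd : q * 2 ∣ orderOf g) : False := by
  have hpos := orderOf_pos g
  set w := g ^ (orderOf g / q) with hw
  have hwq : orderOf w = q := orderOf_pow_orderOf_div hpos.ne' (dvd_of_mul_right_dvd hd)
  have ht : orderOf (g ^ (orderOf g / 2)) = 2 := orderOf_pow_orderOf_div hpos.ne' (dvd_of_mul_left_dvd hd)
  have h1 := hG.fpf (w := w) (x := g ^ (orderOf g / 2)) (k := 1) (hwq ▸ hq.odd_of_ne_two hq2)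
    (fun e => by rw [e, orderOf_one] at hwq; exact hq.ne_one hwq.symm) (by rw [ht, pow_one])
    ((Commute.refl g).pow_pow _ _).eq
  rw [h1, orderOf_one] at ht
  norm_num at ht

/-- The quotient by a normal 2-subgroup. -/
theorem IsCIT.quotient (hG : IsCIT G) (N : Subgroup G) [N.Normal] (hN : IsPGroup 2 N) :
    IsCIT (G ⧸ N) := by
  intro t ht
  haveI : Fact (Nat.Prime 2) := ⟨Nat.prime_two⟩
  rw [IsPGroup.iff_card]
  refine ⟨(Nat.card (centralizer ({t} : Set (G ⧸ N)))).primeFactorsList.length,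
    Nat.eq_prime_pow_of_unique_prime_dvd Nat.card_pos.ne' fun {q} hq hqd => ?_⟩
  by_contra hq2
  haveI := Fact.mk hq
  obtain ⟨⟨x, hx⟩, hxo⟩ := exists_prime_orderOf_dvd_card' q hqd
  rw [orderOf_mk] at hxo
  have hprod : orderOf (x * t) = q * 2 := by
    rw [(show Commute x t from mem_cent.1 hx).orderOf_mul_eq_mul_orderOf_of_coprime
      (by rw [hxo, ht]; exact (Nat.coprime_primes hq Nat.prime_two).2 hq2), hxo, ht]
  obtain ⟨y, hy⟩ := QuotientGroup.mk'_surjective N (x * t)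
  refine hG.no_two_mult hq hq2 (g := y) (hprod.symm.dvd.trans ?_)
  rw [← hy]
  exact orderOf_map_dvd _ y

omit [Finite G] in
theorem card_le_two_mul_cit [Finite G] {A D : Subgroup G} {a : G} (ha : a ∈ A)
    (hall : ∀ b ∈ A, b ∉ D → a * b ∈ D) : Nat.card A ≤ 2 * Nat.card (A ⊓ D : Subgroup G) := by
  classical
  rw [two_mul, ← Nat.card_sum]
  refine Nat.card_le_card_of_injective (fun b : A =>
    if hb : (b : G) ∈ D then Sum.inl (⟨b, b.2, hb⟩ : (A ⊓ D : Subgroup G))
    else Sum.inr ⟨a * b, mul_mem ha b.2, hall b b.2 hb⟩) ?_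
  intro x y e
  by_cases hx : (x : G) ∈ D <;> by_cases hy : (y : G) ∈ D <;> simp [hx, hy] at e
  · exact Subtype.ext (congrArg Subtype.val e :)
  · exact Subtype.ext (mul_left_cancel (congrArg Subtype.val e :))

/-- Solvable 2-local subgroups have 2-rank one modulo the core. -/
theorem rank_le_cit (hG : IsCIT G) (M : Subgroup G) [Group.IsSolvable M] (A : Subgroup G) (hAM : A ≤ M) (hA : Elem A) :
    Nat.card A ≤ 2 * Nat.card (A ⊓ core2 M : Subgroup G) := by
  classical
  haveI : Fact (Nat.Prime 2) := ⟨Nat.prime_two⟩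
  by_contra hgt
  obtain ⟨a, haA, haD⟩ : ∃ a ∈ A, a ∉ core2 M := by
    by_contra hall
    push Not at hall
    rw [inf_eq_left.2 (show A ≤ core2 M from hall)] at hgt
    omega
  obtain ⟨b, hbA, hbD, habD⟩ : ∃ b ∈ A, b ∉ core2 M ∧ a * b ∉ core2 M := by
    by_contra hall
    push Not at hall
    exact hgt (card_le_two_mul_cit haA hall)
  set D := Cfsg.pCore 2 M with hD
  haveI := H1.pCore_characteristic 2 M
  let π := QuotientGroup.mk' D
  haveI : Nontrivial (M ⧸ D) := ⟨⟨π ⟨a, hAM haA⟩, 1, fun e =>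
    haD ((mem_core2_iff (hAM haA)).2 ((QuotientGroup.eq_one_iff _).1 e))⟩⟩
  obtain ⟨q, V, hq, hVn, hVb, hVq⟩ := H1.exists_normal_pgroup_ne_bot (M ⧸ D)
  haveI := hVn
  haveI := Fact.mk hq
  have hq2 : q ≠ 2 := by
    rintro rfl
    refine hVb (le_bot_iff.1 fun v hv => ?_)
    obtain ⟨x, rfl⟩ := QuotientGroup.mk'_surjective D v
    have h1 : IsPGroup 2 (V.comap π) :=
      hVq.comap_of_ker_isPGroup _ (by rw [QuotientGroup.ker_mk']; exact H1.isPGroup_pCore 2 M)
    exact mem_bot.2 ((QuotientGroup.eq_one_iff x).2 (H1.le_pCore h1 hv))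
  -- an involution with a fixed point in `V`
  have key : ∃ c : M, c * c = 1 ∧ c ∉ D ∧ ∃ v ∈ V, v ≠ 1 ∧ π c * v = v * π c := by
    by_contra hcon
    push Not at hcon
    have hinv : ∀ c : M, c * c = 1 → c ∉ D → ∀ v ∈ V, π c * v * (π c)⁻¹ = v⁻¹ := by
      intro c hc hcD v hv
      refine H93.conj_eq_inv_of_fixedPointFree (by rw [← map_mul, hc, map_one])
        (by rw [normalizer_eq_top]; exact mem_top _) (fun k hk hk' => ?_) hv
      by_contra hk1
      exact hcon c hc hcD k hk hk1 hk'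
    haveI : Nontrivial V := (nontrivial_iff_ne_bot V).2 hVb
    obtain ⟨⟨v, hv⟩, hv1⟩ := exists_ne (1 : V)
    have hv1' : v ≠ 1 := fun e => hv1 (Subtype.ext e)
    set a' : M := ⟨a, hAM haA⟩
    set b' : M := ⟨b, hAM hbA⟩
    have ha2 : a' * a' = 1 := Subtype.ext (hA a haA)
    have hb2 : b' * b' = 1 := Subtype.ext (hA b hbA)
    have hab2 : a' * b' * (a' * b') = 1 := Subtype.ext (hA _ (mul_mem haA hbA))
    have haD' : a' ∉ D := fun e => haD ((mem_core2_iff _).2 e)
    have hbD' : b' ∉ D := fun e => hbD ((mem_core2_iff _).2 e)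
    have habD' : a' * b' ∉ D := fun e => habD ((mem_core2_iff (mul_mem (hAM haA) (hAM hbA))).2 e)
    have h1 := hinv _ hab2 habD' v hv
    rw [map_mul] at h1
    have h2 : π a' * π b' * v * (π a' * π b')⁻¹ = v := by
      calc π a' * π b' * v * (π a' * π b')⁻¹ = π a' * (π b' * v * (π b')⁻¹) * (π a')⁻¹ := by group
        _ = (π a' * v * (π a')⁻¹)⁻¹ := by rw [hinv b' hb2 hbD' v hv]; group
        _ = v := by rw [hinv a' ha2 haD' v hv, inv_inv]
    rw [h2] at h1
    obtain ⟨i, hi⟩ := IsPGroup.iff_orderOf.1 hVq ⟨v, hv⟩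
    rw [orderOf_mk, orderOf_two (mul_eq_one_iff_eq_inv.2 h1) hv1'] at hi
    rcases Nat.eq_zero_or_pos i with rfl | hi0
    · norm_num at hi
    · exact hq2 ((Nat.prime_dvd_prime_iff_eq hq Nat.prime_two).1 (hi ▸ dvd_pow_self q hi0.ne'))
  obtain ⟨c, hc, hcD, v, hv, hv1, hcv⟩ := key
  obtain ⟨i, hi⟩ := IsPGroup.iff_orderOf.1 hVq ⟨v, hv⟩
  rw [orderOf_mk] at hi
  obtain ⟨w, ⟨n, rfl⟩, hw⟩ := H64.exists_orderOf_of_dvd v (n := q) (by
    rw [hi]
    refine dvd_pow_self q fun e => hv1 (orderOf_eq_one_iff.1 ?_)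
    rw [hi, e, pow_zero])
  have hπc : orderOf (π c) = 2 := orderOf_two (by rw [← map_mul, hc, map_one])
    (fun e => hcD ((QuotientGroup.eq_one_iff c).1 e))
  have hprod : orderOf (v ^ n * π c) = q * 2 := by
    rw [((show Commute v (π c) from hcv.symm).zpow_left n).orderOf_mul_eq_mul_orderOf_of_coprime
      (by rw [hw, hπc]; exact (Nat.coprime_primes hq Nat.prime_two).2 hq2), hw, hπc]
  obtain ⟨y, hy⟩ := QuotientGroup.mk'_surjective D (v ^ n * π c)
  refine (hG.subgroup M).no_two_mult hq hq2 (g := y) (hprod.symm.dvd.trans ?_)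
  rw [← hy]
  exact orderOf_map_dvd π y

end H11.CIT
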