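import Cfsg.Agent.H11.CIT.Main
import Cfsg.Agent.H30.EPPO
import Cfsg.Agent.H64.ThreePrimes
import Cfsg.Agent.H2.FPFSubgroup
import Cfsg.Agent.H37.SmallIso
import Cfsg.Agent.H37.SmallIsoBig
import Cfsg.Agent.H62.Basic
import Cfsg.Agent.H93.Basic

/-!
Groups all of whose element orders are powers of two or primes different from five: basic facts, and
the properties of `PSL₂(7)` which the induction needs.
-/

set_option autoImplicit false
set_option linter.style.haveILetI false
set_option linter.unusedSectionVars false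

namespace H11.CIT

open Subgroup

universe u

variable {G : Type u} [Group G] [Finite G]

/-- Element orders are powers of two or primes other than five. -/
def Spec (G : Type u) [Group G] : Prop :=
  ∀ g : G, g ≠ 1 → (∃ k, orderOf g = 2 ^ k) ∨ ((orderOf g).Prime ∧ orderOf g ≠ 5)

abbrev PSLSeven : Type := Matrix.ProjectiveSpecialLinearGroup (Fin 2) (ZMod 7)

namespace Spec

variable (h : Spec G)
include h

theorem subgroup (H : Subgroup G) : Spec H := fun g hg => by
  rw [← orderOf_coe]
  exact h g fun e => hg (Subtype.ext e)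

theorem of_surjective {X : Type u} [Group X] (f : G →* X) (hf : Function.Surjective f) : Spec X := by
  intro x hx
  obtain ⟨g, rfl⟩ := hf x
  obtain ⟨y, -, hy⟩ := H64.exists_orderOf_map f g rfl
  rw [← hy]
  exact h y fun e => hx (by rw [← orderOf_eq_one_iff, ← hy, e, orderOf_one])

/-- No element order is a proper multiple of an odd prime. -/
theorem no_mult {g : G} {p m : ℕ} (hp : p.Prime) (hp2 : p ≠ 2) (hm : 1 < m)
    (hd : p * m ∣ orderOf g) : False := by
  have hg : g ≠ 1 := fun e => by
    rw [e, orderOf_one, Nat.dvd_one] at hd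
    have := Nat.eq_one_of_mul_eq_one_right hd
    exact hp.ne_one this
  rcases h g hg with ⟨k, hk⟩ | ⟨hq, -⟩
  · rw [hk] at hd
    exact hp2 ((Nat.prime_dvd_prime_iff_eq hp Nat.prime_two).1
      (hp.dvd_of_dvd_pow (dvd_of_mul_right_dvd hd)))
  · rcases (Nat.dvd_prime hq).1 hd with h1 | h1
    · exact hp.ne_one (Nat.eq_one_of_mul_eq_one_right h1)
    · rcases (Nat.dvd_prime hq).1 (dvd_of_mul_right_dvd hd) with h2 | h2
      · exact hp.ne_one h2
      · rw [← h2] at h1
        exact absurd h1 (by have := hp.two_le; nlinarith)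

/-- Elements of distinct prime orders, one of them odd, do not commute. -/
theorem no_commute {x y : G} {p q : ℕ} (hp : p.Prime) (hp2 : p ≠ 2) (hq : q.Prime) (hne : p ≠ q)
    (hx : orderOf x = p) (hy : orderOf y = q) (hc : x * y = y * x) : False := by
  refine h.no_mult hp hp2 hq.one_lt (g := x * y) (dvd_of_eq ?_)
  rw [(show Commute x y from hc).orderOf_mul_eq_mul_orderOf_of_coprime
    (by rw [hx, hy]; exact (Nat.coprime_primes hp hq).2 hne), hx, hy]

theorem cent_pgroup {p : ℕ} [Fact p.Prime] {x : G} (hx : orderOf x = p) :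
    IsPGroup p (centralizer ({x} : Set G)) := by
  have hp : p.Prime := Fact.out
  rw [IsPGroup.iff_card]
  refine ⟨(Nat.card (centralizer ({x} : Set G))).primeFactorsList.length,
    Nat.eq_prime_pow_of_unique_prime_dvd Nat.card_pos.ne' fun {q} hq hqd => ?_⟩
  haveI := Fact.mk hq
  obtain ⟨y, hy⟩ := exists_prime_orderOf_dvd_card' (G := centralizer ({x} : Set G)) q hqd
  rw [← orderOf_coe] at hy
  by_contra hne
  rcases ne_or_eq q 2 with h2 | h2
  · exact h.no_commute hq h2 hp hne hy hx (mem_cent.1 y.2)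
  · exact h.no_commute hp (fun e => hne (h2.trans e.symm)) hq (Ne.symm hne) hx hy
      (mem_cent.1 y.2).symm

theorem isCIT : IsCIT G := fun t ht =>
  haveI : Fact (Nat.Prime 2) := ⟨Nat.prime_two⟩
  h.cent_pgroup ht

theorem eppo (g : G) : IsPrimePow (orderOf g) ∨ g = 1 := by
  by_cases hg : g = 1
  · exact Or.inr hg
  refine Or.inl ?_
  rcases h g hg with ⟨k, hk⟩ | ⟨hp, -⟩
  · rw [hk]
    refine Nat.prime_two.isPrimePow.pow ?_
    rintro rfl
    exact hg (orderOf_eq_one_iff.1 (by simpa using hk))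
  · exact hp.isPrimePow

theorem not_five : ¬ 5 ∣ Nat.card G := fun hd => by
  haveI : Fact (Nat.Prime 5) := ⟨by norm_num⟩
  obtain ⟨g, hg⟩ := exists_prime_orderOf_dvd_card' (G := G) 5 hd
  rcases h g (fun e => by rw [e, orderOf_one] at hg; norm_num at hg) with ⟨k, hk⟩ | ⟨-, h5⟩
  · have h1 : 5 ∣ 2 ^ k := by rw [← hk, hg]
    exact absurd ((Nat.prime_dvd_prime_iff_eq (by norm_num) Nat.prime_two).1
      ((show Nat.Prime 5 by norm_num).dvd_of_dvd_pow h1)) (by norm_num)
  · exact h5 hg

end Spec

section Seven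

variable {N : Type u} [Group N] [Finite N]

theorem card_seven (e : N ≃* PSLSeven) : Nat.card N = 168 := by
  haveI : Fact (Nat.Prime 7) := ⟨by norm_num⟩
  rw [Nat.card_congr e.toEquiv]
  have h : Nat.gcd 2 (Nat.card (ZMod 7) - 1) * Nat.card PSLSeven =
      Nat.card (ZMod 7) * (Nat.card (ZMod 7) ^ 2 - 1) := H37.card_PSL_two
  rw [Nat.card_zmod, show Nat.gcd 2 (7 - 1) = 2 by decide, show 7 * (7 ^ 2 - 1) = 336 by decide] at h
  omega

theorem simple_seven (e : N ≃* PSLSeven) : IsSimpleGroup N ∧ ¬ IsMulCommutative N := by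
  haveI : Fact (Nat.Prime 7) := ⟨by norm_num⟩
  haveI := Matrix.ProjectiveSpecialLinearGroup.rank_two_simple (F := ZMod 7) (by simp)
  haveI : IsSimpleGroup N := MulEquiv.isSimpleGroup e
  refine ⟨inferInstance, fun hc => ?_⟩
  haveI := hc
  letI : CommGroup N := { (inferInstance : Group N) with mul_comm := fun a b => mul_comm' a b }
  have := IsSimpleGroup.prime_card (α := N)
  rw [card_seven e] at this
  norm_num at this

theorem card_sylow_seven (e : N ≃* PSLSeven) [Fact (Nat.Prime 7)] (P : Sylow 7 N) :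
    Nat.card (P : Subgroup N) = 7 ∧ Nat.card (normalizer ((P : Subgroup N) : Set N)) = 21 := by
  haveI := (simple_seven e).1
  have hG := card_seven e
  obtain ⟨k, hk⟩ := IsPGroup.iff_card.1 P.isPGroup'
  have hk1 : k = 1 := by
    have h1 : 7 ^ k ∣ 168 := by rw [← hk, ← hG]; exact Subgroup.card_subgroup_dvd_card _
    have h2 : ¬ 7 ∣ (P : Subgroup N).index := P.not_dvd_index
    have h3 := Subgroup.card_mul_index (P : Subgroup N)
    rw [hk, hG] at h3
    rcases Nat.lt_or_ge k 2 with hk2 | hk2
    · interval_cases k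
      · exact absurd (by omega : 7 ∣ (P : Subgroup N).index) h2
      · rfl
    · exact absurd ((pow_dvd_pow 7 hk2).trans h1) (by norm_num)
  subst hk1
  refine ⟨by simpa using hk, ?_⟩
  have h1 := H62.card_normalizer_mul P
  have h2 := H62.card_sylow_mod (G := N) (p := 7)
  have h3 := H62.one_lt_card_sylow (G := N) (p := 7) (simple_seven e).2 (by rw [hG]; norm_num)
  have h4 : Nat.card (Sylow 7 N) ∣ 24 := by
    have h5 := P.card_dvd_index
    have h6 := Subgroup.card_mul_index (P : Subgroup N)
    rw [hk, hG] at h6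
    rwa [show (P : Subgroup N).index = 24 by omega] at h5
  rw [hG] at h1
  have h5 : Nat.card (Sylow 7 N) ≤ 24 := Nat.le_of_dvd (by norm_num) h4
  obtain ⟨c, hc⟩ := h4
  interval_cases h : Nat.card (Sylow 7 N) <;> omega

end Seven

/-- A group of Frobenius type of order 21 does not act fixed-point-freely on an abelian group. -/
theorem no_twentyone (h : Spec G) {Z A : Subgroup G} [IsMulCommutative Z] (hZ : Z ≠ ⊥)
    (hAZ : A ≤ normalizer (Z : Set G)) (hZ2 : IsPGroup 2 Z) (hA : Nat.card A = 21) : False := by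
  have hodd : ∀ a ∈ A, Odd (orderOf a) := fun a ha => by
    have h1 : orderOf a ∣ Nat.card A := Subgroup.orderOf_dvd_natCard _ ha
    rw [hA] at h1
    exact (show Odd 21 by decide).of_dvd_nat h1
  haveI : IsCyclic A := H2.isCyclic_of_fpf_subgroup A Z hAZ hZ (fun a ha ha1 => by
      rw [eq_bot_iff]
      rintro x ⟨hx, hxa⟩
      exact mem_bot.2 (h.isCIT.fpf' hZ2 (hodd a ha) ha1 hx (mem_cent.1 hxa).symm))
    (Or.inr ⟨3, 7, by norm_num, by norm_num, hA⟩)
  obtain ⟨g, hg⟩ := IsCyclic.exists_ofOrder_eq_natCard (α := A)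
  rw [hA, ← orderOf_coe] at hg
  exact h.no_mult (p := 3) (m := 7) (g := (g : G)) Nat.prime_three (by norm_num) (by norm_num)
    (by rw [hg])

/-- A proper normal `PSL₂(7)` is impossible. -/
theorem normal_seven_eq_top (h : Spec G) (N : Subgroup G) [N.Normal] (e : N ≃* PSLSeven) :
    N = ⊤ := by
  haveI : Fact (Nat.Prime 7) := ⟨by norm_num⟩
  let P₀ : Sylow 7 N := default
  obtain ⟨hP7, hN21⟩ := card_sylow_seven e P₀
  set P := (P₀ : Subgroup N).map N.subtype with hP
  have hPc : Nat.card P = 7 := by rw [hP, card_map_of_injective N.subtype_injective, hP7]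
  set T := normalizer (P : Set G) with hT
  haveI : IsCyclic P := isCyclic_of_prime_card hPc
  obtain ⟨z, hz⟩ := IsCyclic.exists_ofOrder_eq_natCard (α := P)
  rw [hPc, ← orderOf_coe] at hz
  set C := centralizer (P : Set G) with hC
  have hC7 : IsPGroup 7 C := (h.cent_pgroup hz).to_le fun g hg =>
    mem_cent.2 (mem_centralizer_iff.1 hg z z.2).symm
  have hsup : T ⊔ N = ⊤ := Sylow.normalizer_sup_eq_top P₀
  have hTN : Nat.card (T ⊓ N : Subgroup G) = 21 := by
    rw [← hN21]
    refine (Nat.card_congr (Equiv.ofBijective (fun x : normalizer ((P₀ : Subgroup N) : Set N) =>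
      (⟨((x : N) : G), ?_, (x : N).2⟩ : (T ⊓ N : Subgroup G))) ?_)).symm
    · show ((x : N) : G) ∈ T
      rw [hT, mem_normalizer_iff_map_conj_eq, hP, Subgroup.map_map]
      conv_rhs => rw [← mem_normalizer_iff_map_conj_eq.1 x.2, Subgroup.map_map]
      rfl
    · refine ⟨fun a b e => Subtype.ext (Subtype.ext (congrArg (fun y : (T ⊓ N : Subgroup G) => (y : G)) e)),
        fun ⟨y, hyT, hyN⟩ => ⟨⟨⟨y, hyN⟩, ?_⟩, rfl⟩⟩
      rw [mem_normalizer_iff]
      intro n
      have h1 := mem_normalizer_iff.1 hyT (n : G)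
      rw [hP] at h1
      constructor
      · intro hn
        obtain ⟨m, hm, hme⟩ := h1.1 ⟨n, hn, rfl⟩
        rwa [show (⟨y, hyN⟩ : N) * n * ⟨y, hyN⟩⁻¹ = m from Subtype.ext hme.symm]
      · intro hn
        obtain ⟨m, hm, hme⟩ := h1.2 ⟨_, hn, rfl⟩
        rwa [show n = m from Subtype.ext hme.symm]
  have hCT : C ≤ T := centralizer_le_normalizer _
  let ψ : T →* MulAut P := P.normalizerMonoidHom
  have hker : ψ.ker = C.subgroupOf T := normalizerMonoidHom_ker P
  haveI hcyc : IsCyclic ψ.range := by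
    haveI : IsCyclic (MulAut P) := by
      haveI : IsCyclic (ZMod (Nat.card P))ˣ := by rw [hPc]; infer_instance
      exact isCyclic_of_surjective (IsCyclic.mulAutMulEquiv P).symm.toMonoidHom
        (IsCyclic.mulAutMulEquiv P).symm.surjective
    exact isCyclic_of_injective ψ.range.subtype ψ.range.subtype_injective
  have hrange : ∀ n, n ∣ Nat.card ψ.range → ∃ g : G, n ∣ orderOf g := by
    intro n hn
    obtain ⟨b, hb⟩ := IsCyclic.exists_ofOrder_eq_natCard (α := ψ.range)
    obtain ⟨g, hg⟩ := b.2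
    refine ⟨g, hn.trans ?_⟩
    rw [← hb, ← orderOf_coe, ← hg, orderOf_coe]
    exact orderOf_map_dvd ψ g
  -- the centraliser of `P` lies in `N`
  have hCP : C ≤ P := by
    obtain ⟨P₁, hne⟩ : ∃ P₁ : Sylow 7 N, P₁ ≠ P₀ := by
      haveI := (simple_seven e).1
      have := H62.one_lt_card_sylow (G := N) (p := 7) (simple_seven e).2 (by rw [card_seven e]; norm_num)
      haveI : Nontrivial (Sylow 7 N) := Finite.one_lt_card_iff_nontrivial.1 this
      exact exists_ne P₀
    intro y hy
    by_contra hyP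
    haveI : Fact (Nat.Prime 7) := ⟨by norm_num⟩
    have hy1 : y ≠ 1 := fun e => hyP (e ▸ one_mem P)
    obtain ⟨j, hj⟩ := IsPGroup.iff_orderOf.1 hC7 ⟨y, hy⟩
    rw [orderOf_mk] at hj
    have hy7 : orderOf y = 7 := by
      rcases h y hy1 with ⟨k, hk⟩ | ⟨hp, -⟩
      · exfalso
        rw [hj] at hk
        rcases Nat.eq_zero_or_pos j with rfl | hj0
        · exact hy1 (orderOf_eq_one_iff.1 (by simpa using hj))
        · have h7 : 7 ∣ 2 ^ k := hk ▸ dvd_pow_self 7 hj0.ne'
          exact absurd ((Nat.prime_dvd_prime_iff_eq (by norm_num) Nat.prime_two).1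
            ((show Nat.Prime 7 by norm_num).dvd_of_dvd_pow h7)) (by norm_num)
      · rw [hj] at hp
        rw [hj, (Nat.Prime.eq_one_of_pow hp), pow_one]
    have hyN : y ∉ N := by
      intro hyN
      refine hyP ⟨⟨y, hyN⟩, ?_, rfl⟩
      have h2 : IsPGroup 7 ((P₀ : Subgroup N) ⊔ zpowers (⟨y, hyN⟩ : N) : Subgroup N) := by
        refine IsPGroup.to_sup_of_normal_left' P₀.isPGroup'
          (IsPGroup.of_card (n := 1) (by rw [Nat.card_zpowers, orderOf_mk, hy7, pow_one])) ?_
        rw [zpowers_le, mem_normalizer_iff]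
        intro n
        constructor
        · intro hn
          have hc := mem_centralizer_iff.1 hy (n : G) ⟨n, hn, rfl⟩
          rwa [show (⟨y, hyN⟩ : N) * n * ⟨y, hyN⟩⁻¹ = n from Subtype.ext
            (mul_inv_eq_iff_eq_mul.2 hc.symm)]
        · intro hn
          have hc := mem_centralizer_iff.1 hy _ ⟨_, hn, rfl⟩
          have h5 : ((⟨y, hyN⟩ : N) * n * ⟨y, hyN⟩⁻¹ : N) = n := Subtype.ext (by
            have : y * (n : G) * y⁻¹ * y = y * (y * (n : G) * y⁻¹) := hc
            rw [inv_mul_cancel_right] at this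
            calc y * (n : G) * y⁻¹ = y⁻¹ * (y * (y * (n : G) * y⁻¹)) := by group
              _ = (n : G) := by rw [← this]; group)
          rwa [h5] at hn
      rw [← P₀.is_maximal' h2 le_sup_left]
      exact le_sup_right (a := (P₀ : Subgroup N)) (mem_zpowers _)
    -- `y` permutes the Sylow subgroups of `N`; move one fixed point to `P₁`
    haveI : Fintype (Sylow 7 N) := Fintype.ofFinite _
    classical
    let σ : Sylow 7 N → Sylow 7 N := fun Q =>
      Q.mapSurjective (f := (MulAut.conjNormal y : MulAut N).toMonoidHom)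
        (MulAut.conjNormal y).surjective
    have hσ : ∀ (Q : Sylow 7 N) (n : N), n ∈ (σ Q : Subgroup N) ↔
        ∃ m ∈ (Q : Subgroup N), y * (m : G) * y⁻¹ = n := by
      intro Q n
      constructor
      · rintro ⟨m, hm, rfl⟩
        exact ⟨m, hm, (MulAut.conjNormal_apply y m).symm⟩
      · rintro ⟨m, hm, hme⟩
        exact ⟨m, hm, Subtype.ext ((MulAut.conjNormal_apply y m).trans hme)⟩
    have hσinj : Function.Injective σ := by
      intro Q Q' eQ
      refine Sylow.ext (eq_of_le_of_card_ge (fun m hm => ?_) ?_)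
      · have h1 : MulAut.conjNormal y m ∈ (σ Q : Subgroup N) :=
          (hσ Q _).2 ⟨m, hm, (MulAut.conjNormal_apply y m).symm⟩
        rw [eQ, hσ] at h1
        obtain ⟨m', hm', e'⟩ := h1
        rw [MulAut.conjNormal_apply] at e'
        rwa [← Subtype.ext (mul_left_cancel (mul_right_cancel e') : (m' : G) = m)]
      · rw [(card_sylow_seven e Q).1, (card_sylow_seven e Q').1]
    -- `σ` commutes with the action of `P₀`, regular on the other Sylow subgroups
    obtain ⟨p, hp, hp1⟩ : ∃ p ∈ (P₀ : Subgroup N), σ P₁ = p • P₁ := by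
      have h8 : Nat.card (Sylow 7 N) = 8 := by
        have h1 := H62.card_normalizer_mul P₀
        rw [hN21, card_seven e] at h1
        omega
      have hfix : ∀ p ∈ (P₀ : Subgroup N), p • P₁ = P₁ → p = 1 := by
        intro p hp hpp
        by_contra hp1
        have h2 := Sylow.smul_eq_iff_mem_normalizer.1 hpp
        have h3 : IsPGroup 7 ((P₁ : Subgroup N) ⊔ zpowers p : Subgroup N) :=
          IsPGroup.to_sup_of_normal_left' P₁.isPGroup' (P₀.isPGroup'.to_le (zpowers_le.2 hp))
            (zpowers_le.2 h2)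
        have hp₁ : p ∈ (P₁ : Subgroup N) := by
          rw [← P₁.is_maximal' h3 le_sup_left]
          exact le_sup_right (a := (P₁ : Subgroup N)) (mem_zpowers p)
        refine hne (Sylow.ext ?_)
        have hz : ∀ Q : Sylow 7 N, p ∈ (Q : Subgroup N) → (Q : Subgroup N) = zpowers p := by
          intro Q hQ
          refine (eq_of_le_of_card_ge (zpowers_le.2 hQ) ?_).symm
          rw [(card_sylow_seven e Q).1, Nat.card_zpowers]
          have hd : orderOf p ∣ Nat.card (Q : Subgroup N) := Subgroup.orderOf_dvd_natCard _ hQ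
          rw [(card_sylow_seven e Q).1] at hd
          rcases (Nat.dvd_prime (by norm_num)).1 hd with h4 | h4
          · exact absurd (orderOf_eq_one_iff.1 h4) hp1
          · rw [h4]
        rw [hz P₁ hp₁, hz P₀ hp]
      have hsurj : Function.Bijective (fun p : (P₀ : Subgroup N) =>
          (⟨(p : N) • P₁, fun e' => hne (by
            have h6 : (p : N)⁻¹ • P₀ = P₀ := Sylow.smul_eq_iff_mem_normalizer.2
              (le_normalizer (inv_mem p.2))
            rw [← inv_smul_smul (p : N) P₁, e', h6])⟩ : {Q : Sylow 7 N // Q ≠ P₀})) := by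
        refine Function.Injective.bijective_of_nat_card_le (fun a b hab => ?_) ?_
        · have h7 : ((b : N)⁻¹ * a) • P₁ = P₁ := by
            rw [mul_smul, show (a : N) • P₁ = (b : N) • P₁ from congrArg Subtype.val hab,
              inv_smul_smul]
          exact Subtype.ext (inv_mul_eq_one.1 (hfix _ (mul_mem (inv_mem b.2) a.2) h7)).symm
        · rw [hP7, Nat.card_eq_fintype_card, Fintype.card_subtype_compl, Fintype.card_subtype_eq,
            ← Nat.card_eq_fintype_card, h8]
      have hσ0 : σ P₁ ≠ P₀ := by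
        intro e'
        refine hne (hσinj (e'.trans (Sylow.ext ?_).symm))
        ext n
        rw [hσ]
        constructor
        · rintro ⟨m, hm, hme⟩
          rw [← Subtype.ext (show (m : G) = n by
            rw [← hme, (mem_centralizer_iff.1 hy (m : G) ⟨m, hm, rfl⟩).symm, mul_inv_cancel_right])]
          exact hm
        · intro hn
          exact ⟨n, hn, by rw [(mem_centralizer_iff.1 hy (n : G) ⟨n, hn, rfl⟩).symm, mul_inv_cancel_right]⟩
      obtain ⟨p, hp⟩ := hsurj.2 ⟨σ P₁, hσ0⟩
      exact ⟨p, p.2, (congrArg Subtype.val hp).symm⟩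
    set v : G := (p : G)⁻¹ * y with hv
    have hvP : v ∈ C := mul_mem (inv_mem (mem_centralizer_iff.2 fun q hq => by
      haveI := IsCyclic.isMulCommutative (α := P)
      exact congrArg Subtype.val (mul_comm' (⟨q, hq⟩ : P) ⟨(p : G), ⟨p, hp, rfl⟩⟩))) hy
    have hv1 : v ≠ 1 := fun e' => hyP (by
      rw [← inv_mul_eq_one.1 e']; exact ⟨p, hp, rfl⟩)
    have hvP₁ : ∀ n ∈ (P₁ : Subgroup N), v * (n : G) * v⁻¹ ∈ (P₁ : Subgroup N).map N.subtype := by
      intro n hn
      have h9 : (MulAut.conjNormal y n : N) ∈ (σ P₁ : Subgroup N) :=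
        (hσ P₁ _).2 ⟨n, hn, (MulAut.conjNormal_apply y n).symm⟩
      rw [hp1, Sylow.coe_subgroup_smul] at h9
      refine ⟨p⁻¹ * MulAut.conjNormal y n * p, H2.mem_conj_smul.1 h9, ?_⟩
      show ((p⁻¹ * MulAut.conjNormal y n * p : N) : G) = _
      rw [hv]
      push_cast
      rw [MulAut.conjNormal_apply]
      group
    obtain ⟨j', hj'⟩ := IsPGroup.iff_orderOf.1 hC7 ⟨v, hvP⟩
    rw [orderOf_mk] at hj'
    set P' := (P₁ : Subgroup N).map N.subtype
    have hP'c : Nat.card P' = 7 := by
      rw [card_map_of_injective N.subtype_injective, (card_sylow_seven e P₁).1]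
    -- `v` centralises `P₁` as well
    have hvC : ∀ n ∈ P', v * n * v⁻¹ = n := by
      have hvn : v ∈ normalizer (P' : Set G) := by
        rw [mem_normalizer_iff_map_conj_eq]
        refine eq_of_le_of_card_ge ?_ (card_map_of_injective (K := P') (f := (MulAut.conj v).toMonoidHom) (MulAut.conj v).injective).ge
        rintro _ ⟨_, ⟨n, hn, rfl⟩, rfl⟩
        exact hvP₁ n hn
      haveI : IsCyclic P' := isCyclic_of_prime_card hP'c
      have hφ : orderOf (P'.normalizerMonoidHom ⟨v, hvn⟩) = 1 := by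
        refine Nat.eq_one_of_dvd_coprimes (a := 7 ^ j') (b := 6) ?_
          ((orderOf_map_dvd _ _).trans (by rw [orderOf_mk, hj'])) ?_
        · exact Nat.Coprime.pow_left _ (by norm_num)
        · refine (_root_.orderOf_dvd_natCard _).trans (dvd_of_eq ?_)
          rw [Nat.card_congr (IsCyclic.mulAutMulEquiv P').toEquiv, hP'c, Nat.card_eq_fintype_card,
            ZMod.card_units_eq_totient, Nat.totient_prime (by norm_num)]
      intro n hn
      exact congrArg Subtype.val (MulEquiv.ext_iff.1 (orderOf_eq_one_iff.1 hφ) ⟨n, hn⟩)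
    -- two Sylow subgroups in the centraliser of a 7-element
    obtain ⟨w, hwv, hw7⟩ := H64.exists_orderOf_of_dvd v (n := 7) (by
      rw [hj']
      refine dvd_pow_self 7 fun e' => hv1 (orderOf_eq_one_iff.1 ?_)
      rw [hj', e', pow_zero])
    have hQ : IsPGroup 7 ((centralizer ({w} : Set G)).subgroupOf N) :=
      (h.cent_pgroup hw7).comap_subtype
    obtain ⟨i, hi⟩ := hwv
    have hcw : ∀ n : G, v * n = n * v → n ∈ centralizer ({w} : Set G) := fun n hn => by
      subst hi
      exact mem_cent.2 ((show Commute n v from hn.symm).zpow_right i).eq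
    obtain ⟨Q, hQle⟩ := hQ.exists_le_sylow
    have h0 : (P₀ : Subgroup N) ≤ Q := fun n hn => hQle (mem_subgroupOf.2 (hcw _
      (mem_centralizer_iff.1 hvP (n : G) ⟨n, hn, rfl⟩).symm))
    have h1 : (P₁ : Subgroup N) ≤ Q := fun n hn => hQle (mem_subgroupOf.2 (hcw _
      (mul_inv_eq_iff_eq_mul.1 (hvC _ ⟨n, hn, rfl⟩))))
    exact hne (Sylow.ext ((P₁.is_maximal' Q.isPGroup' h1).symm.trans
      (P₀.is_maximal' Q.isPGroup' h0)))
  have hTcard : Nat.card T = Nat.card ψ.range * Nat.card C := by
    rw [← Subgroup.index_ker ψ, hker, ← Nat.card_congr (subgroupOfEquivOfLe hCT).toEquiv,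
      mul_comm, Subgroup.card_mul_index]
  have hC7' : Nat.card C = 7 := le_antisymm (hPc ▸ Subgroup.card_le_of_le hCP) (by
    rw [← hPc]
    refine Subgroup.card_le_of_le fun x hx => mem_centralizer_iff.2 fun q hq => ?_
    haveI := IsCyclic.isMulCommutative (α := P)
    exact congrArg Subtype.val (mul_comm' (⟨q, hq⟩ : P) ⟨x, hx⟩))
  have hr6 : Nat.card ψ.range ∣ 6 := by
    refine (Subgroup.card_subgroup_dvd_card _).trans (dvd_of_eq ?_)
    rw [Nat.card_congr (IsCyclic.mulAutMulEquiv P).toEquiv, hPc, Nat.card_eq_fintype_card,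
      ZMod.card_units_eq_totient, Nat.totient_prime (by norm_num)]
  have h21 : 21 ∣ Nat.card T := hTN ▸ Subgroup.card_dvd_of_le inf_le_left
  rw [hTcard, hC7'] at h21
  have hr3 : Nat.card ψ.range = 3 := by
    have hle := Nat.le_of_dvd (by norm_num) hr6
    have h36 : Nat.card ψ.range = 3 ∨ Nat.card ψ.range = 6 := by
      interval_cases hh : Nat.card ψ.range <;> omega
    rcases h36 with h3 | h6
    · exact h3
    · exfalso
      obtain ⟨g, hg⟩ := hrange 6 (by rw [h6])
      exact h.no_mult (p := 3) (m := 2) Nat.prime_three (by norm_num) (by norm_num) hg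
  have hTle : T ≤ N := by
    rw [← inf_eq_left]
    exact eq_of_le_of_card_ge inf_le_left (by rw [hTcard, hC7', hr3, hTN])
  rw [← hsup, sup_eq_right.2 hTle]

end H11.CIT
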