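import Cfsg.Agent.H11.CIT.Outer
import Cfsg.Agent.H11.CIT.SpecSeven
import Cfsg.Agent.H37.SmallIso
import Cfsg.Agent.H37.Torus
import Cfsg.Agent.H39.SmallIdent
import Cfsg.Agent.H64.Char2Graph
import Cfsg.Agent.H74.SL2
import Cfsg.Agent.H33.TwoPrime
import Cfsg.Agent.H57.SzSylow
import Cfsg.Agent.H78.SL2Natural
import Cfsg.Agent.H11.SzUniq.Iso

/-!
An offender on a module with fixed-point-free odd elements lives in a normal `SL₂(2ⁿ)` and the
module has order `2²ⁿ`.
-/

set_option autoImplicit false
set_option linter.style.haveILetI false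
set_option linter.unusedSectionVars false

open scoped MatrixGroups

namespace H11.CIT

open Subgroup

universe u

theorem dvd_exponent {g m : ℕ} (h : 2 ^ g - 1 ∣ 2 ^ m - 1) : g ∣ m := by
  have h1 := Nat.pow_sub_one_gcd_pow_sub_one 2 g m
  rw [Nat.gcd_eq_left h] at h1
  have hg := Nat.one_le_two_pow (n := g)
  have hd := Nat.one_le_two_pow (n := g.gcd m)
  have h2 : 2 ^ g = 2 ^ g.gcd m := by omega
  exact Nat.gcd_eq_left_iff_dvd.1 (Nat.pow_right_injective le_rfl h2).symm

/-- `2²ᵏ - 1` and `2ᵐ - 1` share a divisor above `2ᵏ` only if `2k` divides `m`. -/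
theorem two_mul_dvd {k m d : ℕ} (hk0 : 0 < k) (hk : 2 ^ k < d + 1) (h1 : d ∣ 2 ^ (2 * k) - 1)
    (h2 : d ∣ 2 ^ m - 1) : 2 * k ∣ m := by
  have h3 := Nat.dvd_gcd h1 h2
  rw [Nat.pow_sub_one_gcd_pow_sub_one] at h3
  set g := (2 * k).gcd m
  have hg0 : 0 < g := Nat.gcd_pos_of_pos_left _ (by omega)
  have hpos : 0 < 2 ^ g - 1 := by
    have : 2 ^ 1 ≤ 2 ^ g := Nat.pow_le_pow_right (by norm_num) hg0
    omega
  have h4 := Nat.le_of_dvd hpos h3
  have hgk : k < g := by
    by_contra hle
    have := Nat.pow_le_pow_right (n := 2) (by norm_num) (Nat.le_of_not_lt hle)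
    omega
  obtain ⟨c, hc⟩ := Nat.gcd_dvd_left (2 * k) m
  have hc1 : c = 1 := by
    have h5 : g * c = 2 * k := hc.symm
    rcases c with _ | _ | c
    · omega
    · rfl
    · nlinarith
  have h6 : g = 2 * k := by rw [hc1, mul_one] at hc; exact hc.symm
  exact h6 ▸ Nat.gcd_dvd_right (2 * k) m

theorem isCyclic_sylow_of_index {A : Type u} [Group A] [Finite A] {r : ℕ} [Fact r.Prime]
    (D : Subgroup A) [IsCyclic D] (hD : ¬ r ∣ D.index) (P : Sylow r A) :
    IsCyclic (P : Subgroup A) := by
  obtain ⟨R⟩ := (inferInstance : Nonempty (Sylow r D))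
  obtain ⟨Q, hQ⟩ := (R.isPGroup'.map D.subtype).exists_le_sylow
  have hle : Nat.card (Q : Subgroup A) ≤ Nat.card ((R : Subgroup D).map D.subtype) := by
    rw [card_map_of_injective D.subtype_injective, Q.card_eq_multiplicity, R.card_eq_multiplicity,
      ← D.card_mul_index,
      Nat.factorization_mul Nat.card_pos.ne' Subgroup.index_ne_zero_of_finite]
    simp [Nat.factorization_eq_zero_of_not_dvd hD]
  have hQD : (Q : Subgroup A) ≤ D := by
    rw [← eq_of_le_of_card_ge hQ hle]
    exact map_subtype_le _
  haveI : IsCyclic (Q : Subgroup A) := isCyclic_of_injective (inclusion hQD) (inclusion_injective hQD)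
  exact isCyclic_of_surjective (Sylow.equiv Q P).toMonoidHom (Sylow.equiv Q P).surjective

theorem card_SL2_char2 {F : Type} [Field F] [Fintype F] {n : ℕ} (hn : 1 ≤ n)
    (hF : Fintype.card F = 2 ^ n) : Nat.card SL(2, F) = 2 ^ n * ((2 ^ n) ^ 2 - 1) := by
  haveI : Fact (Nat.Prime 2) := ⟨Nat.prime_two⟩
  haveI : CharP F 2 := charP_of_card_eq_prime_pow hF
  obtain ⟨e⟩ := H64.psl2_char2_equiv (F := F)
  have h := H37.card_PSL_two (F := F)
  rw [Nat.card_eq_fintype_card (α := F), hF] at h
  have hg : Nat.gcd 2 (2 ^ n - 1) = 1 := by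
    refine (Nat.prime_two.coprime_iff_not_dvd).2 ?_
    have := Nat.one_le_two_pow (n := n)
    have h2 : 2 ∣ 2 ^ n := dvd_pow_self 2 (by omega)
    omega
  rw [hg, one_mul] at h
  rw [Nat.card_congr e.toEquiv, h]

variable {X : Type u} [Group X] [Finite X] {W : Type u} [AddCommGroup W] [Finite W]
  {ρ : X →* AddMonoid.End W} {B : Subgroup X}

namespace FF

variable (h : FF ρ B)
include h

theorem exists_card_two_pow : ∃ m, Nat.card W = 2 ^ m := by
  haveI : Fact (Nat.Prime 2) := ⟨Nat.prime_two⟩
  have hp : IsPGroup 2 (Multiplicative W) := fun w =>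
    ⟨1, by rw [pow_one, sq]; exact Multiplicative.toAdd.injective (h.two w.toAdd)⟩
  obtain ⟨m, hm⟩ := IsPGroup.iff_card.1 hp
  exact ⟨m, by rwa [Nat.card_congr Multiplicative.toAdd] at hm⟩

theorem card_inf_le (N : Subgroup X) {k : ℕ} {A : Type*} [Group A] (e : N ≃* A)
    (hA : ∀ E : Subgroup A, Elem E → Nat.card E ≤ k) : Nat.card (B ⊓ N : Subgroup X) ≤ k := by
  set E := ((B ⊓ N).subgroupOf N).map e.toMonoidHom
  have hE : Elem E := by
    refine elem_map_hom (fun x hx => ?_) _
    exact Subtype.ext (h.elem _ (mem_subgroupOf.1 hx).1)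
  have := hA E hE
  rwa [card_map_of_injective e.injective, Nat.card_congr (subgroupOfEquivOfLe inf_le_right).toEquiv] at this

theorem mersenne_seven (N : Subgroup X) (e : N ≃* PSLSeven) : False := by
  haveI : Fact (Nat.Prime 7) := ⟨by norm_num⟩
  obtain ⟨-, h21⟩ := card_sylow_seven e (default : Sylow 7 N)
  set T := normalizer (((default : Sylow 7 N) : Subgroup N) : Set N)
  have hT : Nat.card (T.map N.subtype) = 21 := by rw [card_map_of_injective N.subtype_injective, h21]
  haveI := h.isCyclic_odd (A := T.map N.subtype) (by rw [hT]; decide)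
    (Or.inr ⟨3, 7, by norm_num, by norm_num, hT⟩)
  obtain ⟨⟨g, hg⟩, hgo⟩ := IsCyclic.exists_ofOrder_eq_natCard (α := T.map N.subtype)
  rw [hT, orderOf_mk] at hgo
  obtain ⟨g', -, rfl⟩ := hg
  have h1 : orderOf (e g') = 21 := by
    rw [MulEquiv.orderOf_eq, ← hgo]; exact (orderOf_injective N.subtype N.subtype_injective g').symm
  have h2 : 21 ∈ Set.range (orderOf : PSLSeven → ℕ) := ⟨_, h1⟩
  rw [H64.psl2_spectrum 7, Set.mem_ofPred_eq, ZMod.card] at h2
  norm_num at h2

/-- The offender structure. -/
theorem main [Nontrivial X] : ∃ (N : Subgroup X) (F : Type) (_ : Field F) (_ : Fintype F) (n : ℕ)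
    (_ : N ≃* SL(2, F)), N.Normal ∧ 2 ≤ n ∧ Fintype.card F = 2 ^ n ∧ B ≤ N ∧ Nat.card B = 2 ^ n ∧
      Nat.card W = 2 ^ n * 2 ^ n ∧ Nat.card (fixOf ρ B) = 2 ^ n ∧ centralizer (N : Set X) = ⊥ ∧
      (n = 2 → N = ⊤) := by
  classical
  haveI : Fact (Nat.Prime 2) := ⟨Nat.prime_two⟩
  obtain ⟨N, hNn, hNs, hNc, hCN⟩ := exists_simple_socle h.cit h.h2 h.heven
  haveI := hNn
  haveI := hNs
  obtain ⟨m, hm⟩ := h.exists_card_two_pow
  obtain ⟨i, hi⟩ := IsPGroup.iff_card.1 h.elem.isPGroup
  have hW2 := h.card_le_sq
  have hNX : Nat.card N ∣ Nat.card X := Subgroup.card_subgroup_dvd_card N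
  have hns : ¬ Group.IsSolvable N := fun hs =>
    hNc ⟨⟨IsSimpleGroup.comm_iff_isSolvable.2 hs⟩⟩
  -- two primes are not enough
  have htwo : Nat.card N ≠ 6 ∧ Nat.card N ≠ 12 := by
    constructor <;> intro hc <;>
      refine hns (H33.isSolvable_of_two_primes (p := 2) (q := 3) Nat.prime_two Nat.prime_three ?_) <;>
      intro r hr hrd <;> rw [hc] at hrd <;>
      (have : r ≤ 12 := (Nat.le_of_dvd (by norm_num) hrd).trans (by norm_num)
       interval_cases r <;> first | omega | norm_num at hr)
  -- reduce to characteristic two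
  obtain ⟨F, iF, iFt, n, hn, hF, ⟨e⟩⟩ : ∃ (F : Type) (_ : Field F) (_ : Fintype F) (n : ℕ),
      2 ≤ n ∧ Fintype.card F = 2 ^ n ∧ Nonempty (N ≃* SL(2, F)) := by
    rcases h.cls N hNs hNc with ⟨F, _, _, hF, ⟨e⟩⟩ | ⟨F, _, _, hF, ⟨e⟩⟩ | hsz
    · have hcard := H37.card_PSL_two (F := F)
      rw [Nat.card_eq_fintype_card (α := F), ← Nat.card_congr e.toEquiv] at hcard
      have heven : ∀ n : ℕ, Fintype.card F = 2 ^ n → ∃ (F : Type) (_ : Field F) (_ : Fintype F) (n : ℕ),
          2 ≤ n ∧ Fintype.card F = 2 ^ n ∧ Nonempty (N ≃* SL(2, F)) := by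
        intro n hn
        rcases Nat.lt_or_ge n 2 with hlt | hge
        · exfalso
          rw [hn] at hcard
          interval_cases n
          · norm_num at hcard
            exact Nat.card_pos.ne' hcard
          · norm_num at hcard
            exact htwo.1 hcard
        · haveI : CharP F 2 := charP_of_card_eq_prime_pow hn
          obtain ⟨e'⟩ := H64.psl2_char2_equiv (F := F)
          exact ⟨F, inferInstance, inferInstance, n, hge, hn, ⟨e.trans e'.symm⟩⟩
      rcases hF with h9 | ⟨n, hn⟩ | ⟨hp, k, hk⟩
      · exfalso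
        obtain ⟨e9⟩ := H37.PSL2_nine_mulEquiv_alternating (F := F) h9
        refine h.no_nine (N.subtype.comp (e.trans e9).symm.toMonoidHom)
          (N.subtype_injective.comp (e.trans e9).symm.injective) ?_
        exact ⟨⟨Equiv.swap 0 1 * Equiv.swap 1 2, Equiv.Perm.mem_alternatingGroup.2 (by decide)⟩,
          ⟨Equiv.swap 3 4 * Equiv.swap 4 5, Equiv.Perm.mem_alternatingGroup.2 (by decide)⟩,
          orderOf_eq_prime (by decide +kernel) (by decide +kernel),
          orderOf_eq_prime (by decide +kernel) (by decide +kernel), by decide +kernel, fun hmem => by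
            rw [mem_zpowers_iff_mem_range_orderOf,
              orderOf_eq_prime (p := 3) (by decide +kernel) (by decide +kernel)] at hmem
            revert hmem
            decide +kernel⟩
      · exact heven n hn
      · set p := Fintype.card F with hpF
        haveI := Fact.mk hp
        rcases Nat.lt_or_ge p 7 with hlt | hge
        · have hp' : p = 2 ∨ p = 3 ∨ p = 5 := by
            interval_cases p <;> first | omega | norm_num at hp
          rcases hp' with h2 | h3 | h5
          · exact heven 1 (by rw [h2]; norm_num)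
          · rw [h3] at hcard
            norm_num at hcard
            exact absurd (by omega) htwo.2
          · obtain ⟨e5⟩ := H37.PSL2_five_mulEquiv_alternating (F := F) h5
            letI : Fintype (GaloisField 2 2) := Fintype.ofFinite _
            have hc4 : Fintype.card (GaloisField 2 2) = 2 ^ 2 := by
              rw [← Nat.card_eq_fintype_card, GaloisField.card 2 2 (by norm_num)]
            haveI : CharP (GaloisField 2 2) 2 := charP_of_card_eq_prime_pow hc4
            obtain ⟨e4⟩ := H37.PSL2_four_mulEquiv_alternating (F := GaloisField 2 2)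
              (by rw [GaloisField.card 2 2 (by norm_num)]; norm_num)
            obtain ⟨e'⟩ := H64.psl2_char2_equiv (F := GaloisField 2 2)
            exact ⟨GaloisField 2 2, inferInstance, inferInstance, 2, le_rfl, hc4,
              ⟨(e.trans e5).trans (e4.symm.trans e'.symm)⟩⟩
        · exfalso
          haveI : CharP F p := charP_of_card_eq_prime_pow (f := 1) (by rw [pow_one])
          have hodd : p % 2 = 1 := hp.eq_two_or_odd.resolve_left (by omega)
          have hg : Nat.gcd 2 (p - 1) = 2 := Nat.gcd_eq_left (by omega)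
          rw [hg] at hcard
          obtain ⟨P⟩ := (inferInstance : Nonempty (Sylow p N))
          have hpN : p ∣ Nat.card N := by
            have : p ∣ 2 * Nat.card N := hcard ▸ dvd_mul_right _ _
            exact (Nat.Coprime.dvd_of_dvd_mul_left ((Nat.coprime_primes hp Nat.prime_two).2 (by omega)) this)
          have hpp : ¬ p * p ∣ Nat.card N := by
            intro hd
            have h1 : p * p ∣ p * (p ^ 2 - 1) := hcard ▸ hd.mul_left 2
            have h2 := Nat.dvd_of_mul_dvd_mul_left hp.pos h1
            have h3 : p ∣ p ^ 2 := dvd_pow_self p two_ne_zero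
            have h4 : 1 ≤ p ^ 2 := Nat.one_le_pow _ _ hp.pos
            have h5 := Nat.dvd_sub h3 h2
            rw [show p ^ 2 - (p ^ 2 - 1) = 1 by omega] at h5
            exact hp.one_lt.ne' (Nat.dvd_one.1 h5)
          have hPc : Nat.card (P : Subgroup N) = p := by
            obtain ⟨j, hj⟩ := IsPGroup.iff_card.1 P.isPGroup'
            have hj1 := P.pow_dvd_card_of_pow_dvd_card (n := 1) (by rwa [pow_one])
            have hd : Nat.card (P : Subgroup N) ∣ Nat.card N := Subgroup.card_subgroup_dvd_card _
            rw [hj] at hd hj1 ⊢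
            rw [Nat.pow_dvd_pow_iff_le_right hp.one_lt] at hj1
            have : j < 2 := by
              by_contra hj2
              exact hpp ((by rw [← sq]; exact pow_dvd_pow p (by omega) : p * p ∣ p ^ j).trans hd)
            rw [show j = 1 by omega, pow_one]
          haveI : IsCyclic (P : Subgroup N) := isCyclic_of_prime_card hPc
          have hB8 : Nat.card B ≤ 8 := by
            refine (card_le_two_mul_inf h.cit N (by omega) P (fun e' => ?_) h.elem).trans
              (Nat.mul_le_mul_left 2 (h.card_inf_le N e fun E hE => card_elem_psl_odd (fun h2 => ?_) E hE))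
            · rw [e', Subgroup.card_bot] at hPc; omega
            · have : (p : ℕ) ∣ 2 := (CharP.cast_eq_zero_iff F p 2).1 (by exact_mod_cast h2)
              have := Nat.le_of_dvd two_pos this
              omega
          have hm6 : m ≤ 6 := by
            have h64 : Nat.card W ≤ 64 := hW2.trans (Nat.mul_le_mul hB8 hB8)
            rw [hm] at h64
            exact (Nat.pow_le_pow_iff_right (by norm_num : 1 < 2)).1 (show 2 ^ m ≤ 2 ^ 6 by omega)
          have hpW := h.odd_dvd (Nat.odd_iff.2 hodd) (hpN.trans hNX)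
          have h3N : 3 ∣ Nat.card N := by
            have h3 : 3 ∣ p ^ 2 - 1 := by
              have hp3 : ¬ 3 ∣ p := fun h3 => by
                have := (Nat.prime_dvd_prime_iff_eq Nat.prime_three hp).1 h3
                omega
              have : p ^ 2 % 3 = 1 := by
                rw [Nat.pow_mod]
                have := Nat.mod_lt p (show 3 > 0 by norm_num)
                interval_cases h3' : p % 3 <;> first | omega | norm_num
              omega
            exact (Nat.Coprime.dvd_of_dvd_mul_left (by decide) (hcard.symm ▸ h3.mul_left p : 3 ∣ 2 * Nat.card N))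
          have h3W := h.odd_dvd (by decide) (h3N.trans hNX)
          rw [hm] at hpW h3W
          have hp7 : p = 7 := by
            have hpos := h.pos
            rw [hm] at hpos
            have hle : p ≤ 2 ^ m - 1 := Nat.le_of_dvd (by omega) hpW
            have : p ≤ 63 := by
              have := Nat.pow_le_pow_right (n := 2) (by norm_num) hm6
              omega
            interval_cases m
            all_goals (try norm_num at h3W hpW hle hpos)
            all_goals interval_cases p
            all_goals first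
              | rfl
              | omega
              | norm_num at hp
              | norm_num at hpW
          haveI : Fact (Nat.Prime 7) := ⟨by norm_num⟩
          exact h.mersenne_seven N (e.trans (H37.pslCongr
            (FiniteField.ringEquivOfCardEq (by rw [ZMod.card, ← hpF, hp7]))))
    · exact (h.no_nine (N.subtype.comp e.symm.toMonoidHom) (N.subtype_injective.comp e.symm.injective)
        (nineGroup_psl34 hF)).elim
    · exfalso
      obtain ⟨F, _, _, k, hk, hF, ⟨e⟩⟩ := hsz
      set e' := e.trans (H57.lieSzEquiv hk hF).symm with he'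
      have hNc' : Nat.card N = _ := (Nat.card_congr e'.toEquiv).trans (H57.card_sz hk hF)
      set Q := 2 ^ (2 * k + 1) with hQ
      have hQ8 : 8 ≤ Q := by
        rw [hQ, show 8 = 2 ^ 3 by norm_num]; exact Nat.pow_le_pow_right (by norm_num) (by omega)
      have hQev : 2 ∣ Q := dvd_pow_self 2 (by omega)
      obtain ⟨r, hr, hrd⟩ := Nat.exists_prime_and_dvd (n := Q - 1) (by omega)
      haveI := Fact.mk hr
      have hr2 : r ≠ 2 := fun e2 => by subst e2; omega
      haveI := H57.dSub_cyclic (m := k) hF
      obtain ⟨P₀⟩ := (inferInstance : Nonempty (Sylow r (Cfsg.Sz F k)))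
      let P : Sylow r N := P₀.mapSurjective (f := e'.symm.toMonoidHom) e'.symm.surjective
      haveI : IsCyclic (P₀ : Subgroup (Cfsg.Sz F k)) :=
        isCyclic_sylow_of_index (H57.dSub hF) (H57.dSub_index hk hF hr hrd) P₀
      haveI : IsCyclic (P : Subgroup N) :=
        isCyclic_of_surjective (e'.symm.toMonoidHom.subgroupMap (P₀ : Subgroup (Cfsg.Sz F k)))
          (e'.symm.toMonoidHom.subgroupMap_surjective _)
      have hrN : r ∣ Nat.card N := hNc' ▸ hrd.mul_left _
      have hB : Nat.card B ≤ 2 * Q := by
        refine (card_le_two_mul_inf h.cit N hr2 P (fun e0 => ?_) h.elem).trans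
          (Nat.mul_le_mul_left 2 (h.card_inf_le N e' fun E hE => card_elem_sz hk hF E hE))
        exact P.ne_bot_of_dvd_card hrN e0
      have hd : Q ^ 2 + 1 ∣ Nat.card W - 1 := h.odd_dvd ⟨Q ^ 2 / 2, by
        have : 2 ∣ Q ^ 2 := dvd_pow hQev two_ne_zero
        omega⟩ ((hNc' ▸ (dvd_mul_left _ _).mul_right _).trans hNX)
      rw [hm] at hd hW2
      have hdiv : 2 * (2 * (2 * k + 1)) ∣ m := two_mul_dvd
        (by omega)
        (by rw [show 2 ^ (2 * (2 * k + 1)) = Q ^ 2 by rw [hQ, ← pow_mul, mul_comm]]; omega)
        ⟨Q ^ 2 - 1, by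
          rw [show 2 ^ (2 * (2 * (2 * k + 1))) = (Q ^ 2) ^ 2 by rw [hQ, ← pow_mul, ← pow_mul]; congr 1; ring]
          have := Nat.sq_sub_sq (Q ^ 2) 1
          rwa [one_pow] at this⟩ hd
      have hm0 : 0 < m := by
        by_contra h0
        rw [show m = 0 by omega] at hm
        have := h.pos
        omega
      have h4 : Q ^ 4 ≤ 2 ^ m := by
        rw [hQ, ← pow_mul]
        exact Nat.pow_le_pow_right (by norm_num) (by have := Nat.le_of_dvd hm0 hdiv; omega)
      have h5 : 2 ^ m ≤ (2 * Q) * (2 * Q) := hW2.trans (Nat.mul_le_mul hB hB)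
      have h6 : 4 * (Q * Q) < Q ^ 4 := by
        rw [show Q ^ 4 = (Q * Q) * (Q * Q) by ring]
        exact Nat.mul_lt_mul_of_pos_right (by nlinarith) (by positivity)
      nlinarith
  letI := iF
  letI := iFt
  haveI : CharP F 2 := charP_of_card_eq_prime_pow hF
  set q := 2 ^ n with hq
  have hNc' : Nat.card N = q * (q ^ 2 - 1) :=
    (Nat.card_congr e.toEquiv).trans (card_SL2_char2 (by omega) hF)
  have hq4 : 4 ≤ q := (show 4 = 2 ^ 2 by norm_num).le.trans (Nat.pow_le_pow_right (by norm_num) hn)
  have hqev : 2 ∣ q := dvd_pow_self 2 (by omega)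
  have hqodd : Odd (q ^ 2 - 1) := by
    have h2 : 2 ∣ q ^ 2 := dvd_pow hqev two_ne_zero
    have : 4 ≤ q ^ 2 := by nlinarith
    exact ⟨q ^ 2 / 2 - 1, by omega⟩
  have hd : q ^ 2 - 1 ∣ Nat.card W - 1 := h.odd_dvd hqodd ((hNc' ▸ dvd_mul_left _ _).trans hNX)
  rw [hm, hq, ← pow_mul, mul_comm n 2] at hd
  have hdiv := dvd_exponent hd
  have hm0 : 0 < m := by
    by_contra h0
    rw [show m = 0 by omega] at hm
    have := h.pos
    omega
  have hWge : q * q ≤ Nat.card W := by
    rw [hm, hq, ← pow_add]
    exact Nat.pow_le_pow_right (by norm_num) (by have := Nat.le_of_dvd hm0 hdiv; omega)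
  -- 2-subgroups of the socle
  have h2sub : ∀ E : Subgroup N, IsPGroup 2 E → Nat.card E ≤ q := by
    intro E hE
    obtain ⟨j, hj⟩ := IsPGroup.iff_card.1 hE
    have h1 : Nat.card E ∣ q * (q ^ 2 - 1) := hNc' ▸ Subgroup.card_subgroup_dvd_card E
    rw [hj] at h1 ⊢
    exact Nat.le_of_dvd (by positivity)
      ((Nat.Coprime.pow_left _ (Nat.coprime_two_left.2 hqodd)).dvd_of_dvd_mul_right h1)
  have hinf : Nat.card (B ⊓ N : Subgroup X) ≤ q :=
    h.card_inf_le N (MulEquiv.refl N) fun E hE => h2sub E hE.isPGroup
  have hBN : B ≤ N ∧ (n = 2 → N = ⊤) := by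
    rcases Nat.lt_or_ge n 3 with hlt | h3
    · -- the socle is everything
      have hn2 : n = 2 := by omega
      suffices hN : N = ⊤ by exact ⟨hN ▸ le_top, fun _ => hN⟩
      have hq4' : q = 4 := by rw [hq, hn2]; norm_num
      obtain ⟨P⟩ := (inferInstance : Nonempty (Sylow 2 N))
      set H := normalizer (((P : Subgroup N).map N.subtype) : Set X) with hH
      have hcount : Nat.card (Sylow 2 N) = 5 ∨ Nat.card (Sylow 2 N) = 15 := by
        have h1 := H62.one_lt_card_sylow (G := N) (p := 2) hNc (by rw [hNc', hq4']; norm_num)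
        have h2 := H62.card_sylow_mod (G := N) (p := 2)
        have h3 : Nat.card (Sylow 2 N) ∣ 15 := by
          have h5 := P.card_dvd_index
          have hPc : Nat.card (P : Subgroup N) = 4 := by
            rw [P.card_eq_multiplicity, hNc', hq4', show 4 * (4 ^ 2 - 1) = 2 ^ 2 * 15 by norm_num,
              Nat.factorization_mul (by norm_num) (by norm_num), Finsupp.add_apply,
              Nat.prime_two.factorization_pow, Finsupp.single_eq_same,
              Nat.factorization_eq_zero_of_not_dvd (by norm_num)]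
            norm_num
          have h6 := Subgroup.card_mul_index (P : Subgroup N)
          rw [hPc, hNc', hq4'] at h6
          rwa [show (P : Subgroup N).index = 15 by norm_num at h6; omega] at h5
        have h4 := Nat.le_of_dvd (by norm_num) h3
        by_contra hcon
        push Not at hcon
        have h3' : Nat.card (Sylow 2 N) = 3 := by
          interval_cases hs : Nat.card (Sylow 2 N) <;> first | omega | norm_num at h3
        have hne : normalizer ((P : Subgroup N) : Set N) ≠ ⊤ := fun e' => by
          rw [← H62.card_sylow_eq_one_iff, h3'] at e'; norm_num at e'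
        have h6 := H62.two_mul_card_dvd_factorial hNc _ hne
        rw [show (normalizer ((P : Subgroup N) : Set N)).index = 3 from
          P.card_eq_index_normalizer.symm.trans h3', hNc', hq4'] at h6
        norm_num [Nat.factorial] at h6
      have hcount5 : Nat.card (Sylow 2 N) = 5 := by
        rcases hcount with h5 | h15
        · exact h5
        · exfalso
          -- a torus element normalises the upper unipotent group
          haveI : Fact (Nat.Prime 3) := ⟨Nat.prime_three⟩
          obtain ⟨t, ht⟩ : ∃ t : Fˣ, t ≠ 1 := by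
            have : 1 < Nat.card Fˣ := by rw [Nat.card_units, Nat.card_eq_fintype_card, hF, hq4']; norm_num
            haveI : Nontrivial Fˣ := Finite.one_lt_card_iff_nontrivial.1 this
            exact exists_ne 1
          let P₁ : Sylow 2 N := (H74.SL2.upperSylow (F := F) 2).mapSurjective
            (f := e.symm.toMonoidHom) e.symm.surjective
          have hmem : e.symm (H78.Nat2.hh t) ∈ normalizer ((P₁ : Subgroup N) : Set N) := by
            have h1 : H78.Nat2.hh t ∈ normalizer (H74.SL2.upper F : Set SL(2, F)) :=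
              H74.SL2.mem_normalizer_upper.2 (by simp [H78.Nat2.coe_hh])
            exact le_normalizer_map e.symm.toMonoidHom (mem_map_of_mem _ h1)
          have h7 : Nat.card (normalizer ((P₁ : Subgroup N) : Set N)) * Nat.card (Sylow 2 N) = Nat.card N :=
            H62.card_normalizer_mul P₁
          rw [h15, hNc', hq4'] at h7
          have h8 : Nat.card (normalizer ((P₁ : Subgroup N) : Set N)) = 4 := by omega
          have h9 : orderOf (e.symm (H78.Nat2.hh t)) ∣ 4 := h8 ▸ Subgroup.orderOf_dvd_natCard _ hmem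
          rw [MulEquiv.orderOf_eq] at h9
          let hhom : Fˣ →* SL(2, F) := MonoidHom.mk' H78.Nat2.hh H78.Nat2.hh_mul
          have hinj : Function.Injective hhom := fun a b hab => Units.ext (by
            simpa [hhom, H78.Nat2.coe_hh] using congrArg (fun g : SL(2, F) => g 0 0) hab)
          rw [show H78.Nat2.hh t = hhom t from rfl, orderOf_injective hhom hinj] at h9
          have h10 : orderOf t ∣ 3 := by
            have := orderOf_dvd_natCard t
            rwa [Nat.card_units, Nat.card_eq_fintype_card, hF, hq4'] at this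
          exact ht (orderOf_eq_one_iff.1 (Nat.dvd_one.1 (by simpa using Nat.dvd_gcd h9 h10)))
      have hHN : H ⊔ N = ⊤ := Sylow.normalizer_sup_eq_top P
      have hidx : H.index = 5 := by
        have e1 : H.subgroupOf N = normalizer ((P : Subgroup N) : Set N) := by
          refine le_antisymm ?_ (map_le_iff_le_comap.1 (le_normalizer_map N.subtype))
          refine (le_normalizer_comap N.subtype).trans (le_of_eq ?_)
          rw [comap_map_eq_self_of_injective N.subtype_injective]
        have e2 : Nat.card (H.subgroupOf N) * 5 = Nat.card N := by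
          rw [e1, ← hcount5]; exact H62.card_normalizer_mul P
        have e3 : N.relIndex H = N.index := by
          rw [← relIndex_sup_right, hHN, relIndex_top_right]
        have e4 : Nat.card (N.subgroupOf H) = Nat.card (H.subgroupOf N) := by
          rw [← inf_subgroupOf_right N H, ← inf_subgroupOf_right H N,
            Nat.card_congr (subgroupOfEquivOfLe inf_le_right).toEquiv,
            Nat.card_congr (subgroupOfEquivOfLe inf_le_right).toEquiv, inf_comm]
        have e5 := (N.subgroupOf H).card_mul_index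
        rw [show (N.subgroupOf H).index = N.index from e3, e4] at e5
        have e6 := H.card_mul_index
        rw [← N.card_mul_index, ← e5, ← e2] at e6
        have e7 : Nat.card (H.subgroupOf N) * N.index ≠ 0 :=
          mul_ne_zero Nat.card_pos.ne' index_ne_zero_of_finite
        refine Nat.eq_of_mul_eq_mul_left (Nat.pos_of_ne_zero e7) ?_
        rw [e6]; ring
      have hcore : H.normalCore = ⊥ := by
        have h1 : H.normalCore ⊓ N = ⊥ := by
          rcases ((inferInstance : (H.normalCore.subgroupOf N).Normal)).eq_bot_or_eq_top with h2 | h2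
          · rwa [subgroupOf_eq_bot, disjoint_iff] at h2
          · exfalso
            have h3 : N ≤ H := (subgroupOf_eq_top.1 h2).trans (normalCore_le H)
            have h4 : H = ⊤ := by rw [← hHN, eq_comm, sup_eq_left.2 h3]
            rw [h4, index_top] at hidx
            omega
        refine le_bot_iff.1 (hCN ▸ fun x hx => mem_centralizer_iff.2 fun y hy => ?_)
        exact (Subgroup.commute_of_normal_of_disjoint H.normalCore N inferInstance hNn
          (disjoint_iff.2 h1) x y hx hy).eq.symm
      have hle120 : Nat.card X ∣ 120 := by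
        have hinj : Function.Injective (MulAction.toPermHom X (X ⧸ H)) := by
          rw [← MonoidHom.ker_eq_bot_iff, ← normalCore_eq_ker, hcore]
        have := Subgroup.card_dvd_of_injective _ hinj
        rwa [Nat.card_perm, ← Subgroup.index_eq_card, hidx] at this
      have hN60 : Nat.card N = 60 := by rw [hNc', hq4']; norm_num
      rw [hN60] at hNX
      obtain ⟨c, hc⟩ := hNX
      have hc2 : c ∣ 2 := by
        rw [hc] at hle120
        exact Nat.dvd_of_mul_dvd_mul_left (by norm_num : 0 < 60) hle120
      rcases (Nat.dvd_prime Nat.prime_two).1 hc2 with h1 | h1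
      · exact eq_top_of_card_eq N (by rw [hN60, hc, h1])
      · exfalso
        obtain ⟨e5⟩ := H39.nonempty_mulEquiv_perm_fin hcore hidx (by rw [hc, h1]; rfl)
        refine h.cit.no_two_mult (q := 3) Nat.prime_three (by norm_num)
          (g := e5.symm (Equiv.swap 0 1 * (Equiv.swap 2 3 * Equiv.swap 3 4))) ?_
        rw [MulEquiv.orderOf_eq]
        refine (dvd_of_eq ?_)
        symm
        refine (orderOf_eq_iff (by norm_num)).2 ⟨by decide +kernel, fun j hj hj0 => ?_⟩
        interval_cases j <;> decide +kernel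
    · refine ⟨?_, fun h2 => by omega⟩
      by_contra hBN
      obtain ⟨b, hbB, hbN⟩ := SetLike.not_le_iff_exists.1 hBN
      obtain ⟨r, hr, hrd⟩ := Nat.exists_prime_and_dvd (n := q ^ 2 - 1) (by
        have : 16 ≤ q ^ 2 := by nlinarith
        omega)
      haveI := Fact.mk hr
      have hr2 : r ≠ 2 := fun e2 => by subst e2; exact Nat.not_even_iff_odd.2 hqodd (even_iff_two_dvd.2 hrd)
      obtain ⟨P⟩ := (inferInstance : Nonempty (Sylow r N))
      haveI : IsCyclic (P : Subgroup N) := by
        haveI := H37.isCyclic_of_isPGroup 2 r hr2 hr2 ((P : Subgroup N).map e.toMonoidHom)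
          (P.isPGroup'.map _)
        exact isCyclic_of_injective (e.toMonoidHom.subgroupMap (P : Subgroup N))
          (fun a c hac => Subtype.ext (e.injective (congrArg Subtype.val hac)))
      have hB2 : Nat.card B ≤ 2 * Nat.card (B ⊓ N : Subgroup X) :=
        card_le_two_mul_inf h.cit N hr2 P
          (P.ne_bot_of_dvd_card (hNc' ▸ hrd.mul_left _)) h.elem
      -- a Sylow 2-subgroup of the socle normalised by `B`
      obtain ⟨S, hBS⟩ := h.elem.isPGroup.exists_le_sylow
      set S₀ := (S : Subgroup X) ⊓ N with hS₀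
      have hS₀2 : IsPGroup 2 S₀ := S.isPGroup'.to_le inf_le_left
      have hSN : (S : Subgroup X) ≤ normalizer (S₀ : Set X) := fun s hs =>
        inf_normalizer_le_normalizer_inf ⟨le_normalizer hs, by rw [normalizer_eq_top]; exact mem_top s⟩
      obtain ⟨P₀⟩ := (inferInstance : Nonempty (Sylow 2 N))
      have hS₀c : Nat.card S₀ = q := by
        refine le_antisymm ?_ ?_
        · have := h2sub (S₀.subgroupOf N) (hS₀2.of_equiv (subgroupOfEquivOfLe inf_le_right).symm)
          rwa [Nat.card_congr (subgroupOfEquivOfLe inf_le_right).toEquiv] at this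
        · obtain ⟨T, hT⟩ := (P₀.isPGroup'.map N.subtype).exists_le_sylow
          obtain ⟨g, hg⟩ := MulAction.exists_smul_eq X T S
          have hq' : q ∣ Nat.card (P₀ : Subgroup N) := by
            rw [hq]; exact P₀.pow_dvd_card_of_pow_dvd_card (hNc' ▸ dvd_mul_right _ _)
          refine (Nat.le_of_dvd Nat.card_pos hq').trans (Nat.card_le_card_of_injective
            (fun p : (P₀ : Subgroup N) => (⟨g * ((p : N) : X) * g⁻¹, ?_,
              hNn.conj_mem _ (p : N).2 g⟩ : S₀)) ?_)
          · rw [← hg, Sylow.coe_subgroup_smul]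
            exact H2.conj_smul_mem (hT (mem_map_of_mem N.subtype p.2))
          · intro a c hac
            exact Subtype.ext (Subtype.ext (mul_left_cancel (mul_right_cancel (congrArg Subtype.val hac))))
      set L := normalizer (S₀ : Set X) with hL
      obtain ⟨t, ht⟩ : ∃ t : Fˣ, orderOf t = q - 1 := by
        obtain ⟨t, ht⟩ := IsCyclic.exists_ofOrder_eq_natCard (α := Fˣ)
        exact ⟨t, by rw [ht, Nat.card_units, Nat.card_eq_fintype_card, hF]⟩
      let hhom : Fˣ →* SL(2, F) := MonoidHom.mk' H78.Nat2.hh H78.Nat2.hh_mul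
      have hinj : Function.Injective hhom := fun a c hab => Units.ext (by
        simpa [hhom, H78.Nat2.coe_hh] using congrArg (fun g : SL(2, F) => g 0 0) hab)
      let U₀ : Sylow 2 N := (H74.SL2.upperSylow (F := F) 2).mapSurjective
        (f := e.symm.toMonoidHom) e.symm.surjective
      obtain ⟨U₁, hU₁⟩ := (hS₀2.of_equiv (subgroupOfEquivOfLe (inf_le_right : S₀ ≤ N)).symm).exists_le_sylow
      obtain ⟨g, hg⟩ := MulAction.exists_smul_eq N U₀ U₁
      set τ : N := g * e.symm (hhom t) * g⁻¹ with hτdef
      have hτ : orderOf τ = q - 1 := by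
        rw [hτdef, show g * e.symm (hhom t) * g⁻¹ = MulAut.conj g (e.symm (hhom t)) from rfl,
          MulEquiv.orderOf_eq, MulEquiv.orderOf_eq, orderOf_injective hhom hinj, ht]
      have hτL : (τ : X) ∈ L := by
        have h1 : hhom t ∈ normalizer (H74.SL2.upper F : Set SL(2, F)) :=
          H74.SL2.mem_normalizer_upper.2 (by simp [hhom, H78.Nat2.coe_hh])
        have h2 : e.symm (hhom t) ∈ normalizer ((U₀ : Subgroup N) : Set N) :=
          le_normalizer_map e.symm.toMonoidHom (mem_map_of_mem _ h1)
        have h3 : τ ∈ normalizer ((U₁ : Subgroup N) : Set N) := by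
          refine Sylow.smul_eq_iff_mem_normalizer.1 ?_
          rw [hτdef, ← hg, smul_smul]
          rw [show g * e.symm (hhom t) * g⁻¹ * g = g * e.symm (hhom t) by group, ← smul_smul,
            Sylow.smul_eq_iff_mem_normalizer.2 h2]
        have hU₁' : (U₁ : Subgroup N) = S₀.subgroupOf N := (eq_of_le_of_card_ge hU₁ (by
          rw [Nat.card_congr (subgroupOfEquivOfLe (inf_le_right : S₀ ≤ N)).toEquiv, hS₀c]
          exact h2sub _ U₁.isPGroup')).symm
        rw [hU₁'] at h3
        have h4 := le_normalizer_map N.subtype (mem_map_of_mem _ h3)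
        rwa [map_subgroupOf_eq_of_le inf_le_right] at h4
      have hτodd : Odd (orderOf (τ : X)) := by
        rw [orderOf_coe, hτ]; exact ⟨q / 2 - 1, by omega⟩
      have hbL : b ∈ L := hSN (hBS hbB)
      have hb2 : orderOf b = 2 := orderOf_two (h.elem b hbB) (fun e' => hbN (e' ▸ one_mem N))
      have hbc : b ∉ core2 L := by
        intro hbc
        -- the coset of `b` would be regular under the torus
        set D := core2 L
        have hD2 : IsPGroup 2 D := isPGroup_core2 L
        have hDN : ∀ x ∈ D, x ∈ N → x ∈ S₀ := by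
          intro x hxD hxN
          have hsup : IsPGroup 2 ((S₀ ⊔ D ⊓ N : Subgroup X)) :=
            IsPGroup.to_sup_of_normal_left' hS₀2 (hD2.to_le inf_le_left)
              (inf_le_left.trans (core2_le L))
          have h5 : (S₀ ⊔ D ⊓ N).subgroupOf N ≤ S₀.subgroupOf N := by
            have h6 := h2sub _ (hsup.of_equiv (subgroupOfEquivOfLe (sup_le inf_le_right inf_le_right)).symm)
            rw [Nat.card_congr (subgroupOfEquivOfLe (sup_le inf_le_right inf_le_right)).toEquiv, ← hS₀c] at h6
            rw [← eq_of_le_of_card_ge le_sup_left h6]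
          exact mem_subgroupOf.1 (h5 (show (⟨x, hxN⟩ : N) ∈ (S₀ ⊔ D ⊓ N).subgroupOf N from
            mem_subgroupOf.2 (mem_sup_right (mem_inf.2 ⟨hxD, hxN⟩))))
        set T := zpowers (τ : X)
        have hstable : ∀ a ∈ T, ∀ x : X, x ∈ D → x * b⁻¹ ∈ N → a * x * a⁻¹ ∈ D ∧ a * x * a⁻¹ * b⁻¹ ∈ N := by
          intro a ha x hx hxb
          have haL : a ∈ L := (zpowers_le.2 hτL) ha
          have haN : a ∈ N := (zpowers_le.2 τ.2) ha
          refine ⟨(mem_normalizer_iff.1 (le_normalizer_core2 L haL) x).1 hx, ?_⟩
          rw [show a * x * a⁻¹ * b⁻¹ = a * (x * b⁻¹) * (b * a⁻¹ * b⁻¹) by group]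
          exact mul_mem (mul_mem haN hxb) (hNn.conj_mem _ (inv_mem haN) b)
        let Ω := {x : X // x ∈ D ∧ x * b⁻¹ ∈ N}
        have hΩ : Nat.card Ω = q := by
          rw [← hS₀c]
          refine Nat.card_congr ⟨fun x => ⟨x.1 * b⁻¹, hDN _ (mul_mem x.2.1 (inv_mem hbc)) x.2.2⟩,
            fun s => ⟨(s : X) * b, mul_mem (le_core2 le_normalizer le_rfl hS₀2 s.2) hbc,
              by rw [mul_inv_cancel_right]; exact s.2.2⟩,
            fun x => Subtype.ext (inv_mul_cancel_right _ _), fun s => Subtype.ext (mul_inv_cancel_right _ _)⟩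
        letI : MulAction T Ω :=
          { smul := fun a x => ⟨(a : X) * x.1 * (a : X)⁻¹, hstable a a.2 x.1 x.2.1 x.2.2⟩
            one_smul := fun x => Subtype.ext (by show ((1 : T) : X) * x.1 * ((1 : T) : X)⁻¹ = x.1; simp)
            mul_smul := fun a c x => Subtype.ext (by
              show ((a * c : T) : X) * x.1 * ((a * c : T) : X)⁻¹ = a * (c * x.1 * (c : X)⁻¹) * (a : X)⁻¹
              rw [Subgroup.coe_mul]; group) }
        have hfree : ∀ (a : T) (x : Ω), a • x = x → a = 1 := by
          intro a x hax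
          by_contra ha1
          have h1 : (a : X) * x.1 * (a : X)⁻¹ = x.1 := congrArg Subtype.val hax
          have hx1 := h.cit.fpf' hD2 (hτodd.of_dvd_nat (by
            rw [← Nat.card_zpowers (τ : X)]; exact Subgroup.orderOf_dvd_natCard _ a.2))
            (fun e' => ha1 (Subtype.ext e')) x.2.1 (mul_inv_eq_iff_eq_mul.1 h1)
          have := x.2.2
          rw [hx1, one_mul, inv_mem_iff] at this
          exact hbN this
        have h7 := card_dvd_of_free hfree
        rw [Nat.card_zpowers, orderOf_coe, hτ, hΩ] at h7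
        have h8 : q - 1 ∣ 1 := by
          have := Nat.dvd_sub h7 (dvd_refl (q - 1))
          rwa [show q - (q - 1) = 1 by omega] at this
        have := Nat.le_of_dvd one_pos h8
        omega
      obtain ⟨w, hwL, hwp, hwo, hwb⟩ := exists_inverted_in hbL hb2 hbc
      have hU : Nat.card (B ⊓ N : Subgroup X) * Nat.card (B ⊓ N : Subgroup X) ≤ q := by
        rw [← hS₀c]
        exact h.cit.card_fix_sq hS₀2 hwb hwo
          (fun e' => by rw [e', orderOf_one] at hwp; exact Nat.not_prime_one hwp)
          (le_inf (le_inf (inf_le_left.trans hBS) inf_le_right)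
            (fun x hx => mem_cent.2 (h.elem.comm hx.1 hbB)))
          fun x hx => (mem_normalizer_iff.1 hwL x).1 ⟨hBS hx.1, hx.2⟩
      have h9 : Nat.card B * Nat.card B ≤ 4 * q := by
        calc Nat.card B * Nat.card B ≤ (2 * _) * (2 * _) := Nat.mul_le_mul hB2 hB2
          _ = 4 * (Nat.card (B ⊓ N : Subgroup X) * Nat.card (B ⊓ N : Subgroup X)) := by ring
          _ ≤ 4 * q := Nat.mul_le_mul_left 4 hU
      have h10 : 8 ≤ q := (show 8 = 2 ^ 3 by norm_num).le.trans (Nat.pow_le_pow_right (by norm_num) h3)
      nlinarith [hWge.trans (hW2.trans h9)]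
  have hBc : Nat.card B ≤ q := by rwa [inf_eq_left.2 hBN.1] at hinf
  have hWle : Nat.card W ≤ q * q := hW2.trans (Nat.mul_le_mul hBc hBc)
  have hWq : Nat.card W = q * q := le_antisymm hWle hWge
  obtain ⟨b, hb, hb1⟩ := (Subgroup.ne_bot_iff_exists_ne_one.1 h.bne).elim fun z hz =>
    (⟨z, z.2, fun e => hz (Subtype.ext e)⟩ : ∃ z, z ∈ B ∧ z ≠ 1)
  have hfix := h.fix_sq_le hb hb1
  rw [hWq] at hfix
  have hfix' : Nat.card (fixOf ρ B) ≤ q := Nat.mul_self_le_mul_self_iff.1 hfix
  have hff := h.ff
  rw [hWq] at hff
  have hBq : Nat.card B = q := le_antisymm hBc (Nat.le_of_mul_le_mul_right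
    (hff.trans (Nat.mul_le_mul le_rfl hfix')) (by omega))
  rw [hBq] at hff
  exact ⟨N, F, iF, iFt, n, e, hNn, hn, hF, hBN.1, hBq, hWq,
    le_antisymm hfix' (Nat.le_of_mul_le_mul_left hff (by omega)), hCN, hBN.2⟩

end FF

end H11.CIT
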