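import Cfsg.Agent.H11.CIT.Rep

/-!
Facts on `SL₂` of a field of characteristic two used in the 2-local analysis.
-/

set_option autoImplicit false
set_option linter.style.haveILetI false
set_option linter.unusedSectionVars false

open scoped MatrixGroups
open Matrix

namespace H11.CIT.Semi

variable {F : Type*} [Field F]

/-- If inversion is additive the field has at most four elements. -/
theorem card_le_four [Fintype F] [CharP F 2] (h : ∀ x : F, x ≠ 0 → x ≠ 1 → x ^ 2 + x + 1 = 0) :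
    Fintype.card F ≤ 4 := by
  classical
  by_cases hx : ∃ x : F, x ≠ 0 ∧ x ≠ 1
  · obtain ⟨a, ha0, ha1⟩ := hx
    have hs : (Finset.univ : Finset F) ⊆ {0, 1, a, a + 1} := by
      intro b _
      simp only [Finset.mem_insert, Finset.mem_singleton]
      by_cases hb0 : b = 0
      · exact Or.inl hb0
      by_cases hb1 : b = 1
      · exact Or.inr (Or.inl hb1)
      have h1 : (b - a) * (b + a + 1) = 0 := by linear_combination h b hb0 hb1 - h a ha0 ha1
      rcases mul_eq_zero.1 h1 with h2 | h2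
      · exact Or.inr (Or.inr (Or.inl (sub_eq_zero.1 h2)))
      · refine Or.inr (Or.inr (Or.inr ?_))
        have := eq_neg_of_add_eq_zero_left (by rwa [add_assoc] at h2 : b + (a + 1) = 0)
        rwa [CharTwo.neg_eq] at this
    exact (Finset.card_le_card hs).trans Finset.card_le_four
  · push Not at hx
    have hs : (Finset.univ : Finset F) ⊆ {0, 1} := fun b _ => by
      by_cases hb : b = 0
      · simp [hb]
      · simp [hx b hb]
    exact (Finset.card_le_card hs).trans (Finset.card_le_two.trans (by norm_num))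

/-- An additive map twisted by the inverse of the torus forces at most four elements. -/
theorem card_le_four_of_twist [Fintype F] [CharP F 2] (θ : F → F) (hadd : ∀ x y, θ (x + y) = θ x + θ y)
    (h1 : θ 1 ≠ 0) (h : ∀ (t : Fˣ) (x : F), θ ((t : F) ^ 2 * x) = ((t : F) ^ 2)⁻¹ * θ x) :
    Fintype.card F ≤ 4 := by
  haveI : Fact (Nat.Prime 2) := ⟨Nat.prime_two⟩
  have key : ∀ x : F, x ≠ 0 → θ x = x⁻¹ * θ 1 := by
    intro x hx
    obtain ⟨t, rfl⟩ := (frobeniusEquiv F 2).surjective x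
    rw [frobeniusEquiv_def] at hx ⊢
    have ht : t ≠ 0 := fun e => hx (by simp [e])
    have := h (Units.mk0 t ht) 1
    rwa [mul_one, Units.val_mk0] at this
  refine card_le_four fun x hx0 hx1 => ?_
  have hx2 : x + 1 ≠ 0 := fun e => hx1 (by rw [eq_neg_of_add_eq_zero_left e, CharTwo.neg_eq])
  have e := hadd x 1
  rw [key _ hx2, key x hx0] at e
  have e' : (x + 1)⁻¹ = x⁻¹ + 1 := mul_right_cancel₀ h1 (by rw [e]; ring)
  field_simp at e'
  linear_combination -e'

/-- The trace of a square. -/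
theorem trace_sq [CharP F 2] (g : SL(2, F)) :
    Matrix.trace ((g * g : SL(2, F)) : Matrix (Fin 2) (Fin 2) F) =
      (Matrix.trace (g : Matrix (Fin 2) (Fin 2) F)) ^ 2 := by
  rw [Matrix.SpecialLinearGroup.coe_mul]
  simp only [Matrix.trace_fin_two, Matrix.mul_apply, Fin.sum_univ_two]
  have h2 : (2 : F) = 0 := CharTwo.two_eq_zero
  linear_combination (g 0 1 * g 1 0 - g 0 0 * g 1 1) * h2

/-- An element of non-zero trace is no 2-element. -/
theorem pow_two_pow_ne_one [CharP F 2] {g : SL(2, F)}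
    (h : Matrix.trace (g : Matrix (Fin 2) (Fin 2) F) ≠ 0) (k : ℕ) : g ^ 2 ^ k ≠ 1 := by
  suffices hs : Matrix.trace ((g ^ 2 ^ k : SL(2, F)) : Matrix (Fin 2) (Fin 2) F) ≠ 0 by
    intro e
    rw [e, Matrix.SpecialLinearGroup.coe_one, Matrix.trace_one, Fintype.card_fin] at hs
    exact hs (by rw [Nat.cast_ofNat]; exact CharTwo.two_eq_zero)
  induction k with
  | zero => simpa using h
  | succ k ih => rw [pow_succ 2 k, pow_mul, sq, trace_sq]; exact pow_ne_zero 2 ih

/-- Trace one means order three. -/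
theorem pow_three_eq_one [CharP F 2] {g : SL(2, F)}
    (h : Matrix.trace (g : Matrix (Fin 2) (Fin 2) F) = 1) : g ^ 3 = 1 := by
  have hdet : g 0 0 * g 1 1 - g 0 1 * g 1 0 = 1 := by rw [← det_fin_two]; exact g.2
  rw [Matrix.trace_fin_two] at h
  have h2 : (2 : F) = 0 := CharTwo.two_eq_zero
  apply Subtype.ext
  rw [pow_three', Matrix.SpecialLinearGroup.coe_mul, Matrix.SpecialLinearGroup.coe_mul,
    Matrix.SpecialLinearGroup.coe_one]
  ext i j
  fin_cases i <;> fin_cases j <;> simp [Matrix.mul_apply, Fin.sum_univ_two] <;> grind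

/-- Two elements of order three whose commutator is no 2-element. -/
theorem exists_commutator [Fintype F] [CharP F 2] (hF : 4 ≤ Fintype.card F) :
    ∃ w₁ w₂ : SL(2, F), w₁ ≠ 1 ∧ w₂ ≠ 1 ∧ w₁ ^ 3 = 1 ∧ w₂ ^ 3 = 1 ∧
      ∀ k : ℕ, (w₁ * w₂ * w₁⁻¹ * w₂⁻¹) ^ 2 ^ k ≠ 1 := by
  classical
  have h2 : (2 : F) = 0 := CharTwo.two_eq_zero
  have key : ∀ w₂ : SL(2, F), ∀ z : F, z ≠ 0 → z ≠ 1 →
      Matrix.trace ((w₂ : Matrix (Fin 2) (Fin 2) F)) = 1 →
      w₂ 1 0 + w₂ 0 1 + w₂ 1 1 = z →
      ∃ w₁ w₂ : SL(2, F), w₁ ≠ 1 ∧ w₂ ≠ 1 ∧ w₁ ^ 3 = 1 ∧ w₂ ^ 3 = 1 ∧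
        ∀ k : ℕ, (w₁ * w₂ * w₁⁻¹ * w₂⁻¹) ^ 2 ^ k ≠ 1 := by
    intro w₂ z hz0 hz1 htr hz
    let w₁ : SL(2, F) := ⟨!![0, 1; 1, 1], by simp [det_fin_two_of, CharTwo.neg_eq]⟩
    have hw₁ : (w₁ : Matrix (Fin 2) (Fin 2) F) = !![0, 1; 1, 1] := rfl
    refine ⟨w₁, w₂, ?_, ?_, ?_, pow_three_eq_one htr, fun k => pow_two_pow_ne_one ?_ k⟩
    · intro e
      have := congrArg (fun g : SL(2, F) => g 0 1) e
      simp [w₁] at this
    · intro e
      rw [e, Matrix.SpecialLinearGroup.coe_one, Matrix.trace_one, Fintype.card_fin] at htr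
      simp [h2] at htr
    · exact pow_three_eq_one (by simp [Matrix.trace_fin_two, hw₁])
    · intro e
      have hdet : w₂ 0 0 * w₂ 1 1 - w₂ 0 1 * w₂ 1 0 = 1 := by
        rw [← det_fin_two]; exact w₂.2
      rw [Matrix.trace_fin_two] at htr
      simp only [Matrix.SpecialLinearGroup.coe_mul, Matrix.SpecialLinearGroup.coe_inv,
        adjugate_fin_two, Matrix.trace_fin_two, Matrix.mul_apply, Fin.sum_univ_two, hw₁,
        Matrix.of_apply, Matrix.cons_val', Matrix.cons_val_zero, Matrix.cons_val_one,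
        Matrix.cons_val_fin_one] at e
      refine mul_ne_zero hz0 (show z + 1 ≠ 0 from fun e' => hz1 (by
        rw [eq_neg_of_add_eq_zero_left e', CharTwo.neg_eq])) ?_
      subst hz
      have ha : w₂ 0 0 = w₂ 1 1 + 1 := by linear_combination htr - w₂ 1 1 * h2
      rw [ha] at hdet e
      grind
  by_cases hx : ∃ x : F, x ≠ 0 ∧ x ≠ 1 ∧ x ^ 2 + x + 1 ≠ 0
  · obtain ⟨x, hx0, hx1, hx2⟩ := hx
    have hne : x + x⁻¹ + 1 ≠ 0 := fun e => hx2 (by field_simp at e; linear_combination e)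
    have hne1 : x + x⁻¹ + 1 ≠ 1 := fun e => by
      have e' : (x + 1) * (x + 1) = 0 := by
        field_simp at e
        linear_combination e + x * h2
      exact hx1 (by rw [eq_neg_of_add_eq_zero_left (mul_self_eq_zero.1 e'), CharTwo.neg_eq])
    exact key ⟨!![0, x; x⁻¹, 1], by simp [det_fin_two_of, hx0, CharTwo.neg_eq]⟩ _ hne hne1
      (by simp [Matrix.trace_fin_two]) (by simp; ring)
  · push Not at hx
    obtain ⟨ω, hω0, hω1⟩ : ∃ ω : F, ω ≠ 0 ∧ ω ≠ 1 := by
      by_contra hall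
      push Not at hall
      have : (Finset.univ : Finset F) ⊆ {0, 1} := fun b _ => by
        by_cases hb : b = 0
        · simp [hb]
        · simp [hall b hb]
      have := (Finset.card_le_card this).trans Finset.card_le_two
      rw [Finset.card_univ] at this
      omega
    have hω := hx ω hω0 hω1
    refine key ⟨!![ω, 0; 0, ω + 1], by
      rw [det_fin_two_of]; linear_combination hω - h2⟩ (ω + 1) ?_ ?_ ?_ ?_
    · exact fun e => hω1 (by rw [eq_neg_of_add_eq_zero_left e, CharTwo.neg_eq])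
    · intro e
      exact hω0 (by linear_combination e)
    · simp [Matrix.trace_fin_two]; linear_combination ω * h2
    · simp

/-- A non-trivial torus element. -/
theorem hh_ne_one_of_ne {t : Fˣ} (ht : t ≠ 1) : (H78.Nat2.hh t : SL(2, F)) ≠ 1 := fun e => ht (by
  have := congrArg (fun g : SL(2, F) => g 0 0) e
  exact Units.ext (by simpa [H78.Nat2.coe_hh] using this))

end H11.CIT.Semi
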