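import Cfsg.Agent.H11.CIT.Unique
import Cfsg.Agent.H11.CTI.Final
import Cfsg.Agent.H11.SzUniq.Iso

/-!
Simple-like groups with 2-group involution centralisers and TI Sylow 2-subgroups are `PSL₂(2ⁿ)` or
Suzuki groups.
-/

set_option autoImplicit false
set_option linter.style.haveILetI false
set_option linter.unusedSectionVars false

namespace H11.CIT

open Subgroup
open scoped Pointwise

universe u

variable {G : Type u} [Group G] [Finite G]

theorem ti_case (hG : IsCIT G) (h2 : NoNormalTwo G) [Nontrivial G]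
    (heven : ∀ K : Subgroup G, K.Normal → K ≠ ⊥ → ∃ t ∈ K, orderOf t = 2)
    (hti : ∀ S T : Sylow 2 G, S ≠ T → (S : Subgroup G) ⊓ (T : Subgroup G) = ⊥) :
    (∃ n : ℕ, 2 ≤ n ∧
      Nonempty (G ≃* Matrix.ProjectiveSpecialLinearGroup (Fin 2) (GaloisField 2 n))) ∨
      Cfsg.Lie.IsoSuzuki G := by
  haveI : Fact (Nat.Prime 2) := ⟨Nat.prime_two⟩
  obtain ⟨t₀, -, ht₀⟩ := heven ⊤ inferInstance top_ne_bot
  have hz : ∀ {v : G}, orderOf v = 2 → IsPGroup 2 (zpowers v) := fun {v} hv =>
    IsPGroup.of_card (n := 1) (by rw [Nat.card_zpowers, hv, pow_one])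
  obtain ⟨S, hS⟩ := (hz ht₀).exists_le_sylow
  have htS : t₀ ∈ (S : Subgroup G) := hS (mem_zpowers t₀)
  have ht1 : t₀ ≠ 1 := H65.ne_one_of_two ht₀
  set N := normalizer ((S : Subgroup G) : Set G) with hN
  have hhall : ∀ g ∈ N, orderOf g ∣ Nat.card (S : Subgroup G) → g ∈ (S : Subgroup G) := by
    intro g hg ho
    obtain ⟨k, hk⟩ := IsPGroup.iff_card.1 S.isPGroup'
    obtain ⟨j, -, hj⟩ := (Nat.dvd_prime_pow Nat.prime_two).1 (hk ▸ ho)
    have h1 : IsPGroup 2 (zpowers g ⊔ (S : Subgroup G) : Subgroup G) :=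
      IsPGroup.to_sup_of_normal_right' (IsPGroup.of_card (n := j) (by rw [Nat.card_zpowers, hj]))
        S.isPGroup' (zpowers_le.2 hg)
    rw [← S.is_maximal' h1 le_sup_right]
    exact le_sup_left (b := (S : Subgroup G)) (mem_zpowers g)
  have hmeet : ∀ (S' : Sylow 2 G) (v : G), v ∈ (S : Subgroup G) → v ∈ (S' : Subgroup G) → v ≠ 1 →
      S' = S := by
    intro S' v h1 h3 hv
    by_contra hne
    exact hv (mem_bot.1 (hti S' S hne ▸ ⟨h3, h1⟩))
  have hcomp : H11.CTI.IsComp (S : Subgroup G) := by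
    refine ⟨fun m hm hm1 => ?_, ?_⟩
    · obtain ⟨t, htm, ht⟩ := exists_invol (S.isPGroup'.to_le (zpowers_le.2 hm))
        (zpowers_ne_bot.2 hm1)
      intro g hg
      have hle : centralizer ({m} : Set G) ≤ centralizer ({t} : Set G) := by
        intro x hx
        obtain ⟨i, rfl⟩ := htm
        exact mem_cent.2 ((show Commute x m from mem_cent.1 hx).zpow_right i).eq
      obtain ⟨S', hS'⟩ := (hG t ht).exists_le_sylow
      rw [← hmeet S' t (zpowers_le.2 hm htm) (hS' (mem_cent.2 rfl)) (H65.ne_one_of_two ht)]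
      exact hS' (hle hg)
    · exact (H11.CTI.exists_sylow_central S htS ht1).elim fun z hz' =>
        ⟨z, hz'.1, hz'.2.1, hz'.2.2⟩
  have hNtop : N ≠ ⊤ := fun e => by
    haveI : (S : Subgroup G).Normal := normalizer_eq_top_iff.1 e
    rw [h2 _ inferInstance S.isPGroup', mem_bot] at htS; exact ht1 htS
  have h2S : 2 ∣ Nat.card (S : Subgroup G) := by
    have := Subgroup.orderOf_dvd_natCard _ htS
    rwa [ht₀] at this
  have h : H11.CTI.Even' (S : Subgroup G) := by
    refine ⟨hhall, heven, hcomp, ⟨t₀, htS, ht₀⟩, ?_, ?_⟩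
    · refine (H65.se_iff hNtop (H65.even_card_of_mem (le_normalizer htS) ht₀)).2 ?_
      intro s g hs hsN hg
      have hs' : orderOf (g⁻¹ * s * g) = 2 := by
        rw [show g⁻¹ * s * g = MulAut.conj g⁻¹ s by simp, MulEquiv.orderOf_eq, hs]
      have h1 := hhall s hsN (by rw [hs]; exact h2S)
      have h3 := hhall _ hg (by rw [hs']; exact h2S)
      have h4 : g • S = S := hmeet (g • S) s h1 (by
        rw [Sylow.coe_subgroup_smul]; exact H2.mem_conj_smul.2 h3) (H65.ne_one_of_two hs)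
      exact Sylow.smul_eq_iff_mem_normalizer.1 h4
    · by_contra hone
      push Not at hone
      have hiso : Cfsg.IsIsolatedInvolution t₀ := ⟨ht₀, fun g hg =>
        (hone t₀ htS (g * t₀ * g⁻¹) (hcomp.cent t₀ htS ht1 (mem_cent.2 hg.eq.symm)) ht₀
          ((MulEquiv.orderOf_eq (MulAut.conj g) t₀).trans ht₀)).symm⟩
      haveI := H1.pPrimeCore_characteristic 2 G
      have hcore : Cfsg.pPrimeCore 2 G = ⊥ := by
        by_contra hne
        obtain ⟨x, hx, hx2⟩ := heven _ inferInstance hne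
        have hd : orderOf x ∣ Nat.card (Cfsg.pPrimeCore 2 G) := Subgroup.orderOf_dvd_natCard _ hx
        rw [hx2] at hd
        exact Nat.prime_two.coprime_iff_not_dvd.1 (H1.card_pPrimeCore_coprime 2 G).symm hd
      have hc : t₀ ∈ center G := mem_center_iff.2 fun g => by
        have := H85.zStar hiso g
        rw [hcore, mem_bot] at this
        exact (mul_inv_eq_iff_eq_mul.1 (mul_inv_eq_one.1 this)).symm
      have hn : (zpowers t₀).Normal := ⟨fun x hx g => by
        have hxc : x ∈ center G := (zpowers_le.2 hc) hx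
        rwa [mem_center_iff.1 hxc g, mul_inv_cancel_right]⟩
      have h5 := mem_zpowers t₀
      rw [h2 _ hn (hz ht₀), mem_bot] at h5
      exact ht1 h5
  by_cases hab : ∀ x ∈ (S : Subgroup G), ∀ y ∈ (S : Subgroup G), x * y = y * x
  · exact Or.inl (h.iso (h.exponent_two_of_comm hab))
  · push Not at hab
    obtain ⟨u, v, -, -, hC, -⟩ := h.exists_ctx
    exact Or.inr (H11.SzUniq.ctx_isoSuzuki hC hab)

end H11.CIT
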