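import Cfsg.Agent.H11.CIT.SpecSeven
import Cfsg.Agent.H11.CIT.TICase
import Cfsg.Agent.S3224
import Cfsg.Agent.H67.Transfer2
import Cfsg.Agent.H65.DihedralFinal
import Cfsg.Agent.H64.SL2Spectrum
import Cfsg.Agent.H33.HalfTransitive
import Cfsg.Agent.H57.SzStab
import Cfsg.Agent.H40.LieOrderBound
import Cfsg.Agent.H16.OddOrder
import Cfsg.Agent.H33.TwoPrime
import Cfsg.Agent.H85.BrauerSuzuki

/-!
A non-solvable group whose element orders are powers of two or primes different from five is
`PSL₂(7)`.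
-/

set_option autoImplicit false
set_option linter.style.haveILetI false
set_option linter.unusedSectionVars false

namespace H11.CIT

open Subgroup

universe u

variable {G : Type u} [Group G] [Finite G]

theorem isSolvable_pgroup {p : ℕ} [Fact p.Prime] {P : Subgroup G} (hP : IsPGroup p P) :
    Group.IsSolvable P := by
  haveI := hP.isNilpotent
  infer_instance

/-- A commuting pair of involutions in a group without isolated involutions. -/
theorem exists_commuting_pair {X : Type u} [Group X] [Finite X] [IsSimpleGroup X]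
    (hX : ¬ IsMulCommutative X) :
    ∃ s t : X, orderOf s = 2 ∧ orderOf t = 2 ∧ s ≠ t ∧ s * t = t * s := by
  haveI : Fact (Nat.Prime 2) := ⟨Nat.prime_two⟩
  have h2 : 2 ∣ Nat.card X := by
    by_contra h2
    haveI := H16.FT.oddOrder (G := X) (Nat.not_even_iff_odd.1 fun he => h2 (even_iff_two_dvd.1 he))
    exact hX ⟨⟨IsSimpleGroup.comm_iff_isSolvable.2 inferInstance⟩⟩
  obtain ⟨t, ht⟩ := exists_prime_orderOf_dvd_card' 2 h2
  by_contra hcon
  push Not at hcon
  have hiso : Cfsg.IsIsolatedInvolution t := by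
    refine ⟨ht, fun g hg => ?_⟩
    by_contra hne
    exact hcon (g * t * g⁻¹) t ((MulEquiv.orderOf_eq (MulAut.conj g) t).trans ht) ht hne hg.eq.symm
  haveI := H1.pPrimeCore_characteristic 2 X
  have hcore : Cfsg.pPrimeCore 2 X = ⊥ := by
    refine ((inferInstance : (Cfsg.pPrimeCore 2 X).Normal).eq_bot_or_eq_top).resolve_right fun e => ?_
    have hc := H1.card_pPrimeCore_coprime 2 X
    rw [e, Subgroup.card_top] at hc
    exact Nat.prime_two.coprime_iff_not_dvd.1 hc.symm h2
  have hc : t ∈ center X := mem_center_iff.2 fun g => by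
    have := H85.zStar hiso g
    rw [hcore, mem_bot] at this
    exact (mul_inv_eq_iff_eq_mul.1 (mul_inv_eq_one.1 this)).symm
  rcases (inferInstance : (center X).Normal).eq_bot_or_eq_top with e | e
  · rw [e, mem_bot] at hc
    rw [hc, orderOf_one] at ht
    norm_num at ht
  · exact hX ⟨⟨fun a b => mem_center_iff.1 (e ▸ mem_top b) a⟩⟩

variable (h : Spec G)
include h

/-- A solvable normal subgroup below `PSL₂(7)` is trivial. -/
theorem kernel_eq_bot (hns : ¬ Group.IsSolvable G) (R : Subgroup G) [R.Normal] (hR : Group.IsSolvable R)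
    (hq : Nonempty (G ⧸ R ≃* PSLSeven)) : R = ⊥ := by
  classical
  haveI : Fact (Nat.Prime 2) := ⟨Nat.prime_two⟩
  haveI : Fact (Nat.Prime 7) := ⟨by norm_num⟩
  obtain ⟨e⟩ := hq
  by_contra hR1
  obtain ⟨p, hp, hRp⟩ := H30.eppo_radical hns h.eppo R hR
  haveI := Fact.mk hp
  haveI : Nontrivial R := (nontrivial_iff_ne_bot R).2 hR1
  haveI := hRp.center_nontrivial
  haveI : ((center R).map R.subtype).Normal := ConjAct.normal_of_characteristic_of_normal
  set Z := (center R).map R.subtype with hZ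
  have hZb : Z ≠ ⊥ := by
    rw [hZ, Ne, map_eq_bot_iff_of_injective _ R.subtype_injective]
    exact (nontrivial_iff_ne_bot _).1 inferInstance
  haveI : IsMulCommutative Z := inferInstance
  have hZp : IsPGroup p Z := (hRp.to_subgroup _).map _
  have hnormZ : ∀ K : Subgroup G, K ≤ normalizer (Z : Set G) := fun K => by
    rw [normalizer_eq_top]; exact le_top
  let π := QuotientGroup.mk' R
  have hcard : ∀ L : Subgroup (G ⧸ R), Nat.card (L.comap π) = Nat.card R * Nat.card L := fun L =>
    (Nat.card_congr (QuotientGroup.preimageMkEquivSubgroupProdSet R (L : Set (G ⧸ R)))).trans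
      (Nat.card_prod _ _)
  obtain ⟨m, hm⟩ := IsPGroup.iff_card.1 hRp
  by_cases hp2 : p = 2
  · subst hp2
    let P₀ : Sylow 7 (G ⧸ R) := default
    obtain ⟨-, h21⟩ := card_sylow_seven e P₀
    set L := normalizer ((P₀ : Subgroup (G ⧸ R)) : Set (G ⧸ R))
    set K := L.comap π
    have hRK : R ≤ K := fun r hr => by
      show π r ∈ L
      rw [show π r = 1 from (QuotientGroup.eq_one_iff r).2 hr]
      exact one_mem _
    have hKc := hcard L
    rw [h21] at hKc
    have hRc : Nat.card (R.subgroupOf K) = 2 ^ m := by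
      rw [Nat.card_congr (subgroupOfEquivOfLe hRK).toEquiv, hm]
    have hidx : (R.subgroupOf K).index = 21 := by
      have h1 := Subgroup.card_mul_index (R.subgroupOf K)
      rw [hRc, hKc, hm] at h1
      exact Nat.eq_of_mul_eq_mul_left (by positivity) h1
    obtain ⟨A, hA⟩ := exists_right_complement'_of_coprime (N := R.subgroupOf K) (by
      rw [hRc, hidx]
      exact Nat.Coprime.pow_left _ (by norm_num))
    refine no_twentyone h hZb (hnormZ (A.map K.subtype)) hZp ?_
    rw [card_map_of_injective K.subtype_injective, ← hidx, hA.symm.index_eq_card]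
  · obtain ⟨hsimp, hnc⟩ := simple_seven e
    obtain ⟨s, t, hs, ht, hne, hst⟩ := exists_commuting_pair hnc
    set Q := closure ({s, t} : Set (G ⧸ R)) with hQ
    have hQe : Elem Q := elem_closure (by rintro x (rfl | rfl) <;> exact sq_eq_one ‹_›) (by
      rintro x (rfl | rfl) y (rfl | rfl)
      exacts [rfl, hst, hst.symm, rfl])
    have hQ4 : 4 ∣ Nat.card Q := by
      obtain ⟨j, hj⟩ := IsPGroup.iff_card.1 hQe.isPGroup
      letI := Fintype.ofFinite Q
      have h2 : 2 < Fintype.card Q := Fintype.two_lt_card_iff.2 ⟨1, ⟨s, subset_closure (by simp)⟩,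
        ⟨t, subset_closure (by simp)⟩, fun e' => H65.ne_one_of_two hs (congrArg Subtype.val e').symm,
        fun e' => H65.ne_one_of_two ht (congrArg Subtype.val e').symm,
        fun e' => hne (congrArg Subtype.val e')⟩
      rw [← Nat.card_eq_fintype_card, hj] at h2
      rw [hj]
      have hj2 : 2 ≤ j := by
        by_contra hlt
        interval_cases j <;> simp at h2
      exact (show 4 = 2 ^ 2 by norm_num) ▸ pow_dvd_pow 2 hj2
    obtain ⟨V, hV⟩ := Sylow.exists_subgroup_card_pow_prime (G := Q.comap π) 2 (n := 2)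
      ((hcard Q).symm ▸ (by norm_num; exact hQ4.mul_left _))
    set V' := V.map (Q.comap π).subtype with hV'
    have hV'c : Nat.card V' = 4 := by
      rw [hV', card_map_of_injective (Q.comap π).subtype_injective, hV]; norm_num
    have hV'2 : IsPGroup 2 V' := IsPGroup.of_card (n := 2) (by rw [hV'c]; norm_num)
    have hinv : ∀ x ∈ V', x * x = 1 := by
      intro x hx
      obtain ⟨x', -, rfl⟩ := id hx
      have h1 : ((x' : G) * x') ∈ R := by
        refine (QuotientGroup.eq_one_iff _).1 ?_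
        rw [QuotientGroup.mk_mul]
        exact hQe _ x'.2
      obtain ⟨i, hi⟩ := orderOf_eq_two_pow hV'2 (mul_mem hx hx)
      have h2 : orderOf ((x' : G) * x') ∣ Nat.card R := Subgroup.orderOf_dvd_natCard _ h1
      rw [hm] at h2
      refine orderOf_eq_one_iff.1 (Nat.eq_one_of_dvd_coprimes (a := p ^ m) (b := 2 ^ i) ?_ h2 (dvd_of_eq hi))
      exact Nat.Coprime.pow _ _ ((Nat.coprime_primes hp Nat.prime_two).2 hp2)
    have hV'inv : ∀ a ∈ V', a ≠ 1 → ∀ z ∈ Z, a * z * a⁻¹ = z⁻¹ := by
      intro a ha ha1 z hz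
      refine H93.conj_eq_inv_of_fixedPointFree (hinv a ha) (hnormZ V' ha) ?_ hz
      intro k hk hc
      by_contra hk1
      obtain ⟨i, hi⟩ := IsPGroup.iff_orderOf.1 hZp ⟨k, hk⟩
      rw [orderOf_mk] at hi
      obtain ⟨w, hw, hwo⟩ := H64.exists_orderOf_of_dvd k (n := p) (by
        rw [hi]
        refine dvd_pow_self p fun e' => hk1 (orderOf_eq_one_iff.1 ?_)
        rw [hi, e', pow_zero])
      obtain ⟨n, rfl⟩ := hw
      exact h.no_commute hp hp2 Nat.prime_two hp2 hwo (orderOf_two (hinv a ha) ha1)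
        ((show Commute k a from hc.symm).zpow_left n).eq
    obtain ⟨z, hz, hz1⟩ : ∃ z ∈ Z, z ≠ 1 := by
      haveI : Nontrivial Z := (nontrivial_iff_ne_bot Z).2 hZb
      obtain ⟨⟨z, hz⟩, hz1⟩ := exists_ne (1 : Z)
      exact ⟨z, hz, fun e' => hz1 (Subtype.ext e')⟩
    letI := Fintype.ofFinite V'
    have h4 : 2 < Fintype.card V' := by rw [← Nat.card_eq_fintype_card, hV'c]; norm_num
    obtain ⟨a, b, c, hab, hac, hbc⟩ := Fintype.two_lt_card_iff.1 h4
    obtain ⟨a, b, ha1, hb1, hne'⟩ : ∃ a b : V', (a : G) ≠ 1 ∧ (b : G) ≠ 1 ∧ (a : G) ≠ b := by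
      by_cases ha : (a : G) = 1
      · exact ⟨b, c, fun e' => hab (Subtype.ext (ha.trans e'.symm)),
          fun e' => hac (Subtype.ext (ha.trans e'.symm)), fun e' => hbc (Subtype.ext e')⟩
      by_cases hb : (b : G) = 1
      · exact ⟨a, c, ha, fun e' => hbc (Subtype.ext (hb.trans e'.symm)),
          fun e' => hac (Subtype.ext e')⟩
      exact ⟨a, b, ha, hb, fun e' => hab (Subtype.ext e')⟩
    have hab1 : (a : G) * b ≠ 1 := fun e' => hne' (by
      rw [eq_inv_of_mul_eq_one_left e', inv_eq_of_mul_eq_one_right (hinv b b.2)])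
    have h5 := hV'inv _ (mul_mem a.2 b.2) hab1 z hz
    have h6 : (a : G) * b * z * ((a : G) * b)⁻¹ = z := by
      calc (a : G) * b * z * ((a : G) * b)⁻¹ = a * (b * z * (b : G)⁻¹) * (a : G)⁻¹ := by group
        _ = ((a : G) * z * (a : G)⁻¹)⁻¹ := by rw [hV'inv b b.2 hb1 z hz]; group
        _ = z := by rw [hV'inv a a.2 ha1 z hz, inv_inv]
    rw [h6] at h5
    have hz2 : orderOf z = 2 := orderOf_two (mul_eq_one_iff_eq_inv.2 h5) hz1
    obtain ⟨i, hi⟩ := IsPGroup.iff_orderOf.1 hZp ⟨z, hz⟩
    rw [orderOf_mk, hz2] at hi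
    rcases Nat.eq_zero_or_pos i with rfl | hi0
    · norm_num at hi
    · exact hp2 ((Nat.prime_dvd_prime_iff_eq hp Nat.prime_two).1 (hi ▸ dvd_pow_self p hi0.ne'))

omit h in
theorem card_le_two_mul {A D : Subgroup G} {a : G} (ha : a ∈ A)
    (hall : ∀ b ∈ A, b ∉ D → a * b ∈ D) : Nat.card A ≤ 2 * Nat.card (A ⊓ D : Subgroup G) := by
  classical
  rw [two_mul, ← Nat.card_sum]
  refine Nat.card_le_card_of_injective (fun b : A =>
    if hb : (b : G) ∈ D then Sum.inl (⟨b, b.2, hb⟩ : (A ⊓ D : Subgroup G))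
    else Sum.inr ⟨a * b, mul_mem ha b.2, hall b b.2 hb⟩) ?_
  intro x y e
  by_cases hx : (x : G) ∈ D <;> by_cases hy : (y : G) ∈ D <;> simp [hx, hy] at e
  · exact Subtype.ext (congrArg Subtype.val e :)
  · exact Subtype.ext (mul_left_cancel (congrArg Subtype.val e :))

/-- Solvable 2-local subgroups have 2-rank one modulo the core. -/
theorem rank_le (M : Subgroup G) [Group.IsSolvable M] (A : Subgroup G) (hAM : A ≤ M) (hA : Elem A) :
    Nat.card A ≤ 2 * Nat.card (A ⊓ core2 M : Subgroup G) := by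
  classical
  haveI : Fact (Nat.Prime 2) := ⟨Nat.prime_two⟩
  by_contra hgt
  obtain ⟨a, haA, haD⟩ : ∃ a ∈ A, a ∉ core2 M := by
    by_contra hall
    push Not at hall
    rw [inf_eq_left.2 (show A ≤ core2 M from hall)] at hgt
    omega
  obtain ⟨b, hbA, hbD, habD⟩ : ∃ b ∈ A, b ∉ core2 M ∧ a * b ∉ core2 M := by
    by_contra hall
    push Not at hall
    exact hgt (card_le_two_mul haA hall)
  set D := Cfsg.pCore 2 M with hD
  haveI := H1.pCore_characteristic 2 M
  let π := QuotientGroup.mk' D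
  haveI : Nontrivial (M ⧸ D) := ⟨⟨π ⟨a, hAM haA⟩, 1, fun e =>
    haD ((mem_core2_iff (hAM haA)).2 ((QuotientGroup.eq_one_iff _).1 e))⟩⟩
  obtain ⟨q, V, hq, hVn, hVb, hVq⟩ := H1.exists_normal_pgroup_ne_bot (M ⧸ D)
  haveI := hVn
  haveI := Fact.mk hq
  have hq2 : q ≠ 2 := by
    rintro rfl
    refine hVb (le_bot_iff.1 fun v hv => ?_)
    obtain ⟨x, rfl⟩ := QuotientGroup.mk'_surjective D v
    have h1 : IsPGroup 2 (V.comap π) :=
      hVq.comap_of_ker_isPGroup _ (by rw [QuotientGroup.ker_mk']; exact H1.isPGroup_pCore 2 M)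
    exact mem_bot.2 ((QuotientGroup.eq_one_iff x).2 (H1.le_pCore h1 hv))
  -- an involution with a fixed point in `V`
  have key : ∃ c : M, c * c = 1 ∧ c ∉ D ∧ ∃ v ∈ V, v ≠ 1 ∧ π c * v = v * π c := by
    by_contra hcon
    push Not at hcon
    have hinv : ∀ c : M, c * c = 1 → c ∉ D → ∀ v ∈ V, π c * v * (π c)⁻¹ = v⁻¹ := by
      intro c hc hcD v hv
      refine H93.conj_eq_inv_of_fixedPointFree (by rw [← map_mul, hc, map_one])
        (by rw [normalizer_eq_top]; exact mem_top _) (fun k hk hk' => ?_) hv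
      by_contra hk1
      exact hcon c hc hcD k hk hk1 hk'
    haveI : Nontrivial V := (nontrivial_iff_ne_bot V).2 hVb
    obtain ⟨⟨v, hv⟩, hv1⟩ := exists_ne (1 : V)
    have hv1' : v ≠ 1 := fun e => hv1 (Subtype.ext e)
    set a' : M := ⟨a, hAM haA⟩
    set b' : M := ⟨b, hAM hbA⟩
    have ha2 : a' * a' = 1 := Subtype.ext (hA a haA)
    have hb2 : b' * b' = 1 := Subtype.ext (hA b hbA)
    have hab2 : a' * b' * (a' * b') = 1 := Subtype.ext (hA _ (mul_mem haA hbA))
    have haD' : a' ∉ D := fun e => haD ((mem_core2_iff _).2 e)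
    have hbD' : b' ∉ D := fun e => hbD ((mem_core2_iff _).2 e)
    have habD' : a' * b' ∉ D := fun e => habD ((mem_core2_iff (mul_mem (hAM haA) (hAM hbA))).2 e)
    have h1 := hinv _ hab2 habD' v hv
    rw [map_mul] at h1
    have h2 : π a' * π b' * v * (π a' * π b')⁻¹ = v := by
      calc π a' * π b' * v * (π a' * π b')⁻¹ = π a' * (π b' * v * (π b')⁻¹) * (π a')⁻¹ := by group
        _ = (π a' * v * (π a')⁻¹)⁻¹ := by rw [hinv b' hb2 hbD' v hv]; group
        _ = v := by rw [hinv a' ha2 haD' v hv, inv_inv]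
    rw [h2] at h1
    obtain ⟨i, hi⟩ := IsPGroup.iff_orderOf.1 hVq ⟨v, hv⟩
    rw [orderOf_mk, orderOf_two (mul_eq_one_iff_eq_inv.2 h1) hv1'] at hi
    rcases Nat.eq_zero_or_pos i with rfl | hi0
    · norm_num at hi
    · exact hq2 ((Nat.prime_dvd_prime_iff_eq hq Nat.prime_two).1 (hi ▸ dvd_pow_self q hi0.ne'))
  obtain ⟨c, hc, hcD, v, hv, hv1, hcv⟩ := key
  obtain ⟨i, hi⟩ := IsPGroup.iff_orderOf.1 hVq ⟨v, hv⟩
  rw [orderOf_mk] at hi
  obtain ⟨w, ⟨n, rfl⟩, hw⟩ := H64.exists_orderOf_of_dvd v (n := q) (by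
    rw [hi]
    refine dvd_pow_self q fun e => hv1 (orderOf_eq_one_iff.1 ?_)
    rw [hi, e, pow_zero])
  have hπc : orderOf (π c) = 2 := orderOf_two (by rw [← map_mul, hc, map_one])
    (fun e => hcD ((QuotientGroup.eq_one_iff c).1 e))
  have hprod : orderOf (v ^ n * π c) = q * 2 := by
    rw [((show Commute v (π c) from hcv.symm).zpow_left n).orderOf_mul_eq_mul_orderOf_of_coprime
      (by rw [hw, hπc]; exact (Nat.coprime_primes hq Nat.prime_two).2 hq2), hw, hπc]
  obtain ⟨y, hy⟩ := QuotientGroup.mk'_surjective D (v ^ n * π c)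
  refine (h.subgroup M).no_mult hq hq2 one_lt_two (g := y) (hprod.symm.dvd.trans ?_)
  rw [← hy]
  exact orderOf_map_dvd π y

omit h in
theorem pow_two_or_prime_mod {k : ℕ} : (2 ^ (2 * k) - 1) % 3 = 0 ∧ (2 ^ (2 * k + 1) + 1) % 3 = 0 := by
  have h1 : 2 ^ (2 * k) % 3 = 1 := by
    rw [pow_mul, Nat.pow_mod]
    norm_num
  have h2 : 2 ^ (2 * k + 1) % 3 = 2 := by
    rw [pow_succ, Nat.mul_mod, h1]
  have := Nat.one_le_two_pow (n := 2 * k)
  omega

/-- The `PSL₂(q)`, `q` odd, with this spectrum. -/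
theorem psl_odd {F : Type} [Field F] [Fintype F] (hodd : Odd (Fintype.card F))
    (e : G ≃* Matrix.ProjectiveSpecialLinearGroup (Fin 2) F) (hns : ¬ Group.IsSolvable G) :
    Fintype.card F = 7 := by
  classical
  obtain ⟨p, hp⟩ := CharP.exists F
  haveI := hp
  have hpp : p.Prime := CharP.char_is_prime F p
  haveI := Fact.mk hpp
  obtain ⟨f, -, hF⟩ := FiniteField.card F p
  set q := Fintype.card F with hq
  have hspec : ∀ m, (m ∣ p ∨ m ∣ (q - 1) / 2 ∨ m ∣ (q + 1) / 2) → ∃ g : G, orderOf g = m := by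
    intro m hm
    have h2 : Nat.gcd 2 (q - 1) = 2 := by
      obtain ⟨j, hj⟩ := hodd
      rw [hj]
      exact Nat.gcd_eq_left ⟨j, by omega⟩
    have h3 : m ∈ Set.range (orderOf : Matrix.ProjectiveSpecialLinearGroup (Fin 2) F → ℕ) := by
      rw [H64.psl2_spectrum p, Set.mem_ofPred_eq, ← hq, h2]
      exact hm
    obtain ⟨x, hx⟩ := h3
    exact ⟨e.symm x, by rw [MulEquiv.orderOf_eq, hx]⟩
  have hcase : ∀ m, 1 < m → (m ∣ p ∨ m ∣ (q - 1) / 2 ∨ m ∣ (q + 1) / 2) →
      (∃ k, m = 2 ^ k) ∨ (m.Prime ∧ m ≠ 5) := by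
    intro m hm1 hm
    obtain ⟨g, rfl⟩ := hspec m hm
    exact h g fun e' => by rw [e', orderOf_one] at hm1; omega
  have hp2 : p ≠ 2 := by
    rintro rfl
    rw [hF] at hodd
    exact absurd hodd (Nat.not_odd_iff_even.2 (Nat.even_pow.2 ⟨even_two, f.pos.ne'⟩))
  have hp5 : p ≠ 5 := fun e5 => by
    rcases hcase p hpp.one_lt (Or.inl dvd_rfl) with ⟨k, hk⟩ | ⟨-, h5⟩
    · exact hp2 ((Nat.prime_dvd_prime_iff_eq hpp Nat.prime_two).1 (hpp.dvd_of_dvd_pow hk.dvd))
    · exact h5 e5
  have hq3 : 3 < q := by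
    by_contra hle
    have h1 : q ≠ 1 := (Fintype.one_lt_card (α := F)).ne'
    obtain ⟨j, hj⟩ := hodd
    have h3 : q = 3 := by omega
    have hc := H37.card_PSL_two (F := F)
    rw [Nat.card_eq_fintype_card (α := F), ← hq, h3, ← Nat.card_congr e.toEquiv] at hc
    norm_num at hc
    refine hns (H33.isSolvable_of_two_primes (p := 2) (q := 3) Nat.prime_two Nat.prime_three ?_)
    intro r hr hrd
    have h12 : Nat.card G = 12 := by omega
    rw [h12] at hrd
    have : r ≤ 12 := Nat.le_of_dvd (by norm_num) hrd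
    interval_cases r <;> first | omega | norm_num at hr
  obtain ⟨j, hj⟩ := hodd
  have hA : (q - 1) / 2 = j := by omega
  have hB : (q + 1) / 2 = j + 1 := by omega
  have hj2 : 2 ≤ j := by omega
  -- the even one is a power of two
  have heven : ∀ m, 1 < m → Even m → (m ∣ (q - 1) / 2 ∨ m ∣ (q + 1) / 2) → ∃ k, m = 2 ^ k := by
    intro m hm hme hd
    rcases hcase m hm (Or.inr hd) with hk | ⟨hm', -⟩
    · exact hk
    · exact ⟨1, by rw [pow_one]; exact hm'.even_iff.1 hme⟩
  have hoddpart : ∀ m, 1 < m → Odd m → (m ∣ (q - 1) / 2 ∨ m ∣ (q + 1) / 2) → m.Prime ∧ m ≠ 5 := by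
    intro m hm hmo hd
    rcases hcase m hm (Or.inr hd) with ⟨k, hk⟩ | h'
    · exfalso
      rcases Nat.eq_zero_or_pos k with rfl | hk0
      · norm_num at hk; omega
      · exact absurd (hk ▸ hmo) (Nat.not_odd_iff_even.2 (Nat.even_pow.2 ⟨even_two, hk0.ne'⟩))
    · exact h'
  have hq3' : 3 ∣ q → q = 9 := fun h3 => by
    have hp3 : p = 3 := ((Nat.prime_dvd_prime_iff_eq Nat.prime_three hpp).1
      (Nat.prime_three.dvd_of_dvd_pow (hF ▸ h3))).symm
    subst hp3
    rcases Nat.even_or_odd j with he | ho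
    · obtain ⟨k, hk⟩ := heven j (by omega) he (Or.inl (by rw [hA]))
      rcases H33.HalfTrans.pow_sub_one_two_pow (q := 3) (d := f) (k := k + 1) (by norm_num) le_rfl
        Nat.prime_three (by rw [← hF, hj, hk, pow_succ]; ring) with h1 | h1
      · exfalso
        rw [hF, h1, pow_one] at hq3
        omega
      · rw [hF, h1]
    · obtain ⟨k, hk⟩ := heven (j + 1) (by omega) ho.add_one (Or.inr (by rw [hB]))
      rcases H33.HalfTrans.pow_add_one_two_pow (q := 3) (d := f) (k := k + 1) (by norm_num) le_rfl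
        (by rw [← hF, hj, pow_succ, ← hk]; ring) with h1 | h1
      · exfalso
        rw [hF, h1, pow_one] at hq3
        omega
      · exact absurd h1 f.pos.ne'
  rcases Nat.even_or_odd j with he | ho
  · exfalso
    obtain ⟨k, hk⟩ := heven j (by omega) he (Or.inl (by rw [hA]))
    obtain ⟨hpr, h5⟩ := hoddpart (j + 1) (by omega) he.add_one (Or.inr (by rw [hB]))
    rcases Nat.even_or_odd' k with ⟨i, rfl | rfl⟩
    · -- `3 ∣ q`
      have h3 : 3 ∣ q := by
        have h6 := (pow_two_or_prime_mod (k := i)).2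
        rw [hj, hk]
        rw [pow_succ] at h6
        omega
      have := hq3' h3
      omega
    · have h6 := (pow_two_or_prime_mod (k := i)).2
      have h3 : j + 1 = 3 :=
        ((Nat.prime_dvd_prime_iff_eq Nat.prime_three hpr).1 (by rw [hk]; omega)).symm
      have hq5 : q = 5 := by omega
      rw [hF] at hq5
      exact hp5 ((Nat.prime_dvd_prime_iff_eq hpp (by norm_num)).1 (hq5 ▸ dvd_pow_self p f.pos.ne'))
  · obtain ⟨k, hk⟩ := heven (j + 1) (by omega) ho.add_one (Or.inr (by rw [hB]))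
    obtain ⟨hpr, h5⟩ := hoddpart j (by omega) ho (Or.inl (by rw [hA]))
    have hk1 : 1 ≤ 2 ^ k := Nat.one_le_two_pow
    rcases Nat.even_or_odd' k with ⟨i, rfl | rfl⟩
    · have h6 := (pow_two_or_prime_mod (k := i)).1
      have h3 : j = 3 := ((Nat.prime_dvd_prime_iff_eq Nat.prime_three hpr).1 (by omega)).symm
      omega
    · -- `3 ∣ q`
      have h3 : 3 ∣ q := by
        have h7 := (pow_two_or_prime_mod (k := i + 1)).1
        rw [show 2 * (i + 1) = 2 * i + 1 + 1 by ring, pow_succ] at h7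
        omega
      have := hq3' h3
      omega

omit h in
theorem no_field_two {n : ℕ} (hn : 2 ≤ n) (h : Spec G)
    (e : G ≃* Matrix.ProjectiveSpecialLinearGroup (Fin 2) (GaloisField 2 n)) : False := by
  classical
  haveI : Fact (Nat.Prime 2) := ⟨Nat.prime_two⟩
  letI : Fintype (GaloisField 2 n) := Fintype.ofFinite _
  have hq : Fintype.card (GaloisField 2 n) = 2 ^ n := by
    rw [← Nat.card_eq_fintype_card, GaloisField.card 2 n (by omega)]
  have hg1 : Nat.gcd 2 (2 ^ n - 1) = 1 := by
    refine (Nat.prime_two.coprime_iff_not_dvd).2 ?_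
    have := Nat.one_le_two_pow (n := n)
    have h2 : 2 ∣ 2 ^ n := dvd_pow_self 2 (by omega)
    omega
  have hspec : ∀ m, 1 < m → (m ∣ 2 ^ n - 1 ∨ m ∣ 2 ^ n + 1) → (∃ k, m = 2 ^ k) ∨ (m.Prime ∧ m ≠ 5) := by
    intro m hm1 hm
    have h3 : m ∈ Set.range (orderOf :
        Matrix.ProjectiveSpecialLinearGroup (Fin 2) (GaloisField 2 n) → ℕ) := by
      rw [H64.psl2_spectrum 2, Set.mem_ofPred_eq, hq, hg1, Nat.div_one, Nat.div_one]
      exact Or.inr hm
    obtain ⟨x, hx⟩ := h3
    have := h (e.symm x) fun e' => by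
      rw [← MulEquiv.orderOf_eq e.symm, e', orderOf_one] at hx; omega
    rwa [MulEquiv.orderOf_eq, hx] at this
  have h4 : 4 ≤ 2 ^ n := (show 4 = 2 ^ 2 by norm_num).le.trans (Nat.pow_le_pow_right (by norm_num) hn)
  have h2n : 2 ∣ 2 ^ n := dvd_pow_self 2 (by omega)
  have hoddc : ∀ m, m ∣ 2 ^ n - 1 ∨ m ∣ 2 ^ n + 1 → 3 ≤ m → ¬ 2 ∣ m → m.Prime ∧ m ≠ 5 := by
    intro m hm h3 h2
    rcases hspec m (by omega) hm with ⟨k, hk⟩ | h'
    · rcases Nat.eq_zero_or_pos k with rfl | hk0
      · norm_num at hk; omega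
      · exact absurd (hk ▸ dvd_pow_self 2 hk0.ne') h2
    · exact h'
  rcases Nat.even_or_odd' n with ⟨i, rfl | rfl⟩
  · obtain ⟨hp, -⟩ := hoddc _ (Or.inl dvd_rfl) (by omega) (by omega)
    have h6 := (pow_two_or_prime_mod (k := i)).1
    have h7 : 2 ^ (2 * i) - 1 = 3 :=
      ((Nat.prime_dvd_prime_iff_eq Nat.prime_three hp).1 (by omega)).symm
    obtain ⟨-, h5⟩ := hoddc _ (Or.inr dvd_rfl) (by omega) (by omega)
    omega
  · obtain ⟨hp, -⟩ := hoddc _ (Or.inr dvd_rfl) (by omega) (by omega)
    have h6 := (pow_two_or_prime_mod (k := i)).2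
    have h7 : 2 ^ (2 * i + 1) + 1 = 3 :=
      ((Nat.prime_dvd_prime_iff_eq Nat.prime_three hp).1 (by omega)).symm
    omega

theorem no_suzuki (hS : Cfsg.Lie.IsoSuzuki G) : False := by
  obtain ⟨F, _, _, m, hm, hF, ⟨e⟩⟩ := hS
  refine h.not_five ?_
  rw [Nat.card_congr (e.trans (H57.lieSzEquiv hm hF).symm).toEquiv, H57.card_sz hm hF]
  refine dvd_mul_of_dvd_left (dvd_mul_of_dvd_right ?_ _) _
  rw [← pow_mul, mul_comm, pow_mul]
  have h4 : (2 ^ 2) ^ (2 * m + 1) % 5 = 4 := by
    rw [pow_succ, pow_mul, Nat.mul_mod, Nat.pow_mod]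
    norm_num
  omega

/-- A self-centralising four-group forces `PSL₂(7)`. -/
theorem exc_case [IsSimpleGroup G] (hns : ¬ Group.IsSolvable G) (hexc : Exc G) :
    Nonempty (G ≃* PSLSeven) := by
  classical
  haveI : Fact (Nat.Prime 2) := ⟨Nat.prime_two⟩
  obtain ⟨V, R, hVe, hV4, hCV, hVR, hRV, hR2, hR8⟩ := hexc
  obtain ⟨S, hS⟩ := hR2.exists_le_sylow
  have hS8 : 8 ≤ Nat.card (S : Subgroup G) := hR8 ▸ Subgroup.card_le_of_le hS
  haveI : Nontrivial (S : Subgroup G) := Finite.one_lt_card_iff_nontrivial.1 (by omega)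
  haveI := S.isPGroup'.center_nontrivial
  obtain ⟨z₀, hz₀, hz₀2⟩ := exists_invol (P := (center (S : Subgroup G)).map (S : Subgroup G).subtype)
    ((S.isPGroup'.to_subgroup _).map _) (by
      rw [Ne, map_eq_bot_iff_of_injective _ (S : Subgroup G).subtype_injective]
      exact (nontrivial_iff_ne_bot _).1 inferInstance)
  obtain ⟨z, hz, rfl⟩ := hz₀
  replace hz₀2 : orderOf (z : G) = 2 := hz₀2
  have hzS : ∀ s ∈ (S : Subgroup G), s * (z : G) = z * s := fun s hs =>
    congrArg Subtype.val (mem_center_iff.1 hz ⟨s, hs⟩)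
  have hzV : (z : G) ∈ V := by
    rw [← hCV]
    exact mem_centralizer_iff.2 fun v hv => hzS v (hS (hVR hv))
  letI := Fintype.ofFinite V
  obtain ⟨a, haV, ha1, haz⟩ : ∃ a ∈ V, a ≠ 1 ∧ a ≠ (z : G) := by
    by_contra hall
    push Not at hall
    have h4 : 2 < Fintype.card V := by rw [← Nat.card_eq_fintype_card, hV4]; norm_num
    obtain ⟨p, q, r, hpq, hpr, hqr⟩ := Fintype.two_lt_card_iff.1 h4
    have key : ∀ x : V, (x : G) = 1 ∨ (x : G) = z := fun x => or_iff_not_imp_left.2 (hall x x.2)
    rcases key p with h1 | h1 <;> rcases key q with h2 | h2 <;> rcases key r with h3 | h3 <;>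
      first
        | exact hpq (Subtype.ext (h1.trans h2.symm))
        | exact hpr (Subtype.ext (h1.trans h3.symm))
        | exact hqr (Subtype.ext (h2.trans h3.symm))
  set a' : (S : Subgroup G) := ⟨a, hS (hVR haV)⟩ with ha'
  have ha'2 : orderOf a' = 2 := by rw [ha', orderOf_mk]; exact orderOf_two (hVe a haV) ha1
  have hC4 : Nat.card (centralizer ({a'} : Set (S : Subgroup G))) = 4 := by
    rw [← hV4]
    refine le_antisymm ?_ (Nat.card_le_card_of_injective
      (fun v : V => (⟨⟨v, hS (hVR v.2)⟩, mem_cent.2 (Subtype.ext (hVe.comm v.2 haV))⟩ :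
        centralizer ({a'} : Set (S : Subgroup G))))
      fun u v e => Subtype.ext (congrArg (fun x : centralizer ({a'} : Set (S : Subgroup G)) =>
        ((x : (S : Subgroup G)) : G)) e))
    refine Nat.card_le_card_of_injective (fun x => (⟨((x : (S : Subgroup G)) : G), ?_⟩ : V)) ?_
    · rw [← hCV]
      refine mem_centralizer_iff.2 fun v hv => ?_
      have hxa : ((x : (S : Subgroup G)) : G) * a = a * (x : (S : Subgroup G)) :=
        congrArg Subtype.val (mem_cent.1 x.2)
      have hxz := hzS _ (x : (S : Subgroup G)).2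
      have hW : closure ({a, (z : G)} : Set G) = V := by
        refine eq_of_le_of_card_ge ((closure_le _).2 (by rintro y (rfl | rfl) <;> assumption)) ?_
        set W := closure ({a, (z : G)} : Set G)
        letI := Fintype.ofFinite W
        have haW : a ∈ W := subset_closure (by simp)
        have hzW : (z : G) ∈ W := subset_closure (by simp)
        have h4 : 2 < Fintype.card W := Fintype.two_lt_card_iff.2 ⟨1, ⟨a, haW⟩, ⟨z, hzW⟩,
          fun e => ha1 (congrArg Subtype.val e).symm,
          fun e => H65.ne_one_of_two hz₀2 (congrArg Subtype.val e).symm,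
          fun e => haz (congrArg Subtype.val e)⟩
        rw [← Nat.card_eq_fintype_card] at h4
        obtain ⟨k, hk⟩ := IsPGroup.iff_card.1 (hVe.isPGroup.to_le ((closure_le _).2 (by
          rintro y (rfl | rfl) <;> assumption) : W ≤ V))
        rw [hk] at h4
        rw [hV4, hk]
        have hk2 : 2 ≤ k := by
          by_contra hlt
          interval_cases k <;> simp at h4
        exact (show 4 = 2 ^ 2 by norm_num).le.trans (Nat.pow_le_pow_right (by norm_num) hk2)
      rw [← hW] at hv
      induction hv using closure_induction with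
      | mem y hy =>
        rcases hy with rfl | rfl
        exacts [hxa.symm, hxz.symm]
      | one => rw [one_mul, mul_one]
      | mul y y' _ _ hy hy' => exact ((show Commute y _ from hy).mul_left hy').eq
      | inv y _ hy => exact (show Commute y _ from hy).inv_left.eq
    · intro x y e
      exact Subtype.ext (Subtype.ext (congrArg Subtype.val e :))
  have hCz : centralizer ({(z : G)} : Set G) = (S : Subgroup G) :=
    S.is_maximal' (h.isCIT _ hz₀2) fun s hs => mem_cent.2 (hzS s hs)
  rcases Cfsg.Agent.S3224.result S.isPGroup' a' ha'2 hC4 with ⟨n, ⟨e⟩⟩ | hQD | hfour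
  · have hn : 2 ≤ n := by
      by_contra hlt
      have hc := Nat.card_congr e.toEquiv
      rcases Nat.eq_zero_or_pos n with rfl | hn0
      · haveI : Finite (DihedralGroup 0) := Finite.of_equiv _ e.toEquiv
        exact not_finite (DihedralGroup 0)
      · haveI : NeZero n := ⟨hn0.ne'⟩
        rw [DihedralGroup.nat_card] at hc
        omega
    have hO : (Cfsg.oddCore (centralizer ({(z : G)} : Set G))).map
        (centralizer ({(z : G)} : Set G)).subtype = ⊥ := by
      rw [map_eq_bot_iff_of_injective _ (Subgroup.subtype_injective _)]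
      refine Subgroup.card_eq_one.1 ?_
      obtain ⟨j, hj⟩ := IsPGroup.iff_card.1
        ((h.isCIT _ hz₀2).to_subgroup (Cfsg.oddCore (centralizer ({(z : G)} : Set G))))
      rw [hj]
      rcases Nat.eq_zero_or_pos j with rfl | hj0
      · rfl
      · exfalso
        exact Nat.prime_two.coprime_iff_not_dvd.1
          (H1.card_pPrimeCore_coprime 2 (centralizer ({(z : G)} : Set G))).symm
          (hj ▸ dvd_pow_self 2 hj0.ne')
    obtain ⟨F, _, _, hodd, ⟨φ⟩⟩ := H65.dihedral_final S n hn e (z : G) hz₀2 z.2 hzS ⊥ hO.symm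
      (by rw [Subgroup.card_bot]; exact odd_one) (fun hne => absurd rfl hne)
      (fun s _ hs y hy => by rw [mem_bot.1 hy, mul_one, mul_inv_cancel, inv_one])
      (fun Y hY hY1 => absurd (le_bot_iff.1 hY) hY1)
    have h7 := psl_odd h hodd φ hns
    haveI : Fact (Nat.Prime 7) := ⟨by norm_num⟩
    exact ⟨φ.trans (H37.pslCongr (FiniteField.ringEquivOfCardEq (by rw [h7, ZMod.card])))⟩
  · exfalso
    obtain ⟨n, hn, hcard, x, y, hx, hy, hyx⟩ := hQD
    set N := 2 ^ (n - 1) with hN
    have hxN : ∀ i : ℕ, y * x ^ i * y⁻¹ = x ^ ((N - 1) * i) := fun i => by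
      rw [← conj_pow, hyx, ← pow_mul]
    have hN1 : 1 ≤ N := Nat.one_le_two_pow
    have h2N : 2 * N = 2 ^ n := by rw [hN, ← pow_succ']; congr 1; omega
    have hNev : 2 ∣ N := dvd_pow_self 2 (by omega)
    have hyy : y * y = 1 := sq_eq_one hy
    -- the cyclic subgroup of index two
    have hidx : (zpowers x).index = 2 := by
      have h1 := Subgroup.card_mul_index (zpowers x)
      rw [Nat.card_zpowers, hx, hcard, pow_succ] at h1
      exact Nat.eq_of_mul_eq_mul_left (by positivity) h1
    have hyX : y ∉ zpowers x := by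
      intro hmem
      obtain ⟨i, hi⟩ := hmem
      have h1 : y * x * y⁻¹ = x := mul_inv_eq_iff_eq_mul.2
        (hi ▸ ((Commute.refl x).zpow_left i).eq)
      rw [hyx] at h1
      have h2 : x ^ (N - 1 - 1) = 1 := by
        rw [← mul_right_inj (x), ← pow_succ', mul_one, show N - 1 - 1 + 1 = N - 1 by omega]
        exact h1
      have h3 := orderOf_dvd_of_pow_eq_one h2
      rw [hx] at h3
      have h4 : N - 1 - 1 = 0 := Nat.eq_zero_of_dvd_of_lt h3 (by omega)
      have : 4 ≤ N := by
        rw [hN, show 4 = 2 ^ 2 by norm_num]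
        exact Nat.pow_le_pow_right (by norm_num) (by omega)
      omega
    have hform : ∀ s : (S : Subgroup G), ∃ i : ℕ, s = x ^ i ∨ s = x ^ i * y := by
      intro s
      have hmem : ∀ v ∈ zpowers x, ∃ i : ℕ, v = x ^ i := fun v hv => by
        rw [← mem_powers_iff_mem_zpowers, Submonoid.mem_powers_iff] at hv
        exact hv.imp fun i hi => hi.symm
      by_cases hs : s ∈ zpowers x
      · obtain ⟨i, hi⟩ := hmem s hs
        exact ⟨i, Or.inl hi⟩
      · obtain ⟨i, hi⟩ := hmem (s * y) ((mul_mem_iff_of_index_two hidx).2 (iff_of_false hs hyX))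
        exact ⟨i, Or.inr (by rw [← hi, mul_assoc, hyy, mul_one])⟩
    have hsq : ∀ i : ℕ, (x ^ i * y) * (x ^ i * y) = x ^ (N * i) := fun i => by
      calc (x ^ i * y) * (x ^ i * y) = x ^ i * (y * x ^ i * y⁻¹) * (y * y) := by group
        _ = x ^ i * x ^ ((N - 1) * i) := by rw [hxN, hyy, mul_one]
        _ = x ^ (N * i) := by
          rw [← pow_add]
          congr 1
          calc i + (N - 1) * i = (N - 1 + 1) * i := by ring
            _ = N * i := by rw [Nat.sub_add_cancel hN1]
    -- the dihedral maximal subgroup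
    let M₀ : Subgroup (S : Subgroup G) :=
      { carrier := {s | ∃ i : ℕ, 2 ∣ i ∧ (s = x ^ i ∨ s = x ^ i * y)}
        one_mem' := ⟨0, dvd_zero 2, Or.inl (pow_zero x).symm⟩
        mul_mem' := by
          rintro s t ⟨i, hi, rfl | rfl⟩ ⟨j, hj, rfl | rfl⟩
          · exact ⟨i + j, dvd_add hi hj, Or.inl (pow_add x i j).symm⟩
          · exact ⟨i + j, dvd_add hi hj, Or.inr (by rw [pow_add, mul_assoc])⟩
          · refine ⟨i + (N - 1) * j, dvd_add hi (hj.mul_left _), Or.inr ?_⟩
            rw [pow_add, ← hxN]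
            group
          · refine ⟨i + (N - 1) * j, dvd_add hi (hj.mul_left _), Or.inl ?_⟩
            rw [pow_add, ← hxN]
            calc x ^ i * y * (x ^ j * y) = x ^ i * (y * x ^ j * y⁻¹) * (y * y) := by group
              _ = _ := by rw [hyy, mul_one]
        inv_mem' := by
          rintro s ⟨i, hi, rfl | rfl⟩
          · refine ⟨(2 ^ n - 1) * i, hi.mul_left _, Or.inl ?_⟩
            refine inv_eq_of_mul_eq_one_right ?_
            rw [← pow_add, show i + (2 ^ n - 1) * i = (2 ^ n - 1 + 1) * i by ring,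
              Nat.sub_add_cancel Nat.one_le_two_pow, pow_mul, ← hx, pow_orderOf_eq_one, one_pow]
          · refine ⟨(2 ^ n - 1) * ((N - 1) * i), (hi.mul_left _).mul_left _, Or.inr ?_⟩
            refine inv_eq_of_mul_eq_one_right ?_
            have h1 : x ^ ((2 ^ n - 1) * ((N - 1) * i)) * x ^ ((N - 1) * i) = 1 := by
              rw [← pow_add, show (2 ^ n - 1) * ((N - 1) * i) + (N - 1) * i =
                (2 ^ n - 1 + 1) * ((N - 1) * i) by ring, Nat.sub_add_cancel Nat.one_le_two_pow,
                pow_mul, ← hx, pow_orderOf_eq_one, one_pow]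
            set c := x ^ ((2 ^ n - 1) * ((N - 1) * i))
            have h2 : c = y * (x ^ i)⁻¹ * y⁻¹ := by
              rw [eq_inv_of_mul_eq_one_left h1, ← hxN]
              group
            rw [h2]
            calc x ^ i * y * (y * (x ^ i)⁻¹ * y⁻¹ * y) = x ^ i * (y * y) * (x ^ i)⁻¹ := by group
              _ = 1 := by rw [hyy]; group }
    have hyM : y ∈ M₀ := ⟨0, dvd_zero 2, Or.inr (by rw [pow_zero, one_mul])⟩
    have hxyM : ∀ i : ℕ, x ^ i * y ∈ M₀ → 2 ∣ i := by
      rintro i ⟨j, hj, e' | e'⟩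
      · exfalso
        refine hyX ?_
        rw [show y = (x ^ i)⁻¹ * x ^ j by rw [← e']; group]
        exact mul_mem (inv_mem (pow_mem (mem_zpowers x) _)) (pow_mem (mem_zpowers x) _)
      · have h1 : i ≡ j [MOD 2 ^ n] := by rw [← hx]; exact pow_eq_pow_iff_modEq.1 (mul_right_cancel e')
        have h2 : i ≡ j [MOD 2] := h1.of_dvd (dvd_pow_self 2 (by omega))
        exact Nat.modEq_zero_iff_dvd.1 (h2.trans (Nat.modEq_zero_iff_dvd.2 hj))
    have hinvol : ∀ s : (S : Subgroup G), s * s = 1 → s ∈ M₀ := by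
      intro s hs
      obtain ⟨i, rfl | rfl⟩ := hform s
      · refine ⟨i, ?_, Or.inl rfl⟩
        rw [← pow_add] at hs
        have h1 := orderOf_dvd_of_pow_eq_one hs
        rw [hx, ← h2N] at h1
        exact hNev.trans ((Nat.mul_dvd_mul_iff_left two_pos).1 (two_mul i ▸ h1))
      · refine ⟨i, ?_, Or.inr rfl⟩
        rw [hsq] at hs
        have h1 := orderOf_dvd_of_pow_eq_one hs
        rw [hx, ← h2N, mul_comm N i] at h1
        exact (Nat.mul_dvd_mul_iff_right (by omega)).1 h1
    have hxN2 : orderOf (x ^ N) = 2 := by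
      rw [orderOf_pow, hx, Nat.gcd_eq_right ⟨2, by omega⟩, ← h2N,
        Nat.mul_div_cancel _ (by omega : 0 < N)]
    -- an involution which is a square is `x ^ N`
    have hsqinv : ∀ s : (S : Subgroup G), s * s ≠ 1 → (s * s) * (s * s) = 1 → s * s = x ^ N := by
      intro s h1 h2
      obtain ⟨i, hi⟩ : ∃ i, s * s = x ^ i := by
        obtain ⟨i, rfl | rfl⟩ := hform s
        · exact ⟨i + i, (pow_add x i i).symm⟩
        · exact ⟨N * i, hsq i⟩
      rw [hi] at h1 h2 ⊢
      rw [← pow_add] at h2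
      have h3 := orderOf_dvd_of_pow_eq_one h2
      rw [hx, ← h2N] at h3
      obtain ⟨c, rfl⟩ := (Nat.mul_dvd_mul_iff_left two_pos).1 (two_mul i ▸ h3)
      rw [pow_mul] at h1 ⊢
      rcases Nat.even_or_odd' c with ⟨d, rfl | rfl⟩
      · exfalso
        apply h1
        rw [← pow_mul, ← mul_assoc, mul_comm N 2, h2N, pow_mul, ← hx, pow_orderOf_eq_one, one_pow]
      · rw [pow_succ, pow_mul, sq, sq_eq_one hxN2, one_pow, one_mul]
    have hM₀i : M₀.index = 2 := by
      refine index_eq_two_iff.2 ⟨x, fun s => ?_⟩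
      obtain ⟨i, hi⟩ := hform s
      have hxs : s * x ∈ M₀ ↔ ¬ (s ∈ M₀) := by
        rcases hi with rfl | rfl
        · have hcase : ∀ i : ℕ, x ^ i ∈ M₀ ↔ 2 ∣ i := fun i => ⟨by
            rintro ⟨j, hj, e' | e'⟩
            · have h1 : i ≡ j [MOD 2 ^ n] := by rw [← hx]; exact pow_eq_pow_iff_modEq.1 e'
              have h2 : i ≡ j [MOD 2] := h1.of_dvd (dvd_pow_self 2 (by omega))
              exact Nat.modEq_zero_iff_dvd.1 (h2.trans (Nat.modEq_zero_iff_dvd.2 hj))
            · exfalso
              refine hyX ?_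
              rw [show y = (x ^ j)⁻¹ * x ^ i by rw [e']; group]
              exact mul_mem (inv_mem (pow_mem (mem_zpowers x) _)) (pow_mem (mem_zpowers x) _),
            fun hi => ⟨i, hi, Or.inl rfl⟩⟩
          rw [← pow_succ, hcase, hcase]
          omega
        · have h2 : x ^ i * y * x = x ^ (i + (N - 1)) * y := by
            rw [pow_add, ← hyx]
            group
          have hcase : ∀ i : ℕ, x ^ i * y ∈ M₀ ↔ 2 ∣ i := fun i =>
            ⟨hxyM i, fun hi => ⟨i, hi, Or.inr rfl⟩⟩
          rw [h2, hcase, hcase]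
          omega
      by_cases hs : s ∈ M₀
      · exact Or.inr ⟨hs, fun h' => hxs.1 h' hs⟩
      · exact Or.inl ⟨hxs.2 hs, hs⟩
    haveI : M₀.Normal := normal_of_index_eq_two hM₀i
    -- transfer of `x * y`
    set u := x * y with hu
    have huu : u * u = x ^ N := by simpa [hu] using hsq 1
    have hzN : (z : G) = ((x ^ N : (S : Subgroup G)) : G) := by
      have h1 : x ^ N ∈ center (S : Subgroup G) := by
        refine mem_center_iff.2 fun s => ?_
        have hy' : y * x ^ N = x ^ N * y := by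
          refine mul_inv_eq_iff_eq_mul.1 ?_
          rw [hxN]
          obtain ⟨c, hc⟩ := hNev
          rw [show (N - 1) * N = 2 * N * (c - 1) + N by
            rw [hc]
            rcases c with _ | c
            · omega
            · simp [Nat.sub_mul]; ring_nf; omega]
          rw [pow_add, pow_mul, h2N, ← hx, pow_orderOf_eq_one, one_pow, one_mul]
        obtain ⟨i, rfl | rfl⟩ := hform s
        · exact (pow_mul_comm x i N)
        · rw [mul_assoc, hy', ← mul_assoc, ← mul_assoc, pow_mul_comm]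
      have h2 : ((x ^ N : (S : Subgroup G)) : G) ∈ V := by
        rw [← hCV]
        exact mem_centralizer_iff.2 fun v hv =>
          congrArg Subtype.val (mem_center_iff.1 h1 ⟨v, hS (hVR hv)⟩)
      by_contra hne
      -- two central involutions would make `a` central
      have hzz : z * z = 1 := Subtype.ext (sq_eq_one hz₀2)
      obtain ⟨i, hi | hi⟩ := hform z
      · have h3 : x ^ i * x ^ i = 1 := by rw [← hi]; exact hzz
        rw [← pow_add] at h3
        have h4 := orderOf_dvd_of_pow_eq_one h3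
        rw [hx, ← h2N] at h4
        obtain ⟨c, rfl⟩ := (Nat.mul_dvd_mul_iff_left two_pos).1 (two_mul i ▸ h4)
        rcases Nat.even_or_odd' c with ⟨d, rfl | rfl⟩
        · refine H65.ne_one_of_two hz₀2 ?_
          rw [hi, ← mul_assoc, mul_comm N 2, h2N, pow_mul, ← hx, pow_orderOf_eq_one, one_pow]
          rfl
        · refine hne ?_
          rw [hi, mul_add, mul_one, ← mul_assoc, mul_comm N 2, h2N, pow_add, pow_mul, ← hx,
            pow_orderOf_eq_one, one_pow, one_mul]
      · -- `z` outside the cyclic subgroup would centralise `x`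
        have h3 : y * x * y⁻¹ = x := by
          have h4 := mem_center_iff.1 hz x
          rw [hi] at h4
          refine mul_inv_eq_iff_eq_mul.2 (mul_left_cancel (a := x ^ i) ?_)
          rw [← mul_assoc, ← mul_assoc, ← pow_succ, pow_succ']
          rw [← h4]
          group
        rw [hyx] at h3
        have h5 : x ^ (N - 1 - 1) = 1 := by
          rw [← mul_right_inj x, ← pow_succ', mul_one, show N - 1 - 1 + 1 = N - 1 by omega]
          exact h3
        have h6 := orderOf_dvd_of_pow_eq_one h5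
        rw [hx] at h6
        have h7 : N - 1 - 1 = 0 := Nat.eq_zero_of_dvd_of_lt h6 (by omega)
        have : 4 ≤ N := by
          rw [hN, show 4 = 2 ^ 2 by norm_num]
          exact Nat.pow_le_pow_right (by norm_num) (by omega)
        omega
    have hxn : x ^ N ≠ 1 := H65.ne_one_of_two hxN2
    obtain ⟨K, hK, hKi, -⟩ := H67.exists_index_two_of_fusion S
      (M₀.map (S : Subgroup G).subtype) (map_subtype_le _)
      (by rw [relIndex, subgroupOf, comap_map_eq_self_of_injective (Subgroup.subtype_injective _), hM₀i])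
      (u : G) u.2
      (by
        intro g hg hgM
        obtain ⟨m, hm, hme⟩ := hgM
        have hme' : (m : G) = g * u * g⁻¹ := hme
        have h1 : ((m * m : (S : Subgroup G)) : G) = g * (z : G) * g⁻¹ := by
          rw [hzN, ← huu, Subgroup.coe_mul, Subgroup.coe_mul, hme']
          group
        have h2 : m * m = x ^ N := by
          refine hsqinv m (fun e' => ?_) ?_
          · rw [e', Subgroup.coe_one] at h1
            exact H65.ne_one_of_two hz₀2 (conj_eq_one_iff.1 h1.symm)
          · refine Subtype.ext ?_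
            rw [Subgroup.coe_mul, h1, show g * (z : G) * g⁻¹ * (g * (z : G) * g⁻¹) =
              g * ((z : G) * z) * g⁻¹ by group, sq_eq_one hz₀2, Subgroup.coe_one]
            group
        have hgS : g ∈ (S : Subgroup G) := by
          rw [← hCz]
          refine mem_cent.2 (mul_inv_eq_iff_eq_mul.1 ?_)
          rw [← h1, h2, hzN]
        have h3 : (⟨g, hgS⟩ : (S : Subgroup G)) * u * ⟨g, hgS⟩⁻¹ ∈ M₀ := by
          rw [show (⟨g, hgS⟩ : (S : Subgroup G)) * u * ⟨g, hgS⟩⁻¹ = m from Subtype.ext hme'.symm]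
          exact hm
        have h4 : u ∈ M₀ := by
          have h5 := (inferInstance : M₀.Normal).conj_mem _ h3 ⟨g, hgS⟩⁻¹
          rwa [show (⟨g, hgS⟩ : (S : Subgroup G))⁻¹ * (⟨g, hgS⟩ * u * ⟨g, hgS⟩⁻¹) * ⟨g, hgS⟩⁻¹⁻¹ = u
            by group] at h5
        have := hxyM 1 (by rw [pow_one]; exact h4)
        omega)
      (by
        intro g k hk
        refine ⟨⟨_, hk⟩, hinvol _ (Subtype.ext ?_), rfl⟩
        show g * (u : G) ^ (2 * k) * g⁻¹ * (g * (u : G) ^ (2 * k) * g⁻¹) = 1
        have h1 : (u : G) ^ (2 * k) * (u : G) ^ (2 * k) = 1 := by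
          have h2 : u ^ (2 * k) * u ^ (2 * k) = 1 := by
            rw [pow_mul, sq, huu, ← (Commute.refl _).mul_pow, sq_eq_one hxN2, one_pow]
          exact_mod_cast congrArg Subtype.val h2
        calc g * (u : G) ^ (2 * k) * g⁻¹ * (g * (u : G) ^ (2 * k) * g⁻¹)
            = g * ((u : G) ^ (2 * k) * (u : G) ^ (2 * k)) * g⁻¹ := by group
          _ = 1 := by rw [h1]; group)
    rcases hK.eq_bot_or_eq_top with rfl | rfl
    · rw [index_bot] at hKi
      exact absurd (hKi ▸ Subgroup.card_le_card_group (S : Subgroup G)) (by omega)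
    · rw [index_top] at hKi
      omega
  · omega

omit h in
/-- The classification. -/
theorem iso_seven_aux : ∀ (n : ℕ) (G : Type u) [Group G] [Finite G], Nat.card G = n → Spec G →
    ¬ Group.IsSolvable G → Nonempty (G ≃* PSLSeven) := by
  intro n
  induction n using Nat.strong_induction_on with
  | _ n ih =>
  intro G _ _ hn h hns
  subst hn
  classical
  haveI : Nontrivial G := by
    by_contra h'
    rw [not_nontrivial_iff_subsingleton] at h'
    exact hns inferInstance
  have hsub : ∀ H : Subgroup G, H ≠ ⊤ → ¬ Group.IsSolvable H → Nonempty (H ≃* PSLSeven) :=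
    fun H hH hs => ih _ (lt_of_le_of_ne (Subgroup.card_le_card_group H)
      fun e => hH (eq_top_of_card_eq H e)) H rfl (h.subgroup H) hs
  have hrad : ∀ R : Subgroup G, R.Normal → Group.IsSolvable R → R = ⊥ := by
    intro R hR hRs
    by_contra hR1
    haveI := hR
    have hq : ¬ Group.IsSolvable (G ⧸ R) := fun hqs =>
      hns (Group.isSolvable_of_ker_le_range R.subtype (QuotientGroup.mk' R) (by simp))
    have hlt : Nat.card (G ⧸ R) < Nat.card G := by
      rw [Subgroup.card_eq_card_quotient_mul_card_subgroup R]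
      haveI : Nontrivial R := (nontrivial_iff_ne_bot R).2 hR1
      exact lt_mul_of_one_lt_right Nat.card_pos Finite.one_lt_card
    exact hR1 (kernel_eq_bot h hns R hRs (ih _ hlt (G ⧸ R) rfl
      (h.of_surjective (QuotientGroup.mk' R) (QuotientGroup.mk'_surjective R)) hq))
  haveI hsimp : IsSimpleGroup G := by
    refine ⟨fun N hN => or_iff_not_imp_left.2 fun hN1 => ?_⟩
    by_contra hN2
    haveI := hN
    obtain ⟨e⟩ := hsub N hN2 fun hs => hN1 (hrad N hN hs)
    exact hN2 (normal_seven_eq_top h N e)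
  have h2 : NoNormalTwo G := fun K hK hK2 =>
    haveI : Fact (Nat.Prime 2) := ⟨Nat.prime_two⟩
    hrad K hK (isSolvable_pgroup hK2)
  have heven : ∀ K : Subgroup G, K.Normal → K ≠ ⊥ → ∃ t ∈ K, orderOf t = 2 := fun K hK hK1 =>
    H65.exists_two_mem (Nat.not_odd_iff_even.1 fun ho => hK1 (hrad K hK (H16.FT.oddOrder ho)))
  have hidx : ∀ K : Subgroup G, K.Normal → K.index ≠ 2 := by
    intro K hK hi
    haveI := hK
    rcases hK.eq_bot_or_eq_top with rfl | rfl
    · rw [index_bot] at hi
      haveI : Fact (Nat.Prime 2) := ⟨Nat.prime_two⟩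
      haveI : IsCyclic G := isCyclic_of_prime_card hi
      exact hns (Group.isSolvable_of_comm fun a b => (IsCyclic.isMulCommutative (α := G)).is_comm.comm a b)
    · rw [index_top] at hi
      omega
  have hloc : ∀ M : Subgroup G, IsTwoLocal M → JClosed M ∨ Progress M ∨ Exc G := by
    intro M hM
    haveI : Group.IsSolvable M := by
      obtain ⟨P, hP1, hP2, hMP⟩ := id hM
      by_contra hs
      have hMtop : M ≠ ⊤ := fun e => by
        haveI : P.Normal := normalizer_eq_top_iff.1 (hMP ▸ e)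
        exact hP1 (h2 P inferInstance hP2)
      obtain ⟨e⟩ := hsub M hMtop hs
      haveI := (simple_seven e).1
      have hPM : P ≤ M := hMP ▸ le_normalizer
      haveI : (P.subgroupOf M).Normal := normal_subgroupOf_of_le_normalizer (hMP ▸ le_rfl)
      rcases (inferInstance : (P.subgroupOf M).Normal).eq_bot_or_eq_top with h' | h'
      · rw [subgroupOf_eq_bot, disjoint_iff, inf_eq_left.2 hPM] at h'
        exact hP1 h'
      · haveI : Fact (Nat.Prime 2) := ⟨Nat.prime_two⟩
        exact hs (isSolvable_pgroup (hP2.to_le (subgroupOf_eq_top.1 h')))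
    exact local_cases h.isCIT hidx hM fun A hA hAe => rank_le h M A hA hAe
  rcases cit_main h.isCIT h2 heven hloc with hexc | ⟨k, hk, ⟨e⟩⟩ | hsz
  · exact exc_case h hns hexc
  · exact (no_field_two hk h e).elim
  · exact (no_suzuki h hsz).elim

end H11.CIT
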