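import Cfsg.Agent.H11.CIT.Rank
import Cfsg.Agent.H16.OddOrder
import Cfsg.Agent.H30.EPPO

/-!
The socle of a group with 2-group involution centralisers in which every non-trivial normal subgroup
contains an involution but is no 2-group: it is simple with trivial centraliser.
-/

set_option autoImplicit false
set_option linter.style.haveILetI false
set_option linter.unusedSectionVars false

namespace H11.CIT

open Subgroup

universe u

variable {X : Type u} [Group X] [Finite X]

theorem exists_odd_mem_ne {K : Subgroup X} (hK : ¬ IsPGroup 2 K) :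
    ∃ w ∈ K, Odd (orderOf w) ∧ w ≠ 1 := by
  haveI : Fact (Nat.Prime 2) := ⟨Nat.prime_two⟩
  by_contra hcon
  push Not at hcon
  refine hK fun x => ?_
  obtain ⟨k, m, hm, e⟩ := Nat.exists_eq_two_pow_mul_odd (orderOf_pos x).ne'
  refine ⟨k, ?_⟩
  have h1 : orderOf (x ^ 2 ^ k) = m := by
    rw [orderOf_pow' _ (by positivity), e, Nat.gcd_mul_right_left, Nat.mul_div_cancel_left _ (by positivity)]
  exact Subtype.ext (hcon _ (x ^ 2 ^ k).2 (by rw [orderOf_coe, h1]; exact hm))

theorem exists_simple_socle (hX : IsCIT X) (h2 : NoNormalTwo X)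
    (heven : ∀ K : Subgroup X, K.Normal → K ≠ ⊥ → ∃ t ∈ K, orderOf t = 2) [Nontrivial X] :
    ∃ N : Subgroup X, N.Normal ∧ IsSimpleGroup N ∧ ¬ IsMulCommutative N ∧
      centralizer (N : Set X) = ⊥ := by
  classical
  haveI : Fact (Nat.Prime 2) := ⟨Nat.prime_two⟩
  obtain ⟨N, ⟨hN1, hNn⟩, hmin⟩ := Set.exists_min_image {K : Subgroup X | K ≠ ⊥ ∧ K.Normal}
    (fun K => Nat.card K) (Set.toFinite _) ⟨⊤, top_ne_bot, inferInstance⟩
  haveI := hNn
  have hmin' : ∀ K : Subgroup X, K.Normal → K ≤ N → K ≠ ⊥ → K = N := fun K hK hKN hK1 =>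
    eq_of_le_of_card_ge hKN (hmin K ⟨hK1, hK⟩)
  have hN2 : ¬ IsPGroup 2 N := fun h => hN1 (h2 N hNn h)
  obtain ⟨w, hwN, hwo, hw1⟩ := exists_odd_mem_ne hN2
  -- no prime-power normal subgroup of `N`
  have hpnorm : ∀ (q : ℕ) (L : Subgroup N), q.Prime → L.Normal → IsPGroup q L → L = ⊥ := by
    intro q L hq hL hLq
    haveI := Fact.mk hq
    haveI := H1.pCore_characteristic q N
    haveI hn : ((Cfsg.pCore q N).map N.subtype).Normal := ConjAct.normal_of_characteristic_of_normal
    rw [eq_bot_iff]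
    haveI := hL
    refine (H1.le_pCore hLq).trans ?_
    by_contra hne
    rw [le_bot_iff] at hne
    have hb : (Cfsg.pCore q N).map N.subtype ≠ ⊥ := by
      rw [Ne, map_eq_bot_iff_of_injective _ N.subtype_injective]; exact hne
    have hq2 : q ≠ 2 := by
      rintro rfl
      exact hb (h2 _ hn ((H1.isPGroup_pCore 2 N).map _))
    obtain ⟨t, htP, ht⟩ := heven _ hn hb
    obtain ⟨j, hj⟩ := IsPGroup.iff_orderOf.1 ((H1.isPGroup_pCore q N).map N.subtype) ⟨t, htP⟩
    rw [orderOf_mk, ht] at hj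
    rcases Nat.eq_zero_or_pos j with rfl | hj0
    · norm_num at hj
    · exact hq2 ((Nat.prime_dvd_prime_iff_eq hq Nat.prime_two).1 (hj ▸ dvd_pow_self q hj0.ne'))
  have hnc : ¬ IsMulCommutative N := by
    intro hc
    obtain ⟨q, hq, hqd⟩ := Nat.exists_prime_and_dvd (n := orderOf w)
      (fun e => hw1 (orderOf_eq_one_iff.1 e))
    haveI := Fact.mk hq
    have hwN' : orderOf (⟨w ^ (orderOf w / q), pow_mem hwN _⟩ : N) = q := by
      rw [orderOf_mk, orderOf_pow_orderOf_div (orderOf_pos w).ne' hqd]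
    set Z := zpowers (⟨w ^ (orderOf w / q), pow_mem hwN _⟩ : N)
    have hZn : Z.Normal := ⟨fun n hn g => by rwa [mul_comm' g n, mul_inv_cancel_right]⟩
    have := hpnorm q Z hq hZn (IsPGroup.of_card (n := 1) (by rw [Nat.card_zpowers, hwN', pow_one]))
    rw [zpowers_eq_bot, ← orderOf_eq_one_iff, hwN'] at this
    exact hq.ne_one this
  haveI : Nontrivial N := (nontrivial_iff_ne_bot N).2 hN1
  have hsimp : IsSimpleGroup N := by
    by_contra hns
    obtain ⟨L₀, hL₀n, hL₀1, hL₀t⟩ : ∃ L : Subgroup N, L.Normal ∧ L ≠ ⊥ ∧ L ≠ ⊤ := by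
      by_contra hall
      push Not at hall
      exact hns ⟨fun H hH => or_iff_not_imp_left.2 (hall H hH)⟩
    obtain ⟨L, ⟨hLn, hL1⟩, hLmin⟩ := Set.exists_min_image {L : Subgroup N | L.Normal ∧ L ≠ ⊥}
      (fun L => Nat.card L) (Set.toFinite _) ⟨L₀, hL₀n, hL₀1⟩
    have hLt : L ≠ ⊤ := fun e => hL₀t (eq_top_of_card_eq _ (le_antisymm
      (Subgroup.card_le_card_group L₀) (by simpa [e] using hLmin L₀ ⟨hL₀n, hL₀1⟩)))
    -- an involution and an odd element of `L`
    have hL2 : ¬ IsPGroup 2 L := fun h => hL1 (hpnorm 2 L Nat.prime_two hLn h)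
    obtain ⟨v, hvL, hvo, hv1⟩ := exists_odd_mem_ne hL2
    have hLodd : ¬ Odd (Nat.card L) := fun ho => by
      haveI := H16.FT.oddOrder (G := L) ho
      haveI : Nontrivial L := (nontrivial_iff_ne_bot L).2 hL1
      obtain ⟨q, V, hq, hVn, hVb, hVq⟩ := H1.exists_normal_pgroup_ne_bot L
      haveI := hVn
      haveI := Fact.mk hq
      haveI := H1.pCore_characteristic q L
      haveI := hLn
      have h3 := hpnorm q ((Cfsg.pCore q L).map L.subtype) hq ConjAct.normal_of_characteristic_of_normal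
        ((H1.isPGroup_pCore q L).map _)
      rw [map_eq_bot_iff_of_injective _ L.subtype_injective] at h3
      exact hVb (le_bot_iff.1 (h3 ▸ H1.le_pCore hVq))
    obtain ⟨s, hsL, hs⟩ := H65.exists_two_mem (Nat.not_odd_iff_even.1 hLodd)
    -- conjugates of `L` coincide
    have hLnorm : (L.map N.subtype).Normal := by
      refine ⟨fun x hx g => ?_⟩
      obtain ⟨l, hl, rfl⟩ := hx
      set φ : MulAut N := MulAut.conjNormal g with hφ
      set L' := L.map φ.toMonoidHom with hL'
      haveI hL'n : L'.Normal := hLn.map _ φ.surjective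
      haveI := hLn
      by_cases he : L' = L
      · refine ⟨φ l, he ▸ ⟨l, hl, rfl⟩, ?_⟩
        rw [hφ]; exact MulAut.conjNormal_apply g l
      · exfalso
        have hinf : L ⊓ L' = ⊥ := by
          by_contra hne
          have h3 := hLmin (L ⊓ L') ⟨inferInstance, hne⟩
          have h4 : L ⊓ L' = L := eq_of_le_of_card_ge inf_le_left h3
          refine he (eq_of_le_of_card_ge (inf_eq_left.1 h4) ?_).symm
          rw [hL']
          exact (card_map_of_injective (f := φ.toMonoidHom) φ.injective).le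
        have hcomm := Subgroup.commute_of_normal_of_disjoint L L' hLn hL'n (disjoint_iff.2 hinf) v (φ s)
          hvL ⟨s, hsL, rfl⟩
        have h5 := hX.fpf (w := (v : X)) (x := ((φ s : N) : X)) (k := 1) (by rwa [orderOf_coe])
          (fun e => hv1 (Subtype.ext e)) (by rw [orderOf_coe, MulEquiv.orderOf_eq, hs, pow_one])
          (congrArg Subtype.val hcomm.eq)
        have h6 : φ s = 1 := Subtype.ext h5
        rw [← MulEquiv.orderOf_eq φ, h6, orderOf_one] at hs
        norm_num at hs
    have h7 := hmin' _ hLnorm (map_subtype_le L) (by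
      rw [Ne, map_eq_bot_iff_of_injective _ N.subtype_injective]; exact hL1)
    refine hLt (eq_top_of_card_eq _ ?_)
    rw [← card_map_of_injective (K := L) (f := N.subtype) N.subtype_injective, h7]
  refine ⟨N, hNn, hsimp, hnc, ?_⟩
  by_contra hC
  obtain ⟨t, htC, ht⟩ := heven _ inferInstance hC
  have := hX.fpf (w := w) (x := t) (k := 1) hwo hw1 (by rw [ht, pow_one])
    (mem_centralizer_iff.1 htC w hwN)
  rw [this, orderOf_one] at ht
  norm_num at ht

end H11.CIT
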