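import Cfsg.Agent.H11.CIT.Config
import Cfsg.Agent.H6.Transfer
import Cfsg.Agent.H70.TwoInvol

/-!
The offender's normaliser is a second configuration, so `q = 4`; the Sylow 2-subgroup is `R` of order 64
and there is one class of involutions.
-/

set_option autoImplicit false
set_option linter.style.haveILetI false
set_option linter.unusedSectionVars false

open scoped MatrixGroups
open Matrix

namespace H11.CIT

open Subgroup

universe u

variable {G : Type u} [Group G] [Finite G]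

/-- Stability under conjugation gives the normaliser. -/
theorem mem_normalizer_of_conj {H : Subgroup G} {g : G} (h : ∀ x ∈ H, g * x * g⁻¹ ∈ H) :
    g ∈ normalizer (H : Set G) := by
  rw [mem_normalizer_iff_map_conj_eq]
  refine eq_of_le_of_card_ge ?_ (le_of_eq ?_)
  · rintro _ ⟨x, hx, rfl⟩
    exact h x hx
  · exact (card_map_of_injective (f := (MulAut.conj g).toMonoidHom) (MulAut.conj g).injective).symm

theorem IsSyl.mem_of_two {R M : Subgroup G} (hR : IsSyl R M) {y : G} (hy : y ∈ M)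
    (hn : y ∈ normalizer (R : Set G)) {k : ℕ} (hk : orderOf y = 2 ^ k) : y ∈ R := by
  haveI : Fact (Nat.Prime 2) := ⟨Nat.prime_two⟩
  have h2 : IsPGroup 2 (R ⊔ zpowers y : Subgroup G) :=
    IsPGroup.to_sup_of_normal_left' hR.2.1
      (IsPGroup.of_card (n := k) (by rw [Nat.card_zpowers, hk])) (zpowers_le.2 hn)
  have := hR.2.2 _ (sup_le hR.1 (zpowers_le.2 hy)) h2 le_sup_left
  exact this ▸ le_sup_right (a := R) (mem_zpowers y)

namespace Cfg

variable {M R A : Subgroup G} {F : Type} [Field F] [Fintype F] {n : ℕ}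
  {Ψ : (Fin 2 → F) → G} {lft : SL(2, F) → G} (c : Cfg M R A n Ψ lft)
include c

theorem D_le_R : core2 M ≤ R := c.syl.core2_le

theorem A_le_R : A ≤ R := c.maxE.1

theorem R_eq : R = core2 M ⊔ A := by
  refine le_antisymm (fun r hr => ?_) (sup_le c.D_le_R c.A_le_R)
  obtain ⟨d, hd, a, ha, rfl⟩ := c.decomp r hr
  exact mul_mem (mem_sup_left hd) (mem_sup_right ha)

theorem D_ne_A : core2 M ≠ A := by
  intro e
  have h1 := c.cardU
  rw [← e, inf_idem, c.cardD] at h1
  have := c.coord.four_le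
  nlinarith

theorem not_A_le_D : ¬ A ≤ core2 M := fun h =>
  c.D_ne_A (eq_of_le_of_card_ge h (by rw [c.cardA, c.cardD])).symm

/-- An elementary subgroup of `R` lies in `D` or in `A`. -/
theorem elem_le {E : Subgroup G} (hER : E ≤ R) (hE : Elem E) : E ≤ core2 M ∨ E ≤ A := by
  by_contra hcon
  push Not at hcon
  obtain ⟨⟨x, hx, hxD⟩, y, hy, hyA⟩ :=
    hcon.imp SetLike.not_le_iff_exists.1 SetLike.not_le_iff_exists.1
  have hxA := (c.invol x (hER hx) (hE x hx)).resolve_left hxD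
  have hyD := (c.invol y (hER hy) (hE y hy)).resolve_right hyA
  rcases c.invol _ (hER (mul_mem hx hy)) (hE _ (mul_mem hx hy)) with h | h
  · exact hxD ((mul_mem_cancel_right hyD).1 h)
  · exact hyA ((mul_mem_cancel_left hxA).1 h)

/-- Conjugates of `D` and `A` inside `R` are `D` or `A`. -/
theorem conj_cases {E : Subgroup G} (hER : E ≤ R) (hE : Elem E)
    (hc : Nat.card E = 2 ^ n * 2 ^ n) : E = core2 M ∨ E = A :=
  (c.elem_le hER hE).imp (fun h => eq_of_le_of_card_ge h (by rw [c.cardD, hc]))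
    (fun h => eq_of_le_of_card_ge h (by rw [c.cardA, hc]))

/-- An element normalising `R` either lies in `M` or maps `A` to `D` and `D` to `A`. -/
theorem norm_cases {y : G} (hy : y ∈ normalizer (R : Set G)) :
    y ∈ M ∧ A.map (MulAut.conj y).toMonoidHom = A ∨
      (core2 M).map (MulAut.conj y).toMonoidHom = A ∧
        A.map (MulAut.conj y).toMonoidHom = core2 M := by
  have hRy : R.map (MulAut.conj y).toMonoidHom = R := mem_normalizer_iff_map_conj_eq.1 hy
  have hcard : ∀ K : Subgroup G, Nat.card (K.map (MulAut.conj y).toMonoidHom) = Nat.card K := fun K =>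
    card_map_of_injective (MulAut.conj y).injective
  have h1 := c.conj_cases ((map_mono c.D_le_R).trans hRy.le) (c.elemD.map (MulAut.conj y).toMonoidHom)
    (by rw [hcard, c.cardD])
  have h2 := c.conj_cases ((map_mono c.A_le_R).trans hRy.le) (c.maxE.2.1.map (MulAut.conj y).toMonoidHom)
    (by rw [hcard, c.cardA])
  have hne : (core2 M).map (MulAut.conj y).toMonoidHom ≠ A.map (MulAut.conj y).toMonoidHom := fun e =>
    c.D_ne_A (map_injective (MulAut.conj y).injective e)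
  rcases h1 with h1 | h1 <;> rcases h2 with h2 | h2
  · exact absurd (h1.trans h2.symm) hne
  · exact Or.inl ⟨by rw [c.eqN]; exact mem_normalizer_iff_map_conj_eq.2 h1, h2⟩
  · exact Or.inr ⟨h1, h2⟩
  · exact absurd (h1.trans h2.symm) hne

theorem norm_A_mem {y : G} (hy : y ∈ normalizer (R : Set G)) (hyA : y ∈ normalizer (A : Set G)) :
    y ∈ M := by
  rcases c.norm_cases hy with h | h
  · exact h.1
  · exact absurd ((mem_normalizer_iff_map_conj_eq.1 hyA).symm.trans h.2).symm c.D_ne_A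

theorem conj_omega {a : G} (ha : a ∈ A) {d : G} (hd : d ∈ core2 M) :
    d * a * d⁻¹ * a⁻¹ ∈ (A ⊓ core2 M : Subgroup G) := by
  obtain ⟨v, rfl⟩ := c.surj d hd
  obtain ⟨x, hx⟩ := c.coord.upA a ha
  haveI := c.coord.charTwo
  have e : Ψ v * a * (Ψ v)⁻¹ * a⁻¹ = Ψ ![x * v 1, 0] := by
    rw [show Ψ v * a * (Ψ v)⁻¹ * a⁻¹ = Ψ v * (a * (Ψ v)⁻¹ * a⁻¹) by group, c.coord.inv_eq, hx,
      ← c.coord.map_add, up_vec]
    congr 1
    funext i
    fin_cases i <;> simp [← add_assoc, CharTwo.add_self_eq_zero]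
  rw [e]
  exact ⟨c.mem_inf _, c.coord.mem_core _⟩

theorem R_le_normA : R ≤ normalizer (A : Set G) := by
  rw [c.R_eq]
  refine sup_le (fun d hd => mem_normalizer_of_conj fun a ha => ?_) le_normalizer
  rw [show d * a * d⁻¹ = d * a * d⁻¹ * a⁻¹ * a by group]
  exact mul_mem (c.conj_omega ha hd).1 ha

theorem syl_normA : IsSyl R (normalizer (A : Set G)) := by
  refine ⟨c.R_le_normA, c.syl.2.1, fun Q hQ hQ2 hle => ?_⟩
  by_contra hne
  obtain ⟨y, hyQ, hyR, hyn⟩ := exists_mem_normalizer hQ2 hle (Ne.symm hne)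
  obtain ⟨k, hk⟩ := orderOf_eq_two_pow hQ2 hyQ
  exact hyR (c.syl.mem_of_two (c.norm_A_mem hyn (hQ hyQ)) hyn hk)

theorem cardU_ne_bot : (A ⊓ core2 M : Subgroup G) ≠ ⊥ := fun e => by
  have h1 := c.cardU
  rw [e, Subgroup.card_bot] at h1
  have := c.coord.four_le
  omega

/-- `R` centralises `A ⊓ D`. -/
theorem R_le_cent {z : G} (hz : z ∈ (A ⊓ core2 M : Subgroup G)) :
    R ≤ centralizer ({z} : Set G) := by
  rw [c.R_eq]
  exact sup_le (fun d hd => mem_cent.2 (c.elemD.comm hd hz.2))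
    fun a ha => mem_cent.2 (c.maxE.2.1.comm ha hz.1)

theorem torus_conj_A (t : Fˣ) {a : G} (ha : a ∈ A) {x : F}
    (hx : c.coord.Acts a (H37.upper2 x)) :
    c.coord.Acts (lft (H78.Nat2.hh t) * a * (lft (H78.Nat2.hh t))⁻¹) (H37.upper2 ((t : F) ^ 2 * x)) := by
  have h1 := c.coord.acts_mul (c.coord.acts_mul (c.coord.acts_lft (H78.Nat2.hh t)) hx)
    (c.coord.acts_inv (c.coord.acts_lft (H78.Nat2.hh t)))
  have e : H78.Nat2.hh t * H37.upper2 x * (H78.Nat2.hh t)⁻¹ = H37.upper2 ((t : F) ^ 2 * x) := by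
    rw [mul_inv_eq_iff_eq_mul, H78.Nat2.hh_up]
    congr 2
    field_simp
  rwa [e] at h1

theorem torus_normR (t : Fˣ) : lft (H78.Nat2.hh t) ∈ normalizer (R : Set G) := by
  refine mem_normalizer_of_conj fun r hr => ?_
  obtain ⟨d, hd, a, ha, rfl⟩ := c.decomp r hr
  set τ := lft (H78.Nat2.hh t)
  have hτ : τ ∈ M := c.coord.lft_mem _
  rw [show τ * (d * a) * τ⁻¹ = (τ * d * τ⁻¹) * (τ * a * τ⁻¹) by group]
  refine mul_mem (c.D_le_R ((mem_normalizer_iff.1 (le_normalizer_core2 M hτ) d).1 hd)) ?_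
  obtain ⟨x, hx⟩ := c.coord.upA a ha
  obtain ⟨a', ha', hx'⟩ := c.coord.upSurj ((t : F) ^ 2 * x)
  have haM : a ∈ M := c.syl.1 (c.A_le_R ha)
  have ha'M : a' ∈ M := c.syl.1 (c.A_le_R ha')
  have h1 := c.coord.acts_mul (c.torus_conj_A t ha hx) (c.coord.acts_inv hx')
  rw [mul_inv_cancel] at h1
  have h2 := c.coord.mem_core_of_acts_one
    (mul_mem (mul_mem (mul_mem hτ haM) (inv_mem hτ)) (inv_mem ha'M)) h1
  rw [show τ * a * τ⁻¹ = (τ * a * τ⁻¹ * a'⁻¹) * a' by group]
  exact mul_mem (c.D_le_R h2) (c.A_le_R ha')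

theorem torus_U (t : Fˣ) (s : F) :
    lft (H78.Nat2.hh t) * Ψ ![s, 0] * (lft (H78.Nat2.hh t))⁻¹ = Ψ ![(t : F) * s, 0] := by
  rw [c.coord.act, hh_vec]
  congr 1
  funext i
  fin_cases i <;> simp

theorem torus_normA (t : Fˣ) : lft (H78.Nat2.hh t) ∈ normalizer (A : Set G) := by
  rcases c.norm_cases (c.torus_normR t) with h | h
  · exact mem_normalizer_iff_map_conj_eq.2 h.2
  · exact absurd ((mem_normalizer_iff_map_conj_eq.1
      (le_normalizer_core2 M (c.coord.lft_mem _))).symm.trans h.1) c.D_ne_A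

variable (hG : IsCIT G)
include hG

/-- `N(A)` is not inside `M`. -/
theorem normA_not_le [IsSimpleGroup G] (hnc : ¬ IsMulCommutative G) :
    ¬ normalizer (A : Set G) ≤ M := by
  intro hle
  haveI : Fact (Nat.Prime 2) := ⟨Nat.prime_two⟩
  have hq := c.coord.four_le
  -- nothing exchanges `D` and `A`
  have hNR : normalizer (R : Set G) ≤ M := by
    intro y hy
    rcases c.norm_cases hy with h | ⟨hD, hA⟩
    · exact h.1
    · exfalso
      have hcard : Nat.card M ≤ Nat.card (normalizer (A : Set G)) := by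
        refine Nat.card_le_card_of_injective (fun m : M => (⟨y * m * y⁻¹, ?_⟩ : normalizer (A : Set G))) ?_
        · refine mem_normalizer_of_conj fun a ha => ?_
          rw [← hD] at ha ⊢
          obtain ⟨d, hd, rfl⟩ := ha
          refine ⟨(m : G) * d * (m : G)⁻¹, (mem_normalizer_iff.1 (le_normalizer_core2 M m.2) d).1 hd, ?_⟩
          simp [mul_assoc]
        · intro a b e
          exact Subtype.ext (mul_left_cancel (mul_right_cancel (congrArg Subtype.val e)))
      have hAM : normalizer (A : Set G) = M := eq_of_le_of_card_ge hle hcard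
      exact c.not_A_le_D (le_core2 (c.A_le_R.trans c.syl.1) hAM.ge c.maxE.2.1.isPGroup)
  have hfull : ∀ Q : Subgroup G, IsPGroup 2 Q → R ≤ Q → Q = R := by
    intro Q hQ hRQ
    by_contra hne
    obtain ⟨y, hyQ, hyR, hyn⟩ := exists_mem_normalizer hQ hRQ (Ne.symm hne)
    obtain ⟨k, hk⟩ := orderOf_eq_two_pow hQ hyQ
    exact hyR (c.syl.mem_of_two (hNR hyn) hyn hk)
  obtain ⟨a, haA, haD⟩ := SetLike.not_le_iff_exists.1 c.not_A_le_D
  have ha : orderOf a = 2 := orderOf_two (c.maxE.2.1 a haA) (fun e => haD (e ▸ one_mem _))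
  have hCa : ∀ b ∈ A, b ∉ core2 M → centralizer ({b} : Set G) = A := by
    intro b hb hbD
    have hb2 : orderOf b = 2 := orderOf_two (c.maxE.2.1 b hb) (fun e => hbD (e ▸ one_mem _))
    have hle' : A ≤ centralizer ({b} : Set G) := fun x hx => mem_cent.2 (c.maxE.2.1.comm hx hb)
    by_contra hne
    obtain ⟨y, hy, hyA, hyn⟩ := exists_mem_normalizer (hG b hb2) hle' (Ne.symm hne)
    obtain ⟨k, hk⟩ := orderOf_eq_two_pow (hG b hb2) hy
    have hyM : y ∈ M := hle hyn
    have hynR : y ∈ normalizer (R : Set G) := by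
      refine mem_normalizer_of_conj fun r hr => ?_
      obtain ⟨d, hd, a', ha', rfl⟩ := c.decomp r hr
      rw [show y * (d * a') * y⁻¹ = (y * d * y⁻¹) * (y * a' * y⁻¹) by group]
      exact mul_mem (c.D_le_R ((mem_normalizer_iff.1 (le_normalizer_core2 M hyM) d).1 hd))
        (c.A_le_R ((mem_normalizer_iff.1 hyn a').1 ha'))
    exact hyA (c.centA b hb hbD y (c.syl.mem_of_two hyM hynR hk) (mem_cent.1 hy))
  have hCz : ∀ z ∈ (A ⊓ core2 M : Subgroup G), z ≠ 1 → centralizer ({z} : Set G) = R := fun z hz hz1 =>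
    hfull _ (hG z (orderOf_two (c.maxE.2.1 z hz.1) hz1)) (c.R_le_cent hz)
  obtain ⟨⟨z, hz⟩, hz1⟩ := Subgroup.ne_bot_iff_exists_ne_one.1 c.cardU_ne_bot
  have hz1' : z ≠ 1 := fun e => hz1 (Subtype.ext e)
  have hconj : ∀ z' : G, IsConj z z' → z' ∈ core2 M := by
    intro z' hzz
    have hz' : orderOf z' = 2 := H65.two_of_isConj (orderOf_two (c.maxE.2.1 z hz.1) hz1') hzz
    obtain ⟨g, hg⟩ := isConj_iff.1 hzz
    have hCz' : 2 ^ n * 2 ^ n < Nat.card (centralizer ({z'} : Set G)) := by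
      refine lt_of_lt_of_le ?_ (Nat.card_le_card_of_injective (fun r : R =>
        (⟨g * r * g⁻¹, mem_cent.2 ?_⟩ : centralizer ({z'} : Set G))) fun a b e =>
          Subtype.ext (mul_left_cancel (mul_right_cancel (congrArg Subtype.val e))))
      · rw [c.cardR]
        exact lt_mul_of_one_lt_right (by positivity) (by omega)
      · have := mem_cent.1 (c.R_le_cent hz r.2)
        rw [← hg, show g * (r : G) * g⁻¹ * (g * z * g⁻¹) = g * ((r : G) * z) * g⁻¹ by group, this]
        group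
    have hnot : z' ∈ A → z' ∈ core2 M := fun hA => by
      by_contra hD
      rw [hCa z' hA hD, c.cardA] at hCz'
      exact lt_irrefl _ hCz'
    have hnc' : ¬ IsConj a z' := by
      intro hcon
      obtain ⟨g', hg'⟩ := isConj_iff.1 hcon
      apply absurd hCz'
      rw [not_lt, ← c.cardA, ← hCa a haA haD]
      refine Nat.card_le_card_of_injective (fun x : centralizer ({z'} : Set G) =>
        (⟨g'⁻¹ * x * g', mem_cent.2 ?_⟩ : centralizer ({a} : Set G))) fun x y e =>
          Subtype.ext (mul_left_cancel (mul_right_cancel (congrArg Subtype.val e)))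
      have : (x : G) * (g' * a * g'⁻¹) = g' * a * g'⁻¹ * x := by rw [hg']; exact mem_cent.1 x.2
      calc g'⁻¹ * (x : G) * g' * a = g'⁻¹ * ((x : G) * (g' * a * g'⁻¹)) * g' := by group
        _ = g'⁻¹ * (g' * a * g'⁻¹ * (x : G)) * g' := by rw [this]
        _ = a * (g'⁻¹ * (x : G) * g') := by group
    obtain ⟨j, -, hj, hja, hjz⟩ := H70.exists_commute_of_not_isConj ha hz' hnc'
    have hjA : j ∈ A := hCa a haA haD ▸ mem_cent.2 hja.eq
    by_cases hjD : j ∈ core2 M
    · have hzR : z' ∈ R := hCz j ⟨hjA, hjD⟩ (H65.ne_one_of_two hj) ▸ mem_cent.2 hjz.eq.symm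
      exact (c.invol z' hzR (sq_eq_one hz')).elim id hnot
    · exact hnot (hCa j hjA hjD ▸ mem_cent.2 hjz.eq.symm)
  have htop : normalClosure ({z} : Set G) = ⊤ := by
    refine (normalClosure_normal (s := ({z} : Set G))).eq_bot_or_eq_top.resolve_left fun e => hz1' ?_
    have : z ∈ normalClosure ({z} : Set G) := subset_normalClosure rfl
    rwa [e, mem_bot] at this
  have hle' : normalClosure ({z} : Set G) ≤ core2 M := (closure_le _).2 fun x hx => by
    obtain ⟨z₀, hz₀, hconj'⟩ := Group.mem_conjugatesOfSet_iff.1 hx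
    rw [Set.mem_singleton_iff.1 hz₀] at hconj'
    exact hconj x hconj'
  rw [htop] at hle'
  exact H62.not_isPGroup_of_simple hnc 2
    ((c.elemD.isPGroup.to_le hle').of_equiv Subgroup.topEquiv)

/-- The second configuration. -/
theorem exists_dual [IsSimpleGroup G] (hnc : ¬ IsMulCommutative G) (ih : Below G) :
    ∃ (F' : Type) (_ : Field F') (_ : Fintype F') (Ψ' : (Fin 2 → F') → G) (lft' : SL(2, F') → G),
      Cfg (normalizer (A : Set G)) R (core2 M) n Ψ' lft' ∧ core2 (normalizer (A : Set G)) = A := by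
  haveI : Fact (Nat.Prime 2) := ⟨Nat.prime_two⟩
  set M₂ := normalizer (A : Set G) with hM₂
  have hR₂ : IsSyl R M₂ := c.syl_normA
  have hq := c.coord.four_le
  have hAb : A ≠ ⊥ := fun e => c.cardU_ne_bot (by rw [e, bot_inf_eq])
  have hM₂l : IsTwoLocal M₂ := ⟨A, hAb, c.maxE.2.1.isPGroup, rfl⟩
  have hA₂ : A ≤ core2 M₂ := le_core2 le_normalizer le_rfl c.maxE.2.1.isPGroup
  have hne : core2 M₂ ≠ R := fun e => c.normA_not_le hG hnc fun y hy =>
    c.norm_A_mem (e ▸ le_normalizer_core2 M₂ hy) hy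
  have hD₂ : ¬ core2 M ≤ core2 M₂ := fun h =>
    hne (le_antisymm hR₂.core2_le (c.R_eq.le.trans (sup_le h hA₂)))
  have hMD : MaxE R (core2 M) :=
    ⟨c.D_le_R, c.elemD, fun B hB hBe => (c.maxE.2.2 B hB hBe).trans (by rw [c.cardA, c.cardD])⟩
  have hbad : ∃ A₀ : Subgroup G, A₀ ≤ M₂ ∧ Elem A₀ ∧
      2 * Nat.card (A₀ ⊓ core2 M₂ : Subgroup G) < Nat.card A₀ := by
    refine ⟨core2 M, c.D_le_R.trans hR₂.1, c.elemD, ?_⟩
    by_contra hge
    rw [not_lt, c.cardD] at hge
    obtain ⟨d, hd, hdn⟩ := SetLike.not_le_iff_exists.1 hD₂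
    obtain ⟨w, hwM, hwp, hwo, hwd⟩ := exists_inverted_in (hR₂.1 (c.D_le_R hd))
      (orderOf_two (c.elemD d hd) (fun e => hdn (e ▸ one_mem _))) hdn
    have h1 : Nat.card (core2 M ⊓ core2 M₂ : Subgroup G) * Nat.card (core2 M ⊓ core2 M₂ : Subgroup G) ≤
        Nat.card (core2 M₂) :=
      hG.card_fix_sq (isPGroup_core2 M₂) hwd hwo
        (fun e => by rw [e, orderOf_one] at hwp; exact Nat.not_prime_one hwp)
        (le_inf inf_le_right fun x hx => mem_cent.2 (c.elemD.comm hx.1 hd))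
        fun x hx => (mem_normalizer_iff.1 (le_normalizer_core2 M₂ hwM) x).1 hx.2
    have h2 : 2 * Nat.card (core2 M₂) ≤ Nat.card R := by
      have h3 : (core2 M₂).relIndex R ≠ 1 := fun e =>
        hne (le_antisymm hR₂.core2_le (relIndex_eq_one.1 e))
      have h4 : (core2 M₂).relIndex R ≠ 0 := by rw [relIndex]; exact FiniteIndex.index_ne_zero
      rw [card_eq_mul_relIndex hR₂.core2_le, mul_comm]
      exact Nat.mul_le_mul le_rfl (by omega)
    rw [c.cardR] at h2
    have h5 : (2 ^ n * 2 ^ n) * (2 ^ n * 2 ^ n) ≤ 2 * (2 ^ n * 2 ^ n * 2 ^ n) :=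
      (Nat.mul_le_mul hge hge).trans (by nlinarith [h1, h2])
    have : 0 < 2 ^ n * 2 ^ n * 2 ^ n := by positivity
    nlinarith
  obtain ⟨F', iF', iFt', n', Ψ', lft', h'⟩ :=
    exists_coord hG hnc ih hM₂l hR₂ hMD hD₂ hbad
  letI := iF'
  letI := iFt'
  have hn : n' = n := by
    have h1 := (h'.card_A hG hR₂ hMD).1
    rw [c.cardD] at h1
    have h2 : 2 ^ n' * 2 ^ n' = 2 ^ n * 2 ^ n := h1.symm
    rw [← pow_add, ← pow_add] at h2
    have := Nat.pow_right_injective le_rfl h2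
    omega
  subst hn
  have hcore : core2 M₂ = A := by
    refine (eq_of_le_of_card_ge hA₂ ?_).symm
    exact (Subgroup.card_le_of_le (h'.core_eq_omega hG hR₂ hMD)).trans
      (le_of_eq (h'.card_omega.trans c.cardA.symm))
  exact ⟨F', iF', iFt', Ψ', lft', cfg_of_coord hG h' (by rw [hcore]) hR₂ hMD, hcore⟩

/-- Two configurations force `q = 4`. -/
theorem n_eq_two {F' : Type} [Field F'] [Fintype F'] {Ψ' : (Fin 2 → F') → G} {lft' : SL(2, F') → G}
    (c' : Cfg (normalizer (A : Set G)) R (core2 M) n Ψ' lft')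
    (hcore : core2 (normalizer (A : Set G)) = A) : n = 2 := by
  classical
  haveI := c.coord.charTwo
  haveI := c'.coord.charTwo
  haveI : Fact (Nat.Prime 2) := ⟨Nat.prime_two⟩
  have hU : ∀ u : F, ∃ s : F', Ψ ![u, 0] = Ψ' ![s, 0] := fun u =>
    c'.inf_eq _ (c.coord.mem_core _) (hcore.symm ▸ c.mem_inf u)
  choose φ hφ using hU
  have hφinj : Function.Injective φ := fun u w e => by
    have h1 : Ψ ![u, 0] = Ψ ![w, 0] := by rw [hφ u, hφ w, e]
    simpa using congrFun (c.coord.inj h1) 0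
  have hφsurj : Function.Surjective φ := fun s => by
    obtain ⟨u, hu⟩ := c.inf_eq (Ψ' ![s, 0]) (hcore ▸ c'.coord.mem_core _) (c'.mem_inf s)
    exact ⟨u, by simpa using (congrFun (c'.coord.inj (hu.trans (hφ u))) 0).symm⟩
  have hφadd : ∀ u w, φ (u + w) = φ u + φ w := fun u w => by
    have e : Ψ' ![φ (u + w), 0] = Ψ' ![φ u + φ w, 0] := by
      rw [← hφ, show (![u + w, 0] : Fin 2 → F) = ![u, 0] + ![w, 0] by simp, c.coord.map_add, hφ, hφ,
        ← c'.coord.map_add]
      simp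
    simpa using congrFun (c'.coord.inj e) 0
  have hφ0 : φ 0 = 0 := by simpa using hφadd 0 0
  choose α hαA hαx using c.coord.upSurj
  have hvec : ∀ a ∈ A, ∃ v, Ψ' v = a := fun a ha => c'.surj a (hcore.symm ▸ ha)
  choose vv hvv using hvec
  set θ : F → F' := fun x => vv (α x) (hαA x) 1 with hθ
  have hkey : ∀ a, a ∈ A → ∀ x, c.coord.Acts a (H37.upper2 x) → ∀ v, Ψ' v = a → v 1 = θ x := by
    intro a ha x hx v hv
    have h1 := c.coord.acts_mul hx (c.coord.acts_inv (c.coord.acts_up (hαx x)))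
    rw [mul_inv_cancel] at h1
    have hmem : a * (α x)⁻¹ ∈ A := mul_mem ha (inv_mem (hαA x))
    obtain ⟨s, hs⟩ := c'.inf_eq _ (c.coord.mem_core_of_acts_one (c.syl.1 (c.A_le_R hmem)) h1)
      (hcore.symm ▸ hmem)
    have h2 : Ψ' v = Ψ' (![s, 0] + vv (α x) (hαA x)) := by
      rw [c'.coord.map_add, hvv, ← hs, inv_mul_cancel_right, hv]
    rw [c'.coord.inj h2, hθ]
    simp
  have hθadd : ∀ x y, θ (x + y) = θ x + θ y := by
    intro x y
    have h1 := c.coord.acts_mul (c.coord.acts_up (hαx x)) (c.coord.acts_up (hαx y))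
    rw [H78.Nat2.up_mul] at h1
    have := hkey _ (mul_mem (hαA x) (hαA y)) _ h1 (vv (α x) (hαA x) + vv (α y) (hαA y))
      (by rw [c'.coord.map_add, hvv, hvv])
    rw [← this]
    rfl
  have hθne : θ 1 ≠ 0 := by
    intro h0
    have hv : Ψ' (vv (α 1) (hαA 1)) = α 1 := hvv _ _
    have : α 1 ∈ core2 M := by
      rw [← hv, c'.coord.vec_eq hG c'.syl c'.maxE (vv (α 1) (hαA 1)), show vv (α 1) (hαA 1) 1 = 0 from h0]
      exact c'.mem_inf _
    have := c.coord.acts_unique (c.coord.acts_up (hαx 1)) (c.coord.acts_core this)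
    simpa [H37.coe_upper2] using congrArg (fun g : SL(2, F) => g 0 1) this
  -- the torus seen from both sides
  have hlaw : ∀ (t : Fˣ) (x : F), θ ((t : F) ^ 2 * x) * φ t = φ 1 * θ x := by
    intro t x
    have hφt : φ (t : F) ≠ 0 := fun e => t.ne_zero (hφinj (e.trans hφ0.symm))
    have hφ1 : φ 1 ≠ 0 := fun e => one_ne_zero (hφinj (e.trans hφ0.symm))
    set s : F'ˣ := Units.mk0 (φ t / φ 1) (div_ne_zero hφt hφ1) with hs
    set τ := lft (H78.Nat2.hh t) with hτ
    set σ := lft' (H78.Nat2.hh s) with hσ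
    have hσR : σ ∈ normalizer (R : Set G) := c'.torus_normR s
    have hσM : σ ∈ M := c.norm_A_mem hσR (c'.coord.lft_mem _)
    set r := σ⁻¹ * τ with hr
    have hrz : r * Ψ ![1, 0] * r⁻¹ = Ψ ![1, 0] := by
      have e1 : σ * Ψ ![1, 0] * σ⁻¹ = τ * Ψ ![1, 0] * τ⁻¹ := by
        rw [c.torus_U, mul_one, hφ 1, c'.torus_U, hφ t]
        congr 3
        show φ t / φ 1 * φ 1 = φ t
        exact div_mul_cancel₀ _ hφ1
      rw [hr, show σ⁻¹ * τ * Ψ ![1, 0] * (σ⁻¹ * τ)⁻¹ = σ⁻¹ * (τ * Ψ ![1, 0] * τ⁻¹) * σ by group, ← e1]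
      group
    have hz1 : Ψ ![1, 0] ≠ 1 := fun e => by
      simpa using congrFun (c.coord.inj (e.trans c.coord.map_zero.symm)) 0
    obtain ⟨k, hk⟩ := orderOf_eq_two_pow (hG _ (orderOf_two (c.coord.sq _) hz1))
      (mem_cent.2 (mul_inv_eq_iff_eq_mul.1 hrz))
    have hrR : r ∈ R := c.syl.mem_of_two (mul_mem (inv_mem hσM) (c.coord.lft_mem _))
      (mul_mem (inv_mem hσR) (c.torus_normR t)) hk
    set a := α x
    have ha : a ∈ A := hαA x
    have hcm : r * a * r⁻¹ * a⁻¹ ∈ (A ⊓ core2 M : Subgroup G) := by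
      obtain ⟨d, hd, a', ha', hda⟩ := c.decomp r hrR
      rw [hda, show d * a' * a * (d * a')⁻¹ = d * (a' * a * a'⁻¹) * d⁻¹ by group,
        c.maxE.2.1.comm ha' ha, mul_inv_cancel_right]
      exact c.conj_omega ha hd
    obtain ⟨u, hu⟩ := c'.inf_eq _ hcm.2 (hcore.symm ▸ hcm.1)
    set v := vv a ha with hv
    have e1 : τ * a * τ⁻¹ =
        Ψ' ((H78.Nat2.hh s : Matrix (Fin 2) (Fin 2) F').mulVec (![u, 0] + v)) := by
      rw [← c'.coord.act, c'.coord.map_add, hv, hvv, ← hu, hr, hσ]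
      group
    have hmem : τ * a * τ⁻¹ ∈ A := (mem_normalizer_iff.1 (c.torus_normA t) a).1 ha
    have h1 := hkey _ hmem _ (c.torus_conj_A t ha (c.coord.acts_up (hαx x))) _ e1.symm
    rw [← h1, hh_vec, Matrix.cons_val_one, Matrix.cons_val_fin_one, Pi.add_apply, Matrix.cons_val_one,
      Matrix.cons_val_fin_one, zero_add, hs, Units.val_mk0, inv_div,
      show v 1 = θ x from hkey a ha x (c.coord.acts_up (hαx x)) v (hvv a ha)]
    field_simp
  have hF' : Fintype.card F' ≤ 4 := by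
    refine Semi.card_le_four fun p hp0 hp1 => ?_
    have hφ1 : φ 1 ≠ 0 := fun e => one_ne_zero (hφinj (e.trans hφ0.symm))
    obtain ⟨t, ht⟩ := hφsurj (p * φ 1)
    have ht0 : t ≠ 0 := fun e => mul_ne_zero hp0 hφ1 (by rw [← ht, e, hφ0])
    have ht1 : t + 1 ≠ 0 := fun e => hp1 (mul_right_cancel₀ hφ1 (by
      rw [← ht, one_mul, eq_neg_of_add_eq_zero_left e, CharTwo.neg_eq]))
    have l1 := hlaw (Units.mk0 t ht0) 1
    have l2 := hlaw (Units.mk0 (t + 1) ht1) 1
    rw [Units.val_mk0, mul_one] at l1 l2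
    rw [show (t + 1) ^ 2 = t ^ 2 + 1 by linear_combination t * (CharTwo.two_eq_zero (R := F)),
      hθadd, hφadd, ht] at l2
    rw [ht] at l1
    have h2 : (2 : F') = 0 := CharTwo.two_eq_zero
    have e1 : θ 1 * φ 1 * (p ^ 2 + p + 1) = 0 := by
      linear_combination p * l2 - (p + 1) * l1
    exact (mul_eq_zero.1 e1).resolve_left (mul_ne_zero hθne hφ1)
  rw [c'.coord.cardF] at hF'
  have := c.coord.two_le
  have := (Nat.pow_le_pow_iff_right (by norm_num : 1 < 2)).1 (show 2 ^ n ≤ 2 ^ 2 by norm_num; omega)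
  omega

end Cfg

end H11.CIT
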