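import Cfsg.Agent.H11.CIT.Lift
import Cfsg.Agent.H67.SECount
import Cfsg.Agent.H65.StronglyEmbedded

/-!
If the elementary Thompson subgroup of every 2-local subgroup lies in its 2-core, or the local can be
enlarged, then distinct Sylow 2-subgroups meet trivially.
-/

set_option autoImplicit false
set_option linter.style.haveILetI false
set_option linter.unusedSectionVars false

namespace H11.CIT

open Subgroup
open scoped Pointwise

universe u

variable {G : Type u} [Group G] [Finite G]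

/-- No non-trivial normal 2-subgroup. -/
def NoNormalTwo (G : Type u) [Group G] : Prop :=
  ∀ K : Subgroup G, K.Normal → IsPGroup 2 K → K = ⊥

/-- Normalisers of non-trivial 2-subgroups. -/
def IsTwoLocal (M : Subgroup G) : Prop :=
  ∃ P : Subgroup G, P ≠ ⊥ ∧ IsPGroup 2 P ∧ M = normalizer (P : Set G)

/-- The Thompson subgroups of the Sylow 2-subgroups of `M` lie in its 2-core. -/
def JClosed (M : Subgroup G) : Prop := ∀ R, IsSyl R M → jE R ≤ core2 M

/-- `M` lies in a 2-local subgroup with a larger 2-part. -/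
def Progress (M : Subgroup G) : Prop :=
  ∃ M₁ R R₁ : Subgroup G, IsTwoLocal M₁ ∧ M ≤ M₁ ∧ IsSyl R M ∧ IsSyl R₁ M₁ ∧
    Nat.card R < Nat.card R₁

theorem IsSyl.card_eq {R R' M : Subgroup G} (h : IsSyl R M) (h' : IsSyl R' M) :
    Nat.card R = Nat.card R' :=
  le_antisymm (h'.card_le h.1 h.2.1) (h.card_le h'.1 h'.2.1)

theorem jE_eq_core {M R : Subgroup G} (hM : JClosed M) (hR : IsSyl R M) :
    jE R = jE (core2 M) :=
  jE_eq hR.core2_le (hM R hR)

variable (hloc : ∀ M : Subgroup G, IsTwoLocal M → JClosed M ∨ Progress M)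
include hloc

theorem jE_eq_aux {m : ℕ}
    (ih : ∀ S T : Sylow 2 G, m < Nat.card ((S : Subgroup G) ⊓ (T : Subgroup G) : Subgroup G) →
      jE (S : Subgroup G) = jE (T : Subgroup G)) :
    ∀ (n : ℕ) (S T : Sylow 2 G) (M R Pa Pb : Subgroup G), IsTwoLocal M → IsSyl R M →
      Nat.card (S : Subgroup G) ≤ n + Nat.card R → Pa ≤ M → Pa ≤ (S : Subgroup G) → Pb ≤ M →
      Pb ≤ (T : Subgroup G) → m < Nat.card Pa → m < Nat.card Pb →
      jE (S : Subgroup G) = jE (T : Subgroup G) := by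
  intro n
  induction n using Nat.strong_induction_on with
  | _ n IH =>
  intro S T M R Pa Pb hM hR hn hPaM hPaS hPbM hPbT ha hb
  obtain ⟨Ra, hPaR, hRa⟩ := exists_isSyl hPaM (S.isPGroup'.to_le hPaS)
  obtain ⟨Rb, hPbR, hRb⟩ := exists_isSyl hPbM (T.isPGroup'.to_le hPbT)
  have step : ∀ M₁ R₁ : Subgroup G, IsTwoLocal M₁ → M ≤ M₁ → IsSyl R₁ M₁ →
      Nat.card R < Nat.card R₁ → jE (S : Subgroup G) = jE (T : Subgroup G) := by
    intro M₁ R₁ hM₁ hle hR₁ hlt
    have h1 := card_le_sylow S hR₁.2.1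
    exact IH (Nat.card (S : Subgroup G) - Nat.card R₁) (by omega) S T M₁ R₁ Pa Pb hM₁ hR₁
      (by omega) (hPaM.trans hle) hPaS (hPbM.trans hle) hPbT ha hb
  rcases hloc M hM with hJ | ⟨M₁, R₀, R₁, hM₁, hle, hR₀, hR₁, hlt⟩
  · obtain ⟨Sa, hSa⟩ := hRa.2.1.exists_le_sylow
    by_cases hfull : Nat.card (S : Subgroup G) ≤ Nat.card Ra
    · obtain ⟨Sa, hSa⟩ := eq_sylow_of_card S hRa.2.1 hfull
      obtain ⟨Sb, hSb⟩ := eq_sylow_of_card S hRb.2.1 (hfull.trans (hRa.card_eq hRb).le)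
      have h1 := ih S Sa (ha.trans_le (Subgroup.card_le_of_le (le_inf hPaS (hSa ▸ hPaR))))
      have h2 := ih T Sb (hb.trans_le (Subgroup.card_le_of_le (le_inf hPbT (hSb ▸ hPbR))))
      rw [h1, h2, hSa, hSb, jE_eq_core hJ hRa, jE_eq_core hJ hRb]
    · have hne : Ra ≠ ⊥ := fun e => by
        obtain ⟨P, hP, hP2, rfl⟩ := hM
        have h3 := hRa.card_le le_normalizer hP2
        rw [e, Subgroup.card_bot] at h3
        exact hP (Subgroup.eq_bot_of_card_le P h3)
      have hRaSa : Ra ≠ (Sa : Subgroup G) := fun e => hfull (by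
        rw [e]; exact le_of_eq (Nat.card_congr (S.equiv Sa).toEquiv))
      obtain ⟨y, hy, hyR, hyN⟩ := exists_mem_normalizer Sa.isPGroup' hSa hRaSa
      have hMle : M ≤ normalizer (jE Ra : Set G) := by
        rw [jE_eq_core hJ hRa]
        exact (le_normalizer_core2 M).trans (normalizer_le_jE _)
      have hQle : Ra ⊔ zpowers y ≤ normalizer (jE Ra : Set G) :=
        sup_le (le_normalizer.trans (normalizer_le_jE Ra))
          (zpowers_le.2 (normalizer_le_jE Ra hyN))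
      obtain ⟨R₁, hle₁, hR₁⟩ := exists_isSyl hQle
        (Sa.isPGroup'.to_le (sup_le hSa (zpowers_le.2 hy)))
      refine step _ R₁ ⟨jE Ra, jE_ne_bot hRa.2.1 hne, hRa.2.1.to_le (jE_le Ra), rfl⟩ hMle hR₁
        ((hR.card_eq hRa).le.trans_lt ?_)
      refine lt_of_lt_of_le ?_ (Subgroup.card_le_of_le hle₁)
      refine lt_of_le_of_ne (Subgroup.card_le_of_le le_sup_left) fun e => hyR ?_
      rw [eq_of_le_of_card_ge (le_sup_left : Ra ≤ Ra ⊔ zpowers y) e.ge]
      exact le_sup_right (a := Ra) (mem_zpowers y)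
  · exact step M₁ R₁ hM₁ hle hR₁ ((hR.card_eq hR₀).le.trans_lt hlt)

/-- Sylow 2-subgroups meeting non-trivially have the same Thompson subgroup. -/
theorem jE_eq_of_inf_ne_bot (S T : Sylow 2 G) (h : (S : Subgroup G) ⊓ (T : Subgroup G) ≠ ⊥) :
    jE (S : Subgroup G) = jE (T : Subgroup G) := by
  induction hm : Nat.card (S : Subgroup G) - Nat.card ((S : Subgroup G) ⊓ (T : Subgroup G) : Subgroup G)
      using Nat.strong_induction_on generalizing S T with
  | _ m IH =>
  set P : Subgroup G := (S : Subgroup G) ⊓ (T : Subgroup G) with hP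
  by_cases hPS : P = (S : Subgroup G)
  · rw [Sylow.ext (S.3 T.isPGroup' (hPS ▸ inf_le_right)).symm]
  have hcard : Nat.card (S : Subgroup G) = Nat.card (T : Subgroup G) :=
    Nat.card_congr (S.equiv T).toEquiv
  have hPT : P ≠ (T : Subgroup G) := fun e => hPS
    (eq_of_le_of_card_ge inf_le_left (by rw [hcard, e]))
  have hPp : IsPGroup 2 P := S.isPGroup'.to_le inf_le_left
  obtain ⟨ya, hya, hyaP, hyaN⟩ := exists_mem_normalizer S.isPGroup' inf_le_left hPS
  obtain ⟨yb, hyb, hybP, hybN⟩ := exists_mem_normalizer T.isPGroup' inf_le_right hPT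
  have hbig : ∀ y : G, y ∉ P → Nat.card P < Nat.card (P ⊔ zpowers y : Subgroup G) := fun y hy =>
    lt_of_le_of_ne (Subgroup.card_le_of_le le_sup_left) fun e => hy (by
      rw [eq_of_le_of_card_ge (le_sup_left : P ≤ P ⊔ zpowers y) e.ge]
      exact le_sup_right (a := P) (mem_zpowers y))
  obtain ⟨R, -, hR⟩ := exists_isSyl (le_normalizer : P ≤ normalizer (P : Set G)) hPp
  refine jE_eq_aux hloc (m := Nat.card P) ?_ (Nat.card (S : Subgroup G)) S T _ R (P ⊔ zpowers ya)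
    (P ⊔ zpowers yb) ⟨P, h, hPp, rfl⟩ hR (Nat.le_add_right _ _)
    (sup_le le_normalizer (zpowers_le.2 hyaN)) (sup_le inf_le_left (zpowers_le.2 hya))
    (sup_le le_normalizer (zpowers_le.2 hybN)) (sup_le inf_le_right (zpowers_le.2 hyb))
    (hbig ya hyaP) (hbig yb hybP)
  intro S' T' hlt
  have hne : (S' : Subgroup G) ⊓ (T' : Subgroup G) ≠ ⊥ := fun e => by
    rw [e, Subgroup.card_bot] at hlt
    exact absurd hlt (by have := (Nat.card_pos : 0 < Nat.card P); omega)
  have h1 : Nat.card ((S' : Subgroup G) ⊓ (T' : Subgroup G) : Subgroup G) ≤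
      Nat.card (S' : Subgroup G) := Subgroup.card_le_of_le inf_le_left
  have hS' : Nat.card (S' : Subgroup G) = Nat.card (S : Subgroup G) :=
    Nat.card_congr (S'.equiv S).toEquiv
  exact IH _ (by omega) S' T' hne rfl

variable (hG : IsCIT G) (h2 : NoNormalTwo G)
include hG h2

/-- Distinct Sylow 2-subgroups meet trivially. -/
theorem sylow_ti (S T : Sylow 2 G) (hne : S ≠ T) : (S : Subgroup G) ⊓ (T : Subgroup G) = ⊥ := by
  by_contra hinf
  have hSb : (S : Subgroup G) ≠ ⊥ := fun e => hinf (by rw [e, bot_inf_eq])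
  obtain ⟨t, htS, ht⟩ := exists_invol (S.isPGroup'.to_le (jE_le _)) (jE_ne_bot S.isPGroup' hSb)
  set H := normalizer (jE (S : Subgroup G) : Set G) with hH
  have hSH : (S : Subgroup G) ≤ H := le_normalizer.trans (normalizer_le_jE _)
  have hsylH := isSyl_sylow S hSH
  have hHtop : H ≠ ⊤ := fun e => by
    haveI : (jE (S : Subgroup G)).Normal := normalizer_eq_top_iff.1 e
    exact jE_ne_bot S.isPGroup' hSb (h2 _ inferInstance (S.isPGroup'.to_le (jE_le _)))
  have hmem : ∀ c u : G, u ∈ (S : Subgroup G) → u ≠ 1 → c * u * c⁻¹ ∈ (S : Subgroup G) → c ∈ H := by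
    intro c u hu hu1 hcu
    have hinf' : (S : Subgroup G) ⊓ ((c • S : Sylow 2 G) : Subgroup G) ≠ ⊥ := fun e => hu1 (by
      have h3 : c * u * c⁻¹ ∈ (S : Subgroup G) ⊓ ((c • S : Sylow 2 G) : Subgroup G) :=
        ⟨hcu, by rw [Sylow.coe_subgroup_smul]; exact H2.conj_smul_mem hu⟩
      rw [e, mem_bot] at h3
      exact conj_eq_one_iff.1 h3)
    have h4 := jE_eq_of_inf_ne_bot hloc S (c • S) hinf'
    rw [hH, mem_normalizer_iff_map_conj_eq]
    exact (map_jE (MulAut.conj c) _).trans ((congrArg jE (Sylow.coe_subgroup_smul (g := c) (P := S))).symm.trans h4.symm)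
  have hcore : t ∈ core2 H :=
    le_core2 ((jE_le _).trans hSH) le_rfl (S.isPGroup'.to_le (jE_le _)) htS
  have hse : Cfsg.IsStronglyEmbedded H := by
    refine (H65.se_iff hHtop (H65.even_card_of_mem (core2_le H hcore) ht)).2 ?_
    intro s g hs hsH hg
    have hz : ∀ {v : G}, v ∈ H → orderOf v = 2 → zpowers v ≤ H ∧ IsPGroup 2 (zpowers v) :=
      fun {v} hv hv2 => ⟨zpowers_le.2 hv,
        IsPGroup.of_card (n := 1) (by rw [Nat.card_zpowers, hv2, pow_one])⟩
    obtain ⟨h₁, hh₁, k₁⟩ := hsylH.conj_of_isPGroup (hz hsH hs).1 (hz hsH hs).2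
    have hs' : orderOf (g⁻¹ * s * g) = 2 := by
      rw [show g⁻¹ * s * g = MulAut.conj g⁻¹ s by simp, MulEquiv.orderOf_eq, hs]
    obtain ⟨h₂, hh₂, k₂⟩ := hsylH.conj_of_isPGroup (hz hg hs').1 (hz hg hs').2
    have hc : h₂ * g⁻¹ * h₁⁻¹ ∈ H := by
      refine hmem _ _ (k₁ s (mem_zpowers s))
        (fun e => H65.ne_one_of_two hs (conj_eq_one_iff.1 e)) ?_
      rw [show h₂ * g⁻¹ * h₁⁻¹ * (h₁ * s * h₁⁻¹) * (h₂ * g⁻¹ * h₁⁻¹)⁻¹ =
        h₂ * (g⁻¹ * s * g) * h₂⁻¹ by group]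
      exact k₂ _ (mem_zpowers _)
    rw [← inv_mem_iff, show g⁻¹ = h₂⁻¹ * (h₂ * g⁻¹ * h₁⁻¹) * h₁ by group]
    exact mul_mem (mul_mem (inv_mem hh₂) hc) hh₁
  have hScore : (S : Subgroup G) = core2 H := by
    by_contra hne'
    obtain ⟨a, haH, ha, hac⟩ := exists_invol_out hG hsylH hne'
    obtain ⟨k, hk, rfl⟩ := H67.se_conj_in hse ht (core2_le H hcore) ha haH
    exact hac ((mem_normalizer_iff.1 (le_normalizer_core2 H hk) t).1 hcore)
  have hTH : (T : Subgroup G) ≤ H := by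
    rw [hH, jE_eq_of_inf_ne_bot hloc S T hinf]
    exact le_normalizer.trans (normalizer_le_jE _)
  obtain ⟨k, hk, hkT⟩ := hsylH.conj_of_isPGroup hTH T.isPGroup'
  refine hne (Sylow.ext (T.is_maximal' S.isPGroup' fun x hx => ?_))
  rw [hScore] at hkT ⊢
  exact (mem_normalizer_iff.1 (le_normalizer_core2 H hk) x).2 (hkT x hx)

end H11.CIT
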